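import Groth.Prelude.Def_EssEt
import Groth.Agent.S0501
import Groth.Agent.Lib.Helper14.EssEtale

set_option autoImplicit false
set_option linter.style.haveILetI false
universe u

namespace Groth.Agent.Lib.Helper35.EssEtaleLift

open IsLocalRing

theorem existsUnique_lift (A A' : Type u) [CommRing A] [IsLocalRing A]
    [CommRing A'] [IsLocalRing A'] [Algebra A A'] [IsLocalHom (algebraMap A A')]
    (hA' : EGA4loc.IsEssentiallyEtale A A')
    (B : Type u) [CommRing B] [HenselianLocalRing B]
    (ψ : A →+* B) [IsLocalHom ψ]
    (α : ResidueField A' →+* ResidueField B)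
    (hα : α.comp (ResidueField.map (algebraMap A A')) = ResidueField.map ψ) :
    ∃! ψ' : A' →+* B, IsLocalHom ψ' ∧ ψ'.comp (algebraMap A A') = ψ ∧
      ∀ x : A', residue B (ψ' x) = α (residue A' x) := by
  obtain ⟨hunr, hess⟩ := Groth.Agent.Lib.Helper14.formallyUnramified_of_isEssentiallyEtale hA'
  obtain ⟨C, _, _, q, _, hC, hq, ⟨e⟩⟩ := hA'
  letI : Algebra A B := ψ.toAlgebra
  have halg : algebraMap A B = ψ := rfl
  -- local property from the residue condition
  have hlocal : ∀ ψ' : A' →+* B, (∀ x : A', residue B (ψ' x) = α (residue A' x)) → IsLocalHom ψ' := by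
    intro ψ' h3
    constructor
    intro x hx
    by_contra hnu
    have h0 : residue A' x = 0 := (residue_eq_zero_iff _).mpr ((mem_maximalIdeal _).mpr hnu)
    have h1 : residue B (ψ' x) = 0 := by rw [h3, h0, map_zero]
    exact ((residue_eq_zero_iff _).mp h1) hx
  -- existence
  haveI : IsLocalHom (e.symm : Localization.AtPrime q →+* A') := inferInstance
  let τ : q.ResidueField →+* ResidueField B :=
    α.comp (ResidueField.map (e.symm : Localization.AtPrime q →+* A'))
  have hτ : τ.comp (algebraMap A q.ResidueField) = (residue B).comp (algebraMap A B) := by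
    ext a
    have h1 : algebraMap A q.ResidueField a =
        residue (Localization.AtPrime q) (algebraMap A (Localization.AtPrime q) a) := rfl
    simp only [RingHom.coe_comp, Function.comp_apply, τ, h1, ResidueField.map_residue]
    have h2 : (e.symm : Localization.AtPrime q →+* A') (algebraMap A (Localization.AtPrime q) a) =
        algebraMap A A' a := e.symm.commutes a
    rw [h2, ← ResidueField.map_residue, ← RingHom.comp_apply, hα, ResidueField.map_residue, halg]
  obtain ⟨f, ⟨hf1, hf2⟩, -⟩ := Groth.Agent.S0501.result A B C q τ hτ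
  have hfu : ∀ y : q.primeCompl, IsUnit (f y) := by
    intro y
    by_contra hnu
    have : (y : C) ∈ Ideal.comap f.toRingHom (maximalIdeal B) := (mem_maximalIdeal _).mpr hnu
    rw [hf1] at this
    exact y.2 this
  let g : Localization.AtPrime q →ₐ[A] B := IsLocalization.liftAlgHom (M := q.primeCompl) hfu
  have hg : ∀ c : C, g (algebraMap C (Localization.AtPrime q) c) = f c := by
    intro c
    exact IsLocalization.lift_eq hfu c
  have hres : (residue B).comp g.toRingHom = τ.comp (residue (Localization.AtPrime q)) := by
    apply IsLocalization.ringHom_ext q.primeCompl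
    ext c
    simp only [RingHom.coe_comp, Function.comp_apply, AlgHom.toRingHom_eq_coe, RingHom.coe_coe, hg]
    exact hf2 c
  let ψ' : A' →ₐ[A] B := g.comp e.toAlgHom
  have h3 : ∀ x : A', residue B (ψ' x) = α (residue A' x) := by
    intro x
    have h1 := RingHom.congr_fun hres (e x)
    simp only [RingHom.coe_comp, Function.comp_apply, AlgHom.toRingHom_eq_coe, RingHom.coe_coe, τ,
      ResidueField.map_residue] at h1
    rw [e.symm_apply_apply] at h1
    exact h1
  refine ⟨ψ'.toRingHom, ⟨hlocal _ h3, ?_, h3⟩, ?_⟩
  · rw [← halg]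
    exact ψ'.comp_algebraMap
  · rintro ψ'' ⟨_, h2'', h3''⟩
    let ψ''ₐ : A' →ₐ[A] B := { ψ'' with commutes' := fun a => RingHom.congr_fun h2'' a }
    have : ψ''ₐ = ψ' := by
      apply Groth.Agent.Lib.Helper14.algHom_eq_of_residue_eq
      intro x
      rw [h3 x]
      exact h3'' x
    rw [← this]

end Groth.Agent.Lib.Helper35.EssEtaleLift
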