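import Mathlib.AlgebraicGeometry.Fiber
import Mathlib.AlgebraicGeometry.Stalk

set_option autoImplicit false
set_option maxHeartbeats 400000
set_option backward.isDefEq.respectTransparency.types false
universe u
open CategoryTheory CategoryTheory.Limits AlgebraicGeometry TopologicalSpace

namespace Groth.Agent.Lib.Helper35.FiberStalk

open IsLocalRing

/-- general: for `G = Spec.map f ≫ X.fromSpecStalk x`, the closed-point stalk map of `G` on germs. -/
theorem sCPT_germ {X : Scheme.{u}} {x : X} {B : CommRingCat.{u}} [IsLocalRing B]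
    (f : X.presheaf.stalk x ⟶ B) [IsLocalHom f.hom]
    (G : Spec B ⟶ X) (hG : G = Spec.map f ≫ X.fromSpecStalk x) (U : X.Opens)
    (hU : G.base (closedPoint B) ∈ U) (hxU : x ∈ U) (σ : Γ(X, U)) :
    (Scheme.stalkClosedPointTo G).hom (X.presheaf.germ U _ hU σ) = f.hom (X.presheaf.germ U x hxU σ) := by
  subst hG
  have := Scheme.germ_stalkClosedPointTo_Spec_fromSpecStalk f U hU
  exact congr(($this).hom σ)

/-- descend a ring hom from a stalk killing the maximal ideal to the residue field. -/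
noncomputable def descRes {S : Scheme.{u}} (y : S) {B : Type u} [CommRing B]
    (f : S.presheaf.stalk y →+* B) (hf : ∀ a ∈ maximalIdeal (S.presheaf.stalk y), f a = 0) :
    S.residueField y ⟶ CommRingCat.of B :=
  CommRingCat.ofHom (Ideal.Quotient.lift (maximalIdeal (S.presheaf.stalk y)) f hf)

theorem residue_descRes {S : Scheme.{u}} (y : S) {B : Type u} [CommRing B]
    (f : S.presheaf.stalk y →+* B) (hf : ∀ a ∈ maximalIdeal (S.presheaf.stalk y), f a = 0) :
    S.residue y ≫ descRes y f hf = CommRingCat.ofHom f := by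
  ext a
  rfl

theorem fiberι_base_eq {X S : Scheme.{u}} (h : X ⟶ S) (s : S) (x' : h.fiber s) :
    h.base ((h.fiberι s).base x') = s := by
  have : (h.fiberι s).base x' ∈ Set.range (h.fiberι s) := ⟨x', rfl⟩
  rw [Scheme.Hom.range_fiberι] at this
  exact this

theorem ker_stalkMap_fiberι_le {X S : Scheme.{u}} (h : X ⟶ S) (s : S) (x' : h.fiber s) :
    RingHom.ker ((h.fiberι s).stalkMap x').hom ≤
      (maximalIdeal (S.presheaf.stalk (h.base ((h.fiberι s).base x')))).map
        (h.stalkMap ((h.fiberι s).base x')).hom := by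
  obtain ⟨ι, hι⟩ : ∃ ι : h.fiber s ⟶ X, ι = h.fiberι s := ⟨_, rfl⟩
  rw [← hι]
  obtain ⟨x, hx⟩ : ∃ x : X, x = ι.base x' := ⟨_, rfl⟩
  have hs : h.base x = s := by rw [hx, hι]; exact fiberι_base_eq h s x'
  obtain ⟨𝔞, h𝔞def⟩ : ∃ 𝔞 : Ideal (X.presheaf.stalk x), 𝔞 =
      (maximalIdeal (S.presheaf.stalk (h.base x))).map (h.stalkMap x).hom := ⟨_, rfl⟩
  have h𝔞 : 𝔞 ≤ maximalIdeal (X.presheaf.stalk x) := by
    rw [h𝔞def]
    rw [Ideal.map_le_iff_le_comap]
    intro a ha
    rw [Ideal.mem_comap, mem_maximalIdeal, mem_nonunits_iff]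
    intro hu
    exact (mem_maximalIdeal a).mp ha (isUnit_of_map_unit (h.stalkMap x).hom a hu)
  have h𝔞top : 𝔞 ≠ ⊤ := fun h0 =>
    (maximalIdeal.isMaximal _).ne_top (top_le_iff.mp (h0 ▸ h𝔞))
  haveI : Nontrivial (X.presheaf.stalk x ⧸ 𝔞) := Ideal.Quotient.nontrivial_iff.mpr h𝔞top
  haveI : IsLocalRing (X.presheaf.stalk x ⧸ 𝔞) :=
    IsLocalRing.of_surjective' (Ideal.Quotient.mk 𝔞) Ideal.Quotient.mk_surjective
  let qm : X.presheaf.stalk x ⟶ CommRingCat.of (X.presheaf.stalk x ⧸ 𝔞) :=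
    CommRingCat.ofHom (Ideal.Quotient.mk 𝔞)
  haveI : IsLocalHom qm.hom := IsLocalHom.of_surjective _ Ideal.Quotient.mk_surjective
  let α : Spec (CommRingCat.of (X.presheaf.stalk x ⧸ 𝔞)) ⟶ X := Spec.map qm ≫ X.fromSpecStalk x
  have hkill : ∀ a ∈ maximalIdeal (S.presheaf.stalk (h.base x)),
      ((Ideal.Quotient.mk 𝔞).comp (h.stalkMap x).hom) a = 0 := fun a ha =>
    Ideal.Quotient.eq_zero_iff_mem.mpr (h𝔞def ▸ Ideal.mem_map_of_mem _ ha)
  let ρ : S.residueField (h.base x) ⟶ CommRingCat.of (X.presheaf.stalk x ⧸ 𝔞) :=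
    descRes (h.base x) ((Ideal.Quotient.mk 𝔞).comp (h.stalkMap x).hom) hkill
  have hρ : S.residue (h.base x) ≫ ρ = h.stalkMap x ≫ qm :=
    residue_descRes (h.base x) _ hkill
  let β : Spec (CommRingCat.of (X.presheaf.stalk x ⧸ 𝔞)) ⟶ Spec (S.residueField s) :=
    Spec.map ρ ≫ Spec.map (S.residueFieldCongr hs.symm).hom
  have hαβ : α ≫ h = β ≫ S.fromSpecResidueField s := by
    show (Spec.map qm ≫ X.fromSpecStalk x) ≫ h =
      (Spec.map ρ ≫ Spec.map (S.residueFieldCongr hs.symm).hom) ≫ S.fromSpecResidueField s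
    rw [Category.assoc, Category.assoc, Scheme.residueFieldCongr_fromSpecResidueField,
      Scheme.fromSpecResidueField, ← Category.assoc (Spec.map ρ), ← Spec.map_comp, hρ,
      Spec.map_comp, Category.assoc, Scheme.SpecMap_stalkMap_fromSpecStalk]
  subst hι
  let γ : Spec (CommRingCat.of (X.presheaf.stalk x ⧸ 𝔞)) ⟶ h.fiber s :=
    pullback.lift α β hαβ
  have hγ : γ ≫ h.fiberι s = Spec.map qm ≫ X.fromSpecStalk x := pullback.lift_fst _ _ _
  have hz : γ.base (closedPoint (X.presheaf.stalk x ⧸ 𝔞)) = x' := by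
    apply (h.fiberι s).isEmbedding.injective
    rw [← Scheme.Hom.comp_apply, hγ, Scheme.Hom.comp_apply]
    have h1 : (Spec.map qm).base (closedPoint (X.presheaf.stalk x ⧸ 𝔞)) =
        closedPoint (X.presheaf.stalk x) := Spec_closedPoint (f := qm)
    rw [h1, Scheme.fromSpecStalk_closedPoint, hx]
  intro t ht
  rw [RingHom.mem_ker] at ht
  subst hx
  obtain ⟨U, hxU, σ, rfl⟩ := X.presheaf.exists_germ_eq t
  rw [Scheme.Hom.germ_stalkMap_apply] at ht
  have h1 : ∀ (y : h.fiber s) (hy : y = x') (hyU : y ∈ (h.fiberι s) ⁻¹ᵁ U),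
      (h.fiber s).presheaf.germ ((h.fiberι s) ⁻¹ᵁ U) y hyU ((h.fiberι s).app U σ) = 0 := by
    rintro y rfl hyU
    exact ht
  have hzU : γ.base (closedPoint (X.presheaf.stalk ((h.fiberι s).base x') ⧸ 𝔞)) ∈
      (h.fiberι s) ⁻¹ᵁ U := by
    rw [hz]
    exact hxU
  have h2 := h1 _ hz hzU
  have h3 := sCPT_germ qm (γ ≫ h.fiberι s) hγ U hzU hxU σ
  rw [Scheme.stalkClosedPointTo_comp] at h3
  have h4 : ((h.fiberι s).stalkMap _ ≫ Scheme.stalkClosedPointTo γ).hom
      (X.presheaf.germ U _ hzU σ) = 0 := by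
    show (Scheme.stalkClosedPointTo γ).hom ((h.fiberι s).stalkMap _ (X.presheaf.germ U _ hzU σ)) = 0
    rw [Scheme.Hom.germ_stalkMap_apply, h2, map_zero]
  have h5 : (Ideal.Quotient.mk 𝔞) (X.presheaf.germ U _ hxU σ) = 0 := h3.symm.trans h4
  rw [← h𝔞def]
  exact Ideal.Quotient.eq_zero_iff_mem.mp h5

theorem stalk_spec_field_eq_zero {K : Type u} [Field K] (p : Spec (CommRingCat.of K))
    (a : (Spec (CommRingCat.of K)).presheaf.stalk p) (ha : ¬ IsUnit a) : a = 0 := by
  obtain rfl : p = closedPoint K := Subsingleton.elim (α := PrimeSpectrum K) _ _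
  let e := stalkClosedPointIso (CommRingCat.of K)
  have h1 : ¬ IsUnit (e.hom a) := fun hu => ha (by
    have := hu.map e.inv.hom
    rwa [← CommRingCat.comp_apply, e.hom_inv_id] at this)
  have h2 : e.hom a = 0 := by
    by_contra h0
    exact h1 (Ne.isUnit h0)
  have h3 := congr(e.inv.hom $h2)
  rwa [← CommRingCat.comp_apply, e.hom_inv_id, map_zero] at h3

theorem stalkMap_fiberι_stalkMap_eq_zero {X S : Scheme.{u}} (h : X ⟶ S) (s : S) (x' : h.fiber s)
    (a : S.presheaf.stalk (h.base ((h.fiberι s).base x')))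
    (ha : a ∈ maximalIdeal (S.presheaf.stalk (h.base ((h.fiberι s).base x')))) :
    ((h.fiberι s).stalkMap x').hom ((h.stalkMap ((h.fiberι s).base x')).hom a) = 0 := by
  have key : ∀ (F : h.fiber s ⟶ S)
      (e : F = h.fiberToSpecResidueField s ≫ S.fromSpecResidueField s)
      (a : S.presheaf.stalk (F.base x')), a ∈ maximalIdeal (S.presheaf.stalk (F.base x')) →
      (F.stalkMap x').hom a = 0 := by
    rintro F rfl
    show ∀ a : S.presheaf.stalk ((S.fromSpecResidueField s).base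
      ((h.fiberToSpecResidueField s).base x')), a ∈ maximalIdeal _ →
      ((h.fiberToSpecResidueField s ≫ S.fromSpecResidueField s).stalkMap x').hom a = 0
    intro a ha
    rw [Scheme.Hom.stalkMap_comp]
    show ((h.fiberToSpecResidueField s).stalkMap x').hom
      (((S.fromSpecResidueField s).stalkMap _).hom a) = 0
    have h1 : ¬ IsUnit (((S.fromSpecResidueField s).stalkMap
        ((h.fiberToSpecResidueField s).base x')).hom a) := fun hu =>
      (mem_maximalIdeal a).mp ha (isUnit_of_map_unit ((S.fromSpecResidueField s).stalkMap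
        ((h.fiberToSpecResidueField s).base x')).hom a hu)
    have h2 : ((S.fromSpecResidueField s).stalkMap
        ((h.fiberToSpecResidueField s).base x')).hom a = 0 :=
      stalk_spec_field_eq_zero (K := ResidueField (S.presheaf.stalk s)) _ _ h1
    rw [h2, map_zero]
  have := key (h.fiberι s ≫ h) (h.fiber_fac s) a ha
  rw [Scheme.Hom.stalkMap_comp] at this
  exact this

theorem ker_stalkMap_fiberι {X S : Scheme.{u}} (h : X ⟶ S) (s : S) (x' : h.fiber s) :
    RingHom.ker ((h.fiberι s).stalkMap x').hom =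
      (maximalIdeal (S.presheaf.stalk (h.base ((h.fiberι s).base x')))).map
        (h.stalkMap ((h.fiberι s).base x')).hom := by
  refine le_antisymm (ker_stalkMap_fiberι_le h s x') ?_
  rw [Ideal.map_le_iff_le_comap]
  intro a ha
  rw [Ideal.mem_comap, RingHom.mem_ker]
  exact stalkMap_fiberι_stalkMap_eq_zero h s x' a ha

theorem stalkMap_fiberι_surjective {X S : Scheme.{u}} (h : X ⟶ S) (s : S) (x' : h.fiber s) :
    Function.Surjective ((h.fiberι s).stalkMap x').hom :=
  (h.fiberι s).stalkMap_surjective x'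

end Groth.Agent.Lib.Helper35.FiberStalk
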