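import Mathlib.RingTheory.Unramified.LocalStructure
import Mathlib.RingTheory.Unramified.LocalRing
import Mathlib.RingTheory.Smooth.Fiber
import Mathlib.RingTheory.Smooth.Flat
import Mathlib.RingTheory.Etale.Locus

/-!
# Étale local homomorphisms of local rings (helper35)

`formallyEtale_iff_local`: for a local homomorphism `A → B` of local rings, `A` Noetherian,
`B` essentially of finite type over `A`:
`B` formally étale over `A` iff `B` is `A`-flat, `m_A B = m_B` and `κ(B)/κ(A)` is finite separable.
-/

set_option autoImplicit false
universe u

namespace Groth.Agent.Lib.Helper35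

open IsLocalRing

section
variable (A B : Type u) [CommRing A] [CommRing B] [IsLocalRing B] [Algebra A B]
  [Algebra.EssFiniteType A B]

/-- The prime of the finite-type subalgebra `B₀` under the maximal ideal of `B`. -/
noncomputable abbrev essPrime : Ideal (Algebra.EssFiniteType.subalgebra A B) :=
  (maximalIdeal B).comap (algebraMap (Algebra.EssFiniteType.subalgebra A B) B)

instance : (essPrime A B).IsPrime := Ideal.IsPrime.comap _

lemma mem_essPrime_primeCompl_iff (x : Algebra.EssFiniteType.subalgebra A B) :
    x ∈ (essPrime A B).primeCompl ↔ IsUnit (algebraMap (Algebra.EssFiniteType.subalgebra A B) B x) := by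
  change ¬ (algebraMap (Algebra.EssFiniteType.subalgebra A B) B x ∈ maximalIdeal B) ↔ _
  rw [mem_maximalIdeal, mem_nonunits_iff, not_not]

/-- A local ring essentially of finite type over `A` is the localization of a finite type
`A`-algebra at a prime. -/
instance isLocalization_essPrime : IsLocalization.AtPrime B (essPrime A B) := by
  refine IsLocalization.of_le (Algebra.EssFiniteType.submonoid A B) _ ?_ ?_
  · intro x hx
    exact (mem_essPrime_primeCompl_iff A B x).mpr hx
  · intro r hr
    exact (mem_essPrime_primeCompl_iff A B r).mp hr

/-- The `A`-algebra isomorphism `B ≃ (B₀)_Q`. -/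
noncomputable def essEquiv : B ≃ₐ[A] Localization.AtPrime (essPrime A B) :=
  (IsLocalization.algEquiv (essPrime A B).primeCompl B
    (Localization.AtPrime (essPrime A B))).restrictScalars A

end

variable (A B : Type u) [CommRing A] [CommRing B] [IsLocalRing A] [IsLocalRing B]
  [IsNoetherianRing A] [Algebra A B] [IsLocalHom (algebraMap A B)] [Algebra.EssFiniteType A B]

/-- flat + unramified ⇒ formally étale, for local rings essentially of finite type over a
Noetherian local ring. -/
lemma formallyEtale_of_flat_of_formallyUnramified [Module.Flat A B]
    [Algebra.FormallyUnramified A B] : Algebra.FormallyEtale A B := by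
  have hfp : Algebra.FinitePresentation A (Algebra.EssFiniteType.subalgebra A B) :=
    Algebra.FinitePresentation.of_finiteType.mp inferInstance
  have hsm : Algebra.FormallySmooth A B := by
    have : Algebra.FormallySmooth (ResidueField A) (TensorProduct A (ResidueField A) B) := by
      have : Algebra.FormallyEtale (ResidueField A) (TensorProduct A (ResidueField A) B) :=
        Algebra.FormallyEtale.of_formallyUnramified_of_field _ _
      infer_instance
    exact Algebra.FormallySmooth.of_formallySmooth_residueField_tensor
      (R := A) (S := B) (P := Algebra.EssFiniteType.subalgebra A B)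
      (Algebra.EssFiniteType.submonoid A B)
  exact Algebra.FormallyEtale.of_formallyUnramified_and_formallySmooth

omit [IsLocalRing A] [IsLocalHom (algebraMap A B)] in
/-- formally étale ⇒ flat, for local rings essentially of finite type over a Noetherian ring. -/
lemma flat_of_formallyEtale [Algebra.FormallyEtale A B] : Module.Flat A B := by
  have hfp : Algebra.FinitePresentation A (Algebra.EssFiniteType.subalgebra A B) :=
    Algebra.FinitePresentation.of_finiteType.mp inferInstance
  have : Algebra.IsEtaleAt A (essPrime A B) := Algebra.FormallyEtale.of_equiv (essEquiv A B)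
  obtain ⟨f, hf, het⟩ := Algebra.exists_etale_of_isEtaleAt (R := A) (essPrime A B)
  have : Module.Flat A (Localization.Away f) := Algebra.Smooth.flat _ _
  let g : Localization.Away f →ₐ[Algebra.EssFiniteType.subalgebra A B]
      Localization.AtPrime (essPrime A B) :=
    IsLocalization.liftAlgHom (M := Submonoid.powers f) (f := Algebra.ofId _ _) (by
      rintro ⟨_, n, rfl⟩
      simpa using IsUnit.pow n
        (IsLocalization.map_units (M := (essPrime A B).primeCompl) _ ⟨f, hf⟩))
  algebraize [g.toRingHom]
  have : IsScalarTower A (Localization.Away f) (Localization.AtPrime (essPrime A B)) :=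
    .to₁₃₄ _ (Algebra.EssFiniteType.subalgebra A B) _ _
  have : IsLocalization (Algebra.algebraMapSubmonoid (Localization.Away f) (essPrime A B).primeCompl)
      (Localization.AtPrime (essPrime A B)) :=
    .isLocalization_of_submonoid_le _ _ (Submonoid.powers f) _ (by
      rintro _ ⟨n, rfl⟩; exact (essPrime A B).primeCompl.pow_mem hf n)
  have : Module.Flat (Localization.Away f) (Localization.AtPrime (essPrime A B)) :=
    IsLocalization.flat _
      (Algebra.algebraMapSubmonoid (Localization.Away f) (essPrime A B).primeCompl)
  have : Module.Flat A (Localization.AtPrime (essPrime A B)) :=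
    Module.Flat.trans A (Localization.Away f) _
  exact Module.Flat.of_linearEquiv (essEquiv A B).toLinearEquiv

theorem formallyEtale_iff_local :
    Algebra.FormallyEtale A B ↔
      Module.Flat A B ∧ (maximalIdeal A).map (algebraMap A B) = maximalIdeal B ∧
        Module.Finite (ResidueField A) (ResidueField B) ∧
        Algebra.IsSeparable (ResidueField A) (ResidueField B) := by
  constructor
  · intro h
    have hu : Algebra.FormallyUnramified A B := inferInstance
    obtain ⟨hsep, hmap⟩ := Algebra.FormallyUnramified.iff_map_maximalIdeal_eq.mp hu
    exact ⟨flat_of_formallyEtale A B, hmap, Algebra.FormallyUnramified.finite_of_free _ _, hsep⟩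
  · rintro ⟨hflat, hmap, hfin, hsep⟩
    have : Algebra.FormallyUnramified A B :=
      Algebra.FormallyUnramified.iff_map_maximalIdeal_eq.mpr ⟨hsep, hmap⟩
    exact formallyEtale_of_flat_of_formallyUnramified A B

omit [IsNoetherianRing A] in
theorem formallyUnramified_iff_local :
    Algebra.FormallyUnramified A B ↔
      (maximalIdeal A).map (algebraMap A B) = maximalIdeal B ∧
        Module.Finite (ResidueField A) (ResidueField B) ∧
        Algebra.IsSeparable (ResidueField A) (ResidueField B) := by
  constructor
  · intro hu
    obtain ⟨hsep, hmap⟩ := Algebra.FormallyUnramified.iff_map_maximalIdeal_eq.mp hu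
    exact ⟨hmap, Algebra.FormallyUnramified.finite_of_free _ _, hsep⟩
  · rintro ⟨hmap, hfin, hsep⟩
    exact Algebra.FormallyUnramified.iff_map_maximalIdeal_eq.mpr ⟨hsep, hmap⟩

end Groth.Agent.Lib.Helper35
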