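import Mathlib
import Groth.Agent.Lib.Helper11.IntegralDim

set_option autoImplicit false
set_option linter.style.haveILetI false
set_option maxHeartbeats 400000
set_option backward.isDefEq.respectTransparency.types false

universe u

namespace Groth.Agent.Lib.Helper35.NoetherFibre

open TensorProduct MvPolynomial

/-- denominators: every element of `κ ⊗[A] B` is, up to a unit of `κ`, of the form `1 ⊗ b`. -/
theorem exists_smul_eq_one_tmul {A κ B : Type u} [CommRing A] [Field κ] [CommRing B] [Algebra A κ]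
    [Algebra A B]
    (hfrac : ∀ c : κ, ∃ a s : A, algebraMap A κ s ≠ 0 ∧ c * algebraMap A κ s = algebraMap A κ a)
    (t : κ ⊗[A] B) : ∃ (s : A) (b : B), algebraMap A κ s ≠ 0 ∧ (algebraMap A κ s) • t = 1 ⊗ₜ b := by
  induction t using TensorProduct.induction_on with
  | zero => exact ⟨1, 0, by simp, by simp⟩
  | tmul c b =>
    obtain ⟨a, s, hs, hc⟩ := hfrac c
    refine ⟨s, a • b, hs, ?_⟩
    rw [TensorProduct.smul_tmul', smul_eq_mul, mul_comm, hc, ← TensorProduct.smul_tmul,
      Algebra.algebraMap_eq_smul_one]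
  | add t₁ t₂ h₁ h₂ =>
    obtain ⟨s₁, b₁, hs₁, e₁⟩ := h₁
    obtain ⟨s₂, b₂, hs₂, e₂⟩ := h₂
    refine ⟨s₁ * s₂, s₂ • b₁ + s₁ • b₂, by rw [map_mul]; exact mul_ne_zero hs₁ hs₂, ?_⟩
    rw [smul_add, map_mul]
    have h1 : (algebraMap A κ s₁ * algebraMap A κ s₂) • t₁ = 1 ⊗ₜ (s₂ • b₁) := by
      rw [mul_comm, mul_smul, e₁, TensorProduct.tmul_smul, ← algebraMap_smul κ s₂ ((1 : κ) ⊗ₜ[A] b₁)]
    have h2 : (algebraMap A κ s₁ * algebraMap A κ s₂) • t₂ = 1 ⊗ₜ (s₁ • b₂) := by
      rw [mul_smul, e₂, TensorProduct.tmul_smul, ← algebraMap_smul κ s₁ ((1 : κ) ⊗ₜ[A] b₂)]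
    rw [h1, h2, TensorProduct.tmul_add]

/-- rescaling the variables is a finite (bijective) endomorphism of the polynomial ring. -/
theorem finite_rescale {κ : Type u} [Field κ] {n : Type*} (c : n → κ) (hc : ∀ i, c i ≠ 0) :
    (aeval (fun i => C (c i) * X i) : MvPolynomial n κ →ₐ[κ] MvPolynomial n κ).Finite := by
  apply RingHom.Finite.of_surjective
  intro p
  refine ⟨aeval (fun i => C (c i)⁻¹ * X i) p, ?_⟩
  show (aeval (fun i => C (c i) * X i) : MvPolynomial n κ →ₐ[κ] MvPolynomial n κ)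
    (aeval (fun i => C (c i)⁻¹ * X i) p) = p
  rw [← AlgHom.comp_apply]
  have : (aeval (fun i => C (c i) * X i) : MvPolynomial n κ →ₐ[κ] MvPolynomial n κ).comp
      (aeval (fun i => C (c i)⁻¹ * X i)) = AlgHom.id κ _ := by
    apply MvPolynomial.algHom_ext
    intro i
    simp only [AlgHom.comp_apply, aeval_X, map_mul, AlgHom.id_apply, aeval_C,
      MvPolynomial.algebraMap_eq]
    rw [← mul_assoc, ← C_mul, inv_mul_cancel₀ (hc i), C_1, one_mul]
  rw [this]
  rfl

/-- Noether normalization on a fibre, with generators coming from `B`. -/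
theorem exists_finite_aeval {A κ B : Type u} [CommRing A] [Field κ] [CommRing B] [Algebra A κ]
    [Algebra A B] [Algebra.FiniteType A B]
    (hfrac : ∀ c : κ, ∃ a s : A, algebraMap A κ s ≠ 0 ∧ c * algebraMap A κ s = algebraMap A κ a)
    (e : ℕ) (he : ringKrullDim (κ ⊗[A] B) = e) :
    ∃ b : ULift.{u} (Fin e) → B,
      (aeval (fun i => (1 : κ) ⊗ₜ[A] b i) :
        MvPolynomial (ULift.{u} (Fin e)) κ →ₐ[κ] κ ⊗[A] B).Finite := by
  haveI : Nontrivial (κ ⊗[A] B) := by
    by_contra h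
    rw [not_nontrivial_iff_subsingleton] at h
    rw [ringKrullDim_eq_bot_of_subsingleton] at he
    exact WithBot.bot_ne_coe he
  obtain ⟨s, g, hginj, hgfin⟩ := exists_finite_inj_algHom_of_fg κ (κ ⊗[A] B)
  have hs : s = e := by
    letI := g.toRingHom.toAlgebra
    haveI : Algebra.IsIntegral (MvPolynomial (Fin s) κ) (κ ⊗[A] B) :=
      ⟨hgfin.to_isIntegral⟩
    have h1 := Groth.Agent.Lib.Helper11.IntegralDim.ringKrullDim_eq_of_isIntegral_of_injective
      (R := MvPolynomial (Fin s) κ) (S := κ ⊗[A] B) hginj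
    rw [he, MvPolynomial.ringKrullDim_of_isNoetherianRing, ringKrullDim_eq_zero_of_field,
      zero_add] at h1
    simp only [Nat.card_eq_fintype_card, Fintype.card_fin] at h1
    exact_mod_cast h1.symm
  subst hs
  choose σ b hσ hb using fun i : Fin s => exists_smul_eq_one_tmul hfrac (g (X i))
  refine ⟨fun i => b i.down, ?_⟩
  have heq : (aeval (fun i : ULift.{u} (Fin s) => (1 : κ) ⊗ₜ[A] b i.down) :
      MvPolynomial (ULift.{u} (Fin s)) κ →ₐ[κ] κ ⊗[A] B) =
      (g.comp (aeval (fun i => C (algebraMap A κ (σ i)) * X i))).comp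
        (MvPolynomial.rename (Equiv.ulift : ULift.{u} (Fin s) → Fin s)) := by
    apply MvPolynomial.algHom_ext
    intro i
    simp only [AlgHom.comp_apply, aeval_X, rename_X, map_mul, Equiv.ulift_apply]
    rw [← hb, ← MvPolynomial.algebraMap_eq, AlgHom.commutes, Algebra.smul_def]
  rw [heq]
  refine AlgHom.Finite.comp (AlgHom.Finite.comp hgfin (finite_rescale _ hσ)) ?_
  apply AlgHom.Finite.of_surjective
  exact (MvPolynomial.renameEquiv κ (Equiv.ulift : ULift.{u} (Fin s) ≃ Fin s)).surjective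

end Groth.Agent.Lib.Helper35.NoetherFibre
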