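import Groth.Agent.Lib.Helper35.BaseChangeDescentKaehler
import Mathlib.RingTheory.LocalRing.Module
import Mathlib.RingTheory.LocalRing.ResidueField.Basic
import Mathlib.RingTheory.EssentialFiniteness

set_option autoImplicit false
set_option linter.style.haveILetI false
universe u

namespace Groth.Agent.Lib.Helper35

open TensorProduct Algebra IsLocalRing

/-- Nakayama for local homomorphisms: a finite module over a local ring `A` that dies after base
change along a local homomorphism `A → A'` is zero. -/
theorem subsingleton_of_subsingleton_tensorProduct_of_isLocalHom {A A' M : Type*} [CommRing A]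
    [CommRing A'] [IsLocalRing A] [IsLocalRing A'] [Algebra A A'] [IsLocalHom (algebraMap A A')]
    [AddCommGroup M] [Module A M] [Module.Finite A M] (h : Subsingleton (A' ⊗[A] M)) :
    Subsingleton M := by
  have e1 : ResidueField A' ⊗[A'] (A' ⊗[A] M) ≃ₗ[ResidueField A'] ResidueField A' ⊗[A] M :=
    AlgebraTensorModule.cancelBaseChange A A' (ResidueField A') (ResidueField A') M
  have e2 : ResidueField A' ⊗[ResidueField A] (ResidueField A ⊗[A] M) ≃ₗ[ResidueField A']
      ResidueField A' ⊗[A] M :=
    AlgebraTensorModule.cancelBaseChange A (ResidueField A) (ResidueField A') (ResidueField A') M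
  have h1 : Subsingleton (ResidueField A' ⊗[A'] (A' ⊗[A] M)) := inferInstance
  have h2 : Subsingleton (ResidueField A' ⊗[A] M) := e1.symm.toEquiv.subsingleton
  have h3 : Subsingleton (ResidueField A' ⊗[ResidueField A] (ResidueField A ⊗[A] M)) :=
    e2.toEquiv.subsingleton
  have h4 : Subsingleton (ResidueField A ⊗[A] M) :=
    (Module.FaithfullyFlat.subsingleton_tensorProduct_iff_right (ResidueField A)
      (ResidueField A')).mp h3
  exact IsLocalRing.subsingleton_tensorProduct.mp h4

section

variable {R S R' S' : Type u} [CommRing R] [CommRing S] [CommRing R'] [CommRing S']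
  [Algebra R S] [Algebra R R'] [Algebra S S'] [Algebra R' S'] [Algebra R S']
  [IsScalarTower R S S'] [IsScalarTower R R' S'] [Algebra.IsPushout R S R' S']

/-- pointwise base change of unramifiedness (no hypotheses). -/
lemma formallyUnramified_atPrime_baseChange (q : Ideal S) [q.IsPrime] (q' : Ideal S') [q'.IsPrime]
    [q'.LiesOver q] [Algebra.FormallyUnramified R (Localization.AtPrime q)] :
    Algebra.FormallyUnramified R' (Localization.AtPrime q') := by
  letI := Localization.AtPrime.algebraOfLiesOver q q'
  obtain ⟨e⟩ := nonempty_kaehler_atPrime_baseChange (R := R) (R' := R') q q'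
  exact ⟨e.symm.toEquiv.subsingleton⟩

/-- pointwise descent of unramifiedness along an ARBITRARY base change, for `S` of finite type. -/
lemma formallyUnramified_atPrime_of_baseChange_of_finiteType [Algebra.FiniteType R S]
    (q : Ideal S) [q.IsPrime] (q' : Ideal S') [q'.IsPrime]
    [q'.LiesOver q] [Algebra.FormallyUnramified R' (Localization.AtPrime q')] :
    Algebra.FormallyUnramified R (Localization.AtPrime q) := by
  letI := Localization.AtPrime.algebraOfLiesOver q q'
  obtain ⟨e⟩ := nonempty_kaehler_atPrime_baseChange (R := R) (R' := R') q q'
  have hloc : IsLocalHom (algebraMap (Localization.AtPrime q) (Localization.AtPrime q')) := by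
    change IsLocalHom (Localization.localRingHom q q' (algebraMap S S') Ideal.LiesOver.over)
    infer_instance
  haveI : Algebra.EssFiniteType R (Localization.AtPrime q) :=
    Algebra.EssFiniteType.comp R S (Localization.AtPrime q)
  have h1 : Subsingleton (Localization.AtPrime q' ⊗[Localization.AtPrime q]
      Ω[Localization.AtPrime q⁄R]) := e.toEquiv.subsingleton
  exact ⟨subsingleton_of_subsingleton_tensorProduct_of_isLocalHom h1⟩

end

end Groth.Agent.Lib.Helper35
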