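import Mathlib
import Groth.Agent.Lib.Helper70.FiniteUnramLocal
import Groth.Agent.Lib.Helper35.BaseChangeUnram

set_option autoImplicit false
set_option linter.style.haveILetI false
set_option maxHeartbeats 400000
set_option backward.isDefEq.respectTransparency.types false
universe u

namespace Groth.Agent.Lib.Helper35.UnramSplit

open TensorProduct

/-- idempotent form of the conclusion of Stacks 00UX. -/
def Good (R S : Type u) [CommRing R] [CommRing S] [Algebra R S] (q : Ideal S) : Prop :=
  ∃ (R' : Type u) (_ : CommRing R') (_ : Algebra R R') (_ : Algebra.Etale R R') (p' : Ideal R')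
    (_ : p'.IsPrime) (_ : p'.LiesOver (q.under R)) (ε : R' ⊗[R] S) (_ : IsIdempotentElem ε)
    (𝔓 : Ideal (R' ⊗[R] S)) (_ : 𝔓.IsPrime),
    𝔓.comap (algebraMap R' (R' ⊗[R] S)) = p' ∧
    𝔓.comap (Algebra.TensorProduct.includeRight : S →ₐ[R] R' ⊗[R] S).toRingHom = q ∧
    ε ∉ 𝔓 ∧ ∀ x : R' ⊗[R] S, ∃ a : R', ε * x = ε * (a ⊗ₜ 1)

/-- residue fields: quotient-surjectivity implies surjectivity on residue fields. -/
lemma residueField_surjective_of_quotient_surjective {R S : Type*} [CommRing R] [CommRing S]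
    [Algebra R S] (p : Ideal R) [p.IsPrime] (q : Ideal S) [q.IsPrime] [q.LiesOver p]
    [Algebra (Localization.AtPrime p) (Localization.AtPrime q)]
    [Localization.AtPrime.IsLiesOverAlgebra p q]
    (h : ∀ s : S, ∃ r : R, s - algebraMap R S r ∈ q) :
    Function.Surjective (algebraMap p.ResidueField q.ResidueField) := by
  intro x
  obtain ⟨x, rfl⟩ := IsLocalRing.residue_surjective x
  obtain ⟨b, s, rfl⟩ := IsLocalization.exists_mk'_eq q.primeCompl x
  obtain ⟨a, ha⟩ := h b
  obtain ⟨a', ha'⟩ := h s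
  have ha'p : a' ∉ p := by
    intro hmem
    have h1 : algebraMap R S a' ∈ q := by
      have : a' ∈ q.under R := by rwa [← q.over_def p]
      exact this
    exact s.2 (by simpa using add_mem ha' h1)
  refine ⟨IsLocalRing.residue _ (IsLocalization.mk' (M := p.primeCompl) _ a ⟨a', ha'p⟩), ?_⟩
  rw [IsLocalRing.ResidueField.algebraMap_residue, ← sub_eq_zero, ← map_sub,
    IsLocalRing.residue_eq_zero_iff, Localization.AtPrime.IsLiesOverAlgebra.algebraMap_eq,
    Localization.localRingHom_mk', ← IsLocalization.mk'_sub,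
    IsLocalization.AtPrime.mk'_mem_maximal_iff (Localization.AtPrime q) q]
  have : algebraMap R S a * (s : S) - b * algebraMap R S a'
      = - ((s : S) * (b - algebraMap R S a)) + b * ((s : S) - algebraMap R S a') := by ring
  simp only
  rw [this]
  exact add_mem (neg_mem (Ideal.mul_mem_left _ _ ha)) (Ideal.mul_mem_left _ _ ha')

/-- `Good` is étale-local on the base. -/
lemma Good.of_etale {R S : Type u} [CommRing R] [CommRing S] [Algebra R S] {q : Ideal S}
    (E : Type u) [CommRing E] [Algebra R E] [Algebra.Etale R E] (Q : Ideal (E ⊗[R] S))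
    (hQ : Q.comap (Algebra.TensorProduct.includeRight : S →ₐ[R] E ⊗[R] S).toRingHom = q)
    (h : Good E (E ⊗[R] S) Q) : Good R S q := by
  obtain ⟨R', _, _, _, p', _, hp', ε, hε, 𝔓, _, h1, h2, h3, h4⟩ := h
  letI : Algebra R R' := ((algebraMap E R').comp (algebraMap R E)).toAlgebra
  haveI : IsScalarTower R E R' := .of_algebraMap_eq' rfl
  haveI : Algebra.Etale R R' := Algebra.Etale.comp R E R'
  let c : R' ⊗[E] (E ⊗[R] S) ≃ₐ[R'] R' ⊗[R] S := Algebra.TensorProduct.cancelBaseChange R E R' R' S
  refine ⟨R', inferInstance, inferInstance, inferInstance, p', inferInstance, ⟨?_⟩, c ε,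
    hε.map c, 𝔓.comap c.symm.toRingHom, inferInstance, ?_, ?_, ?_, ?_⟩
  · -- lies over
    ext r
    have e1 := hp'.over
    have e2 : algebraMap E R' (algebraMap R E r) ∈ p' ↔
        algebraMap E (E ⊗[R] S) (algebraMap R E r) ∈ Q := by
      have := congrArg (fun I => algebraMap R E r ∈ I) e1
      simpa [Ideal.under, Ideal.mem_comap] using this.symm
    simp only [Ideal.under, Ideal.mem_comap]
    rw [← hQ]
    simp only [Ideal.mem_comap]
    rw [show algebraMap R R' r = algebraMap E R' (algebraMap R E r) from rfl, e2]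
    have : (Algebra.TensorProduct.includeRight : S →ₐ[R] E ⊗[R] S).toRingHom (algebraMap R S r)
        = algebraMap E (E ⊗[R] S) (algebraMap R E r) := by
      rw [AlgHom.toRingHom_eq_coe, RingHom.coe_coe, AlgHom.commutes,
        IsScalarTower.algebraMap_apply R E (E ⊗[R] S)]
    rw [this]
  · rw [← h1, Ideal.comap_comap]
    congr 1
  · rw [← hQ, ← h2, Ideal.comap_comap, Ideal.comap_comap]
    congr 1
  · simpa [Ideal.mem_comap] using h3
  · intro x
    obtain ⟨a, ha⟩ := h4 (c.symm x)
    refine ⟨a, ?_⟩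
    have h5 : c (a ⊗ₜ[E] (1 : E ⊗[R] S)) = a ⊗ₜ[R] 1 := by
      rw [Algebra.TensorProduct.one_def]; simp [c]
    have := congrArg c ha
    rw [map_mul, map_mul, h5, AlgEquiv.apply_symm_apply] at this
    exact this

/-- Nakayama step: a finite idempotent factor with a unique, unramified, residually trivial prime
over `P` becomes a quotient of the base after inverting some `r ∉ P`. -/
lemma exists_mul_eq_of_finite {R' M : Type*} [CommRing R'] [CommRing M] [Algebra R' M]
    (P : Ideal R') [P.IsPrime] (e : M) (he : IsIdempotentElem e) (P' : Ideal M) [P'.IsPrime]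
    [P'.LiesOver P] (heP' : e ∉ P') [Module.Finite R' (Localization.Away e)]
    (huniq : ∀ P'' : Ideal M, P''.IsPrime → P''.LiesOver P → e ∉ P'' → P'' = P')
    [Algebra.IsUnramifiedAt R' P']
    (hsurj : ∀ m : M, ∃ a : R', m - algebraMap R' M a ∈ P') :
    ∃ r ∉ P, ∀ m : M, ∃ a : R', e * (algebraMap R' M r * m) = e * algebraMap R' M a := by
  classical
  let A := Localization.Away e
  let 𝔮 : Ideal A := P'.map (algebraMap M A)
  have hdisj : Disjoint (Submonoid.powers e : Set M) (P' : Set M) :=
    (Ideal.disjoint_powers_iff_notMem_of_isPrime _).mpr heP'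
  haveI h𝔮 : 𝔮.IsPrime := IsLocalization.isPrime_of_isPrime_disjoint (.powers e) A P' ‹_› hdisj
  have hcomap : 𝔮.comap (algebraMap M A) = P' :=
    IsLocalization.under_map_of_isPrime_disjoint (.powers e) A ‹_› hdisj
  haveI : 𝔮.LiesOver P := ⟨by
    rw [P'.over_def P, ← hcomap]
    simp only [Ideal.under, Ideal.comap_comap, ← IsScalarTower.algebraMap_eq]⟩
  have hq : P.primesOver A = {𝔮} := by
    ext 𝔯
    simp only [Ideal.primesOver, Set.mem_ofPred_eq, Set.mem_singleton_iff]
    constructor
    · rintro ⟨h1, h2⟩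
      have h3 : 𝔯.comap (algebraMap M A) = P' := by
        refine huniq _ inferInstance ⟨?_⟩ ?_
        · rw [h2.over]
          simp only [Ideal.under, Ideal.comap_comap, ← IsScalarTower.algebraMap_eq]
        · intro hmem
          exact h1.ne_top (Ideal.eq_top_of_isUnit_mem _ hmem
            (IsLocalization.map_units A (⟨e, Submonoid.mem_powers e⟩ : Submonoid.powers e)))
      rw [← IsLocalization.map_under (.powers e) A 𝔯]
      exact congrArg (Ideal.map (algebraMap M A)) h3
    · rintro rfl; exact ⟨h𝔮, inferInstance⟩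
  haveI : Algebra.IsUnramifiedAt R' 𝔮 := by
    have h1 : IsLocalization.AtPrime (Localization.AtPrime 𝔮) (𝔮.comap (algebraMap M A)) :=
      IsLocalization.isLocalization_isLocalization_atPrime_isLocalization (.powers e)
        (Localization.AtPrime 𝔮) 𝔮
    have h2 : IsLocalization.AtPrime (Localization.AtPrime 𝔮) P' := by
      convert h1 using 1; simp [hcomap]
    let eq : Localization.AtPrime P' ≃ₐ[M] Localization.AtPrime 𝔮 :=
      IsLocalization.algEquiv P'.primeCompl _ _
    haveI : IsScalarTower R' M (Localization.AtPrime 𝔮) := by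
      refine .of_algebraMap_eq' ?_
      rw [IsScalarTower.algebraMap_eq R' A (Localization.AtPrime 𝔮),
        IsScalarTower.algebraMap_eq R' M A, ← RingHom.comp_assoc,
        ← IsScalarTower.algebraMap_eq M A (Localization.AtPrime 𝔮)]
    exact Algebra.FormallyUnramified.of_equiv (eq.restrictScalars R')
  have he1 : algebraMap M A e = 1 := by
    have hu : IsUnit (algebraMap M A e) :=
      IsLocalization.map_units A (⟨e, Submonoid.mem_powers e⟩ : Submonoid.powers e)
    have h1 : algebraMap M A e * algebraMap M A e = algebraMap M A e * 1 := by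
      rw [← map_mul, he.eq, mul_one]
    exact hu.mul_left_cancel h1
  have hsurjA : ∀ b : A, ∃ a : R', b - algebraMap R' A a ∈ 𝔮 := by
    intro b
    obtain ⟨m, ⟨_, n, rfl⟩, rfl⟩ := IsLocalization.exists_mk'_eq (Submonoid.powers e) b
    obtain ⟨a, ha⟩ := hsurj m
    refine ⟨a, ?_⟩
    have hb : IsLocalization.mk' A m (⟨e ^ n, n, rfl⟩ : Submonoid.powers e) = algebraMap M A m := by
      have := IsLocalization.mk'_spec A m (⟨e ^ n, n, rfl⟩ : Submonoid.powers e)
      simpa [he1] using this
    rw [hb, IsScalarTower.algebraMap_apply R' M A, ← map_sub]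
    exact Ideal.mem_map_of_mem _ ha
  letI := Localization.AtPrime.algebraOfLiesOver P 𝔮
  have H := residueField_surjective_of_quotient_surjective P 𝔮 hsurjA
  have H' := Localization.localRingHom_surjective_of_primesOver_eq_singleton hq H
  obtain ⟨r, hr, hr'⟩ := Groth.Agent.Lib.Helper70.FiniteUnramLocal.exists_smul_le_range hq H'
  refine ⟨r, hr, fun m => ?_⟩
  obtain ⟨a, ha⟩ := hr' (algebraMap M A m)
  refine ⟨a, ?_⟩
  rw [IsScalarTower.algebraMap_apply R' M A, IsScalarTower.algebraMap_apply R' M A, ← map_mul,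
    IsLocalization.eq_iff_exists (Submonoid.powers e)] at ha
  obtain ⟨⟨_, k, rfl⟩, hk⟩ := ha
  have hk' : e * (e ^ k * (algebraMap R' M r * m)) = e * (e ^ k * algebraMap R' M a) :=
    congrArg (e * ·) hk
  have hek : e * e ^ k = e := by rw [← pow_succ', he.pow_succ_eq]
  rwa [← mul_assoc, hek, ← mul_assoc e (e ^ k), hek] at hk'

section

attribute [local instance] Algebra.TensorProduct.rightAlgebra

/-- localization stage: if the `e`-factor becomes a quotient of `R'` after inverting `r`, we get
`Good` with `R'[1/r]`. -/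
lemma good_of_mul_eq {R S : Type u} [CommRing R] [CommRing S] [Algebra R S] (q : Ideal S)
    (R' : Type u) [CommRing R'] [Algebra R R'] [Algebra.Etale R R'] (e : R' ⊗[R] S)
    (he : IsIdempotentElem e) (P' : Ideal (R' ⊗[R] S)) [P'.IsPrime]
    (hP'q : P'.comap (Algebra.TensorProduct.includeRight : S →ₐ[R] R' ⊗[R] S).toRingHom = q)
    (heP' : e ∉ P') (r : R') (hrP : algebraMap R' (R' ⊗[R] S) r ∉ P')
    (hr : ∀ m : R' ⊗[R] S, ∃ a : R',
      e * (algebraMap R' (R' ⊗[R] S) r * m) = e * algebraMap R' (R' ⊗[R] S) a) :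
    Good R S q := by
  let M := R' ⊗[R] S
  let R'' := Localization.Away r
  haveI : Algebra.Etale R R'' := Algebra.Etale.comp R R' R''
  let φ : R' ⊗[R] S →ₐ[R'] R'' ⊗[R] S :=
    Algebra.TensorProduct.map (Algebra.ofId R' R'') (AlgHom.id R S)
  let L := P'.ResidueField
  have hunit : IsUnit (algebraMap R' L r) := by
    rw [isUnit_iff_ne_zero, IsScalarTower.algebraMap_apply R' M L, Ne,
      Ideal.algebraMap_residueField_eq_zero]
    exact hrP
  let g₁ : R'' →ₐ[R] L := IsLocalization.liftAlgHom (M := Submonoid.powers r)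
    (f := IsScalarTower.toAlgHom R R' L) (by
      rintro ⟨_, n, rfl⟩
      simp only [IsScalarTower.coe_toAlgHom', map_pow]
      exact hunit.pow n)
  let g₂ : S →ₐ[R] L := (IsScalarTower.toAlgHom R M L).comp Algebra.TensorProduct.includeRight
  let χ : R'' ⊗[R] S →ₐ[R] L := Algebra.TensorProduct.productMap g₁ g₂
  have hχφ : ∀ m : M, χ (φ m) = algebraMap M L m := by
    intro m
    induction m using TensorProduct.induction_on with
    | zero => simp
    | tmul a s =>
      have : (a ⊗ₜ[R] s : M) = algebraMap R' M a * (1 ⊗ₜ[R] s) := by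
        rw [Algebra.TensorProduct.algebraMap_apply, Algebra.algebraMap_self, RingHom.id_apply,
          Algebra.TensorProduct.tmul_mul_tmul, mul_one, one_mul]
      rw [this, map_mul, map_mul, map_mul, AlgHom.commutes, ← IsScalarTower.algebraMap_apply R' M L]
      congr 1
      · rw [Algebra.TensorProduct.algebraMap_apply]
        simp only [χ, Algebra.TensorProduct.productMap_apply_tmul, map_one, mul_one, g₁]
        rw [IsLocalization.liftAlgHom_apply, IsLocalization.lift_eq]
        rfl
      · simp only [φ, χ, g₂, Algebra.TensorProduct.map_tmul, map_one,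
          Algebra.TensorProduct.productMap_apply_tmul, one_mul, AlgHom.id_apply]
        rfl
    | add x y hx hy => simp [map_add, hx, hy]
  let 𝔓 : Ideal (R'' ⊗[R] S) := RingHom.ker χ.toRingHom
  haveI : 𝔓.IsPrime := RingHom.ker_isPrime _
  have h3 : 𝔓.comap (Algebra.TensorProduct.includeRight : S →ₐ[R] R'' ⊗[R] S).toRingHom = q := by
    rw [← hP'q]
    ext s
    have h5 : χ ((1 : R'') ⊗ₜ[R] s) = algebraMap M L (1 ⊗ₜ[R] s) := by
      rw [← hχφ]
      simp [φ]
    simp only [Ideal.mem_comap, RingHom.mem_ker, 𝔓, AlgHom.toRingHom_eq_coe, RingHom.coe_coe,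
      Algebra.TensorProduct.includeRight_apply]
    rw [h5, Ideal.algebraMap_residueField_eq_zero]
  refine ⟨R'', inferInstance, inferInstance, inferInstance,
    𝔓.comap (algebraMap R'' (R'' ⊗[R] S)), inferInstance, ⟨?_⟩, φ e, he.map φ, 𝔓, inferInstance,
    rfl, h3, ?_, ?_⟩
  · rw [← h3]
    simp only [Ideal.under, Ideal.comap_comap]
    congr 1
    ext x
    simp only [RingHom.coe_comp, Function.comp_apply, AlgHom.toRingHom_eq_coe, RingHom.coe_coe,
      AlgHom.commutes]
    rw [← IsScalarTower.algebraMap_apply]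
  · simp only [𝔓, RingHom.mem_ker, AlgHom.toRingHom_eq_coe, RingHom.coe_coe]
    rw [hχφ, Ideal.algebraMap_residueField_eq_zero]
    exact heP'
  · intro x
    induction x using TensorProduct.induction_on with
    | zero => exact ⟨0, by simp⟩
    | tmul a s =>
      obtain ⟨b, hb⟩ := hr (1 ⊗ₜ[R] s)
      have hb' := congrArg φ hb
      simp only [map_mul, AlgHom.commutes] at hb'
      have h6 : φ ((1 : R') ⊗ₜ[R] s) = (1 : R'') ⊗ₜ[R] s := by simp [φ]
      rw [h6, Algebra.TensorProduct.algebraMap_apply, Algebra.TensorProduct.algebraMap_apply,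
        Algebra.TensorProduct.tmul_mul_tmul, mul_one, one_mul] at hb'
      refine ⟨a * IsLocalization.Away.invSelf r * algebraMap R' R'' b, ?_⟩
      have h7 : (a ⊗ₜ[R] s : R'' ⊗[R] S) = ((a * IsLocalization.Away.invSelf r) ⊗ₜ[R] (1 : S)) *
          ((algebraMap R' R'' r) ⊗ₜ[R] s) := by
        rw [Algebra.TensorProduct.tmul_mul_tmul, one_mul, mul_assoc,
          mul_comm (IsLocalization.Away.invSelf r), IsLocalization.Away.mul_invSelf, mul_one]
      have h8 : ((a * IsLocalization.Away.invSelf r * algebraMap R' R'' b) ⊗ₜ[R] (1 : S) :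
          R'' ⊗[R] S) = ((a * IsLocalization.Away.invSelf r) ⊗ₜ[R] (1 : S)) *
          ((algebraMap R' R'' b) ⊗ₜ[R] (1 : S)) := by
        rw [Algebra.TensorProduct.tmul_mul_tmul, one_mul]
      rw [h7, h8, mul_left_comm, hb', mul_left_comm]
    | add x y hx hy =>
      obtain ⟨a, ha⟩ := hx
      obtain ⟨b, hb⟩ := hy
      exact ⟨a + b, by rw [mul_add, ha, hb, add_tmul, mul_add]⟩

/-- Stacks 00UX, core case: trivial residue field extension (in the strong form
`R ⧸ p → S ⧸ q` surjective). -/
theorem good_of_quotient_surjective {R S : Type u} [CommRing R] [CommRing S] [Algebra R S]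
    [Algebra.FiniteType R S] (q : Ideal S) [q.IsPrime] [Algebra.IsUnramifiedAt R q]
    (hsurj : ∀ s : S, ∃ r : R, s - algebraMap R S r ∈ q) : Good R S q := by
  haveI : q.LiesOver (q.under R) := ⟨rfl⟩
  obtain ⟨R', _, _, _, P, _, _, e, he, P', _, _, hP'q, heP', -, hfin, huniq⟩ :=
    Algebra.exists_etale_isIdempotentElem_forall_liesOver_eq (q.under R) q
  haveI : P'.LiesOver q := ⟨hP'q.symm⟩
  haveI : Algebra.IsUnramifiedAt R' P' :=
    formallyUnramified_atPrime_baseChange (R := R) (S := S) (R' := R') (S' := R' ⊗[R] S) q P'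
  have hsurjM : ∀ m : R' ⊗[R] S, ∃ a : R', m - algebraMap R' (R' ⊗[R] S) a ∈ P' := by
    intro m
    induction m using TensorProduct.induction_on with
    | zero => exact ⟨0, by simp⟩
    | tmul a s =>
      obtain ⟨r, hr⟩ := hsurj s
      refine ⟨a * algebraMap R R' r, ?_⟩
      have h0 : (a * algebraMap R R' r) ⊗ₜ[R] (1 : S) = a ⊗ₜ[R] (algebraMap R S r) := by
        rw [mul_comm, ← Algebra.smul_def, smul_tmul, Algebra.algebraMap_eq_smul_one]
      have h1 : a ⊗ₜ[R] s - algebraMap R' (R' ⊗[R] S) (a * algebraMap R R' r) =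
          (a ⊗ₜ[R] (1 : S)) * (Algebra.TensorProduct.includeRight : S →ₐ[R] R' ⊗[R] S).toRingHom
            (s - algebraMap R S r) := by
        simp only [Algebra.TensorProduct.algebraMap_apply, Algebra.algebraMap_self,
          RingHom.id_apply, AlgHom.toRingHom_eq_coe, RingHom.coe_coe,
          Algebra.TensorProduct.includeRight_apply]
        rw [h0, Algebra.TensorProduct.tmul_mul_tmul, mul_one, one_mul, tmul_sub]
      rw [h1]
      refine Ideal.mul_mem_left _ _ ?_
      rw [← hP'q] at hr
      exact hr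
    | add x y hx hy =>
      obtain ⟨a, ha⟩ := hx
      obtain ⟨b, hb⟩ := hy
      refine ⟨a + b, ?_⟩
      rw [map_add]
      convert add_mem ha hb using 1
      ring
  obtain ⟨r, hrP, hr⟩ := exists_mul_eq_of_finite P e he P' heP' huniq hsurjM
  refine good_of_mul_eq q R' e he P' hP'q heP' r ?_ hr
  intro hmem
  apply hrP
  have : r ∈ P'.under R' := hmem
  rwa [← P'.over_def P] at this

/-- the diagonal trick: after a (standard) étale base change `E`, there is a prime `Q` of
`E ⊗ S` over `q` with `E ⧸ (Q ∩ E) → (E ⊗ S) ⧸ Q` surjective. -/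
theorem exists_diagonal {R S : Type u} [CommRing R] [CommRing S] [Algebra R S]
    [Algebra.FiniteType R S] (q : Ideal S) [q.IsPrime] [Algebra.IsUnramifiedAt R q] :
    ∃ (E : Type u) (_ : CommRing E) (_ : Algebra R E) (_ : Algebra.Etale R E)
      (Q : Ideal (E ⊗[R] S)) (_ : Q.IsPrime),
      Q.comap (Algebra.TensorProduct.includeRight : S →ₐ[R] E ⊗[R] S).toRingHom = q ∧
      (∀ t : E ⊗[R] S, ∃ a : E, t - algebraMap E (E ⊗[R] S) a ∈ Q) ∧
      Algebra.IsUnramifiedAt E Q := by
  obtain ⟨g, hg, P, φ, hφ⟩ := Algebra.IsUnramifiedAt.exists_hasStandardEtaleSurjectionOn (R := R) q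
  let E := P.Ring
  let Sg := Localization.Away g
  let ψ : E ⊗[R] S →ₐ[R] Sg := Algebra.TensorProduct.productMap φ (IsScalarTower.toAlgHom R S Sg)
  have hdisj : Disjoint (Submonoid.powers g : Set S) (q : Set S) :=
    (Ideal.disjoint_powers_iff_notMem_of_isPrime _).mpr hg
  let qg : Ideal Sg := q.map (algebraMap S Sg)
  haveI hqg : qg.IsPrime := IsLocalization.isPrime_of_isPrime_disjoint (.powers g) Sg q ‹_› hdisj
  have hcomap : qg.comap (algebraMap S Sg) = q :=
    IsLocalization.under_map_of_isPrime_disjoint (.powers g) Sg ‹_› hdisj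
  let Q : Ideal (E ⊗[R] S) := qg.comap ψ.toRingHom
  have hQ : Q.comap (Algebra.TensorProduct.includeRight : S →ₐ[R] E ⊗[R] S).toRingHom = q := by
    rw [← hcomap]
    simp only [Q, Ideal.comap_comap]
    congr 1
    ext s
    simp [ψ]
  haveI : Q.LiesOver q := ⟨hQ.symm⟩
  refine ⟨E, inferInstance, inferInstance, inferInstance, Q, inferInstance, hQ, ?_, ?_⟩
  · intro t
    obtain ⟨a, ha⟩ := hφ (ψ t)
    refine ⟨a, ?_⟩
    simp only [Q, Ideal.mem_comap, AlgHom.toRingHom_eq_coe, RingHom.coe_coe, map_sub]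
    have : ψ (algebraMap E (E ⊗[R] S) a) = φ a := by
      rw [Algebra.TensorProduct.algebraMap_apply]
      simp [ψ]
    rw [this, ha, sub_self]
    exact zero_mem _
  · exact formallyUnramified_atPrime_baseChange (R := R) (S := S) (R' := E) (S' := E ⊗[R] S) q Q

/-- **Stacks 00UX** in idempotent form. -/
theorem good {R S : Type u} [CommRing R] [CommRing S] [Algebra R S]
    [Algebra.FiniteType R S] (q : Ideal S) [q.IsPrime] [Algebra.IsUnramifiedAt R q] :
    Good R S q := by
  obtain ⟨E, _, _, _, Q, _, hQ, hsurj, _⟩ := exists_diagonal (R := R) q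
  exact Good.of_etale E Q hQ (good_of_quotient_surjective Q hsurj)

end

/-- from the idempotent form to the product form of 00UX. -/
theorem Good.exists_prod {R S : Type u} [CommRing R] [CommRing S] [Algebra R S] {q : Ideal S}
    (h : Good R S q) :
    ∃ (R' : Type u) (_ : CommRing R') (_ : Algebra R R') (_ : Algebra.Etale R R') (p' : Ideal R')
      (_ : p'.IsPrime) (_ : p'.LiesOver (q.under R)) (A : Type u) (_ : CommRing A) (_ : Algebra R' A)
      (B : Type u) (_ : CommRing B) (_ : Algebra R' B) (e : (R' ⊗[R] S) ≃ₐ[R'] (A × B)),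
      Function.Surjective (algebraMap R' A) ∧ (p'.map (algebraMap R' A)).IsPrime ∧
        (p'.map (algebraMap R' A)).comap (algebraMap R' A) = p' ∧
        (p'.map (algebraMap R' A)).comap (((RingHom.fst A B).comp e.toRingHom).comp
          (Algebra.TensorProduct.includeRight : S →ₐ[R] R' ⊗[R] S).toRingHom) = q := by
  obtain ⟨R', _, _, _, p', _, hp', ε, hε, 𝔓, _, h1, h2, h3, h4⟩ := h
  let M := R' ⊗[R] S
  let e : M ≃ₐ[R'] (M ⧸ Ideal.span {1 - ε}) × (M ⧸ Ideal.span {ε}) :=
    AlgEquiv.prodQuotientOfIsIdempotentElem R' hε.one_sub hε (by ring)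
      (by rw [sub_mul, one_mul, hε.eq, sub_self])
  have h1ε : 1 - ε ∈ 𝔓 := by
    have : ε * (1 - ε) ∈ 𝔓 := by rw [mul_sub, mul_one, hε.eq, sub_self]; exact zero_mem _
    exact (‹𝔓.IsPrime›.mem_or_mem this).resolve_left h3
  have hker : RingHom.ker (Ideal.Quotient.mk (Ideal.span {1 - ε})) ≤ 𝔓 := by
    rw [Ideal.mk_ker, Ideal.span_le]
    simpa using h1ε
  have hmk : ∀ x a, ε * x = ε * (a ⊗ₜ[R] (1 : S)) →
      Ideal.Quotient.mk (Ideal.span {1 - ε}) x = algebraMap R' (M ⧸ Ideal.span {1 - ε}) a := by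
    intro x a hxa
    rw [IsScalarTower.algebraMap_apply R' M (M ⧸ Ideal.span {1 - ε}), Ideal.Quotient.algebraMap_eq,
      Ideal.Quotient.eq, Ideal.mem_span_singleton]
    refine ⟨x - algebraMap R' M a, ?_⟩
    have : ε * (x - algebraMap R' M a) = 0 := by
      rw [mul_sub, hxa, Algebra.TensorProduct.algebraMap_apply, Algebra.algebraMap_self,
        RingHom.id_apply, sub_self]
    rw [sub_mul, one_mul, this, sub_zero]
  have hsurj : Function.Surjective (algebraMap R' (M ⧸ Ideal.span {1 - ε})) := by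
    intro x
    obtain ⟨x, rfl⟩ := Ideal.Quotient.mk_surjective x
    obtain ⟨a, ha⟩ := h4 x
    exact ⟨a, (hmk x a ha).symm⟩
  have hmap : p'.map (algebraMap R' (M ⧸ Ideal.span {1 - ε})) =
      𝔓.map (Ideal.Quotient.mk (Ideal.span {1 - ε})) := by
    apply le_antisymm
    · rw [Ideal.map_le_iff_le_comap]
      intro a ha
      rw [Ideal.mem_comap, IsScalarTower.algebraMap_apply R' M (M ⧸ Ideal.span {1 - ε})]
      refine Ideal.mem_map_of_mem _ ?_
      rw [← h1] at ha
      exact ha
    · rw [Ideal.map_le_iff_le_comap]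
      intro x hx
      obtain ⟨a, ha⟩ := h4 x
      rw [Ideal.mem_comap, hmk x a ha]
      refine Ideal.mem_map_of_mem _ ?_
      rw [← h1, Ideal.mem_comap, Algebra.TensorProduct.algebraMap_apply, Algebra.algebraMap_self,
        RingHom.id_apply]
      have : ε * (a ⊗ₜ[R] (1 : S)) ∈ 𝔓 := ha ▸ Ideal.mul_mem_left _ _ hx
      exact (‹𝔓.IsPrime›.mem_or_mem this).resolve_left h3
  have hcm : (𝔓.map (Ideal.Quotient.mk (Ideal.span {1 - ε}))).comap
      (Ideal.Quotient.mk (Ideal.span {1 - ε})) = 𝔓 := by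
    rw [Ideal.comap_map_of_surjective _ Ideal.Quotient.mk_surjective, ← RingHom.ker_eq_comap_bot]
    exact sup_eq_left.mpr hker
  refine ⟨R', inferInstance, inferInstance, inferInstance, p', inferInstance, hp',
    M ⧸ Ideal.span {1 - ε}, inferInstance, inferInstance, M ⧸ Ideal.span {ε}, inferInstance,
    inferInstance, e, hsurj, ?_, ?_, ?_⟩
  · rw [hmap]
    exact Ideal.map_isPrime_of_surjective Ideal.Quotient.mk_surjective hker
  · rw [hmap, IsScalarTower.algebraMap_eq R' M (M ⧸ Ideal.span {1 - ε}), ← Ideal.comap_comap,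
      Ideal.Quotient.algebraMap_eq, hcm, h1]
  · have : ((RingHom.fst (M ⧸ Ideal.span {1 - ε}) (M ⧸ Ideal.span {ε})).comp e.toRingHom) =
        Ideal.Quotient.mk (Ideal.span {1 - ε}) := RingHom.ext fun x => rfl
    rw [this, hmap, ← Ideal.comap_comap, hcm, h2]

end Groth.Agent.Lib.Helper35.UnramSplit
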