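import Mathlib
import Groth.Agent.Lib.Helper35.UnramSplit

set_option autoImplicit false
set_option linter.style.haveILetI false
set_option maxHeartbeats 400000
set_option backward.isDefEq.respectTransparency.types false
universe u

namespace Groth.Agent.Lib.Helper35.UnramSplit

open TensorProduct AlgebraicGeometry CategoryTheory Limits

/-- primes of a tensor product over a compatible pair of primes exist. -/
lemma exists_prime_tensor {R A B : Type u} [CommRing R] [CommRing A] [CommRing B] [Algebra R A]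
    [Algebra R B] (pA : Ideal A) [pA.IsPrime] (pB : Ideal B) [pB.IsPrime]
    (h : pA.comap (algebraMap R A) = pB.comap (algebraMap R B)) :
    ∃ 𝔓 : Ideal (A ⊗[R] B), 𝔓.IsPrime ∧ 𝔓.comap (algebraMap A (A ⊗[R] B)) = pA ∧
      𝔓.comap (Algebra.TensorProduct.includeRight : B →ₐ[R] A ⊗[R] B).toRingHom = pB := by
  let x : Spec (.of A) := ⟨pA, inferInstance⟩
  let y : Spec (.of B) := ⟨pB, inferInstance⟩
  have hxy : Spec.map (CommRingCat.ofHom (algebraMap R A)) x =
      Spec.map (CommRingCat.ofHom (algebraMap R B)) y := by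
    apply PrimeSpectrum.ext
    exact h
  obtain ⟨z, hz1, hz2⟩ := Scheme.Pullback.exists_preimage_pullback x y hxy
  let w : Spec (.of (A ⊗[R] B)) := (pullbackSpecIso R A B).hom z
  refine ⟨w.asIdeal, w.isPrime, ?_, ?_⟩
  · have h1 : Spec.map (CommRingCat.ofHom (algebraMap A (A ⊗[R] B))) w = x := by
      rw [← hz1, ← pullbackSpecIso_hom_fst', Scheme.Hom.comp_apply]
    exact congrArg PrimeSpectrum.asIdeal h1
  · have h2 : Spec.map (CommRingCat.ofHom
        (Algebra.TensorProduct.includeRight : B →ₐ[R] A ⊗[R] B).toRingHom) w = y := by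
      rw [← hz2, ← pullbackSpecIso_hom_snd, Scheme.Hom.comp_apply]
      rfl
    exact congrArg PrimeSpectrum.asIdeal h2

/-- orthogonal idempotents each cutting out a quotient of `R'` through a prime over `p'`. -/
structure IsPre {R' M : Type*} [CommRing R'] [CommRing M] [Algebra R' M] (p' : Ideal R')
    {ι : Type*} (e : ι → M) : Prop where
  ortho : OrthogonalIdempotents e
  surj : ∀ i (x : M), ∃ a : R', e i * x = e i * algebraMap R' M a
  prime : ∀ i, ∃ 𝔓 : Ideal M, 𝔓.IsPrime ∧ 𝔓.comap (algebraMap R' M) = p' ∧ e i ∉ 𝔓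

/-- ... and accounting for all primes over `p'`. -/
structure IsSol {R' M : Type*} [CommRing R'] [CommRing M] [Algebra R' M] (p' : Ideal R')
    {ι : Type*} (e : ι → M) : Prop extends IsPre p' e where
  cover : ∀ 𝔔 : Ideal M, 𝔔.IsPrime → 𝔔.comap (algebraMap R' M) = p' → ∃ i, e i ∉ 𝔔

section transport

variable {R' M M' : Type*} [CommRing R'] [CommRing M] [CommRing M'] [Algebra R' M] [Algebra R' M']
  {p' : Ideal R'} {ι : Type*} {e : ι → M}

lemma IsPre.map (h : IsPre p' e) (f : M ≃ₐ[R'] M') : IsPre p' (fun i => f (e i)) where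
  ortho := h.ortho.map f.toRingEquiv.toRingHom
  surj i x := by
    obtain ⟨a, ha⟩ := h.surj i (f.symm x)
    refine ⟨a, ?_⟩
    have := congrArg f ha
    simpa using this
  prime i := by
    obtain ⟨𝔓, h1, h2, h3⟩ := h.prime i
    refine ⟨𝔓.comap f.symm.toRingEquiv.toRingHom, inferInstance, ?_, ?_⟩
    · rw [← h2, Ideal.comap_comap]
      congr 1
      ext a
      simp
    · simpa [Ideal.mem_comap] using h3

lemma IsSol.map (h : IsSol p' e) (f : M ≃ₐ[R'] M') : IsSol p' (fun i => f (e i)) where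
  toIsPre := h.toIsPre.map f
  cover 𝔔 h1 h2 := by
    obtain ⟨i, hi⟩ := h.cover (𝔔.comap f.toRingEquiv.toRingHom) inferInstance (by
      rw [← h2, Ideal.comap_comap]
      congr 1
      ext a
      simp)
    exact ⟨i, by simpa [Ideal.mem_comap] using hi⟩

end transport

section baseChange

variable {R' M : Type u} [CommRing R'] [CommRing M] [Algebra R' M]
  {p' : Ideal R'} {ι : Type*} {e : ι → M}
  (R'' : Type u) [CommRing R''] [Algebra R' R''] (p'' : Ideal R'') [p''.IsPrime]

lemma IsPre.baseChange (h : IsPre p' e) (hp : p''.comap (algebraMap R' R'') = p') :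
    IsPre p'' (fun i => (1 : R'') ⊗ₜ[R'] e i) where
  ortho := h.ortho.map (Algebra.TensorProduct.includeRight : M →ₐ[R'] R'' ⊗[R'] M).toRingHom
  surj i x := by
    induction x using TensorProduct.induction_on with
    | zero => exact ⟨0, by simp⟩
    | tmul a m =>
      obtain ⟨b, hb⟩ := h.surj i m
      refine ⟨a * algebraMap R' R'' b, ?_⟩
      rw [Algebra.TensorProduct.tmul_mul_tmul, one_mul, hb, Algebra.TensorProduct.algebraMap_apply,
        Algebra.algebraMap_self, RingHom.id_apply, Algebra.TensorProduct.tmul_mul_tmul, one_mul,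
        mul_one, mul_comm (e i), ← Algebra.smul_def, ← smul_tmul, Algebra.smul_def, mul_comm]
    | add x y hx hy =>
      obtain ⟨a, ha⟩ := hx
      obtain ⟨b, hb⟩ := hy
      exact ⟨a + b, by rw [mul_add, ha, hb, map_add, mul_add]⟩
  prime i := by
    obtain ⟨𝔓, h1, h2, h3⟩ := h.prime i
    obtain ⟨𝔓', h4, h5, h6⟩ := exists_prime_tensor (R := R') p'' 𝔓 (by rw [hp, h2])
    refine ⟨𝔓', h4, h5, ?_⟩
    intro hmem
    apply h3
    rw [← h6]
    exact hmem

lemma IsSol.baseChange (h : IsSol p' e) (hp : p''.comap (algebraMap R' R'') = p') :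
    IsSol p'' (fun i => (1 : R'') ⊗ₜ[R'] e i) where
  toIsPre := h.toIsPre.baseChange R'' p'' hp
  cover 𝔔 h1 h2 := by
    obtain ⟨i, hi⟩ := h.cover (𝔔.comap
      (Algebra.TensorProduct.includeRight : M →ₐ[R'] R'' ⊗[R'] M).toRingHom) inferInstance (by
      rw [← hp, ← h2, Ideal.comap_comap, Ideal.comap_comap]
      congr 1
      ext a
      simp only [RingHom.coe_comp, Function.comp_apply, AlgHom.toRingHom_eq_coe, RingHom.coe_coe,
        AlgHom.commutes]
      rw [← IsScalarTower.algebraMap_apply])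
    exact ⟨i, hi⟩

end baseChange

section extend

variable {R' M : Type*} [CommRing R'] [CommRing M] [Algebra R' M] {p' : Ideal R'} {ι : Type*}

/-- extend a solution on `M ⧸ (ε)` by the idempotent `ε`. -/
lemma IsSol.extend (ε : M) (hε : IsIdempotentElem ε)
    (hs : ∀ x : M, ∃ a : R', ε * x = ε * algebraMap R' M a)
    (hp : ∃ 𝔓 : Ideal M, 𝔓.IsPrime ∧ 𝔓.comap (algebraMap R' M) = p' ∧ ε ∉ 𝔓)
    {e : ι → M ⧸ Ideal.span {ε}} (h : IsSol p' e) :
    ∃ e' : Option ι → M, IsSol p' e' := by
  let π := Ideal.Quotient.mk (Ideal.span {ε})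
  have hε0 : ε * (1 - ε) = 0 := by rw [mul_sub, mul_one, hε.eq, sub_self]
  have key : ∀ z, π z = 0 → (1 - ε) * z = 0 := by
    intro z hz
    rw [Ideal.Quotient.eq_zero_iff_mem, Ideal.mem_span_singleton'] at hz
    obtain ⟨a, rfl⟩ := hz
    rw [mul_left_comm, mul_comm (1 - ε), hε0, mul_zero]
  have h1ε : (1 - ε) * (1 - ε) = 1 - ε := hε.one_sub.eq
  have hπε : π (1 - ε) = 1 := by
    rw [map_sub, map_one, Ideal.Quotient.eq_zero_iff_mem.mpr (Ideal.mem_span_singleton_self ε),
      sub_zero]
  choose x hx using fun i => Ideal.Quotient.mk_surjective (e i)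
  have mulσ : ∀ y z w, π (y * z) = π w → (1 - ε) * y * ((1 - ε) * z) = (1 - ε) * w := by
    intro y z w hyz
    have h1 := key (y * z - w) (by rw [map_sub, hyz, sub_self])
    rw [mul_sub, sub_eq_zero] at h1
    rw [← h1, mul_mul_mul_comm, h1ε]
  have hpe : ∀ i, π ((1 - ε) * x i) = e i := by
    intro i
    rw [map_mul, hπε, one_mul, hx]
  refine ⟨fun o => o.elim ε (fun i => (1 - ε) * x i), ⟨⟨⟨?_, ?_⟩, ?_, ?_⟩, ?_⟩⟩
  · rintro (_ | i)
    · exact hε
    · exact mulσ (x i) (x i) (x i) (by rw [map_mul, hx, (h.ortho.idem i).eq])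
  · rintro (_ | i) (_ | j) hij
    · exact absurd rfl hij
    · show ε * ((1 - ε) * x j) = 0
      rw [← mul_assoc, hε0, zero_mul]
    · show (1 - ε) * x i * ε = 0
      rw [mul_right_comm, mul_comm (1 - ε), hε0, zero_mul]
    · show (1 - ε) * x i * ((1 - ε) * x j) = 0
      have hij' : i ≠ j := fun h => hij (by rw [h])
      rw [mulσ (x i) (x j) 0 (by rw [map_mul, hx, hx, h.ortho.ortho hij', map_zero]), mul_zero]
  · rintro (_ | i) y
    · exact hs y
    · obtain ⟨a, ha⟩ := h.surj i (π y)
      refine ⟨a, ?_⟩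
      show (1 - ε) * x i * y = (1 - ε) * x i * algebraMap R' M a
      have h2 := key ((1 - ε) * x i * y - (1 - ε) * x i * algebraMap R' M a) (by
        rw [map_sub, map_mul _ _ y, map_mul _ _ (algebraMap R' M a), hpe, ha]
        exact sub_self _)
      rw [mul_sub, sub_eq_zero, ← mul_assoc, ← mul_assoc, ← mul_assoc, ← mul_assoc, h1ε] at h2
      exact h2
  · rintro (_ | i)
    · exact hp
    · obtain ⟨𝔓, h1, h2, h3⟩ := h.prime i
      refine ⟨𝔓.comap π, inferInstance, ?_, ?_⟩
      · rw [Ideal.comap_comap]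
        exact h2
      · show (1 - ε) * x i ∉ 𝔓.comap π
        rw [Ideal.mem_comap, hpe]
        exact h3
  · intro 𝔔 h1 h2
    by_cases hεQ : ε ∈ 𝔔
    · have hker : RingHom.ker π ≤ 𝔔 := by
        rw [Ideal.mk_ker, Ideal.span_le]
        simpa using hεQ
      have hcm : (𝔔.map π).comap π = 𝔔 := by
        rw [Ideal.comap_map_of_surjective _ Ideal.Quotient.mk_surjective,
          ← RingHom.ker_eq_comap_bot]
        exact sup_eq_left.mpr hker
      obtain ⟨i, hi⟩ := h.cover (𝔔.map π)
        (Ideal.map_isPrime_of_surjective Ideal.Quotient.mk_surjective hker) (by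
          rw [← h2]
          conv_rhs => rw [← hcm]
          rw [Ideal.comap_comap]
          rfl)
      refine ⟨some i, fun hmem => hi ?_⟩
      rw [← hpe]
      exact Ideal.mem_map_of_mem π hmem
    · exact ⟨none, hεQ⟩

end extend

section measure

/-- fibre rank is invariant under base change. -/
lemma finrank_fiber_baseChange {R R₁ C : Type u} [CommRing R] [CommRing R₁] [CommRing C]
    [Algebra R R₁] [Algebra R C] (p : Ideal R) [p.IsPrime] (p₁ : Ideal R₁) [p₁.IsPrime]
    [p₁.LiesOver p] :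
    Module.finrank p₁.ResidueField (p₁.ResidueField ⊗[R₁] (R₁ ⊗[R] C)) =
      Module.finrank p.ResidueField (p.ResidueField ⊗[R] C) := by
  letI := Localization.AtPrime.algebraOfLiesOver p p₁
  have e1 := TensorProduct.AlgebraTensorModule.cancelBaseChange R p.ResidueField p₁.ResidueField
    p₁.ResidueField C
  have e2 := TensorProduct.AlgebraTensorModule.cancelBaseChange R R₁ p₁.ResidueField
    p₁.ResidueField C
  rw [e2.finrank_eq, ← e1.finrank_eq, Module.finrank_baseChange]

/-- killing an element which is nonzero at a prime over `p₁` strictly lowers the fibre rank. -/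
lemma finrank_fiber_quotient_lt {R₁ M₁ : Type u} [CommRing R₁] [CommRing M₁] [Algebra R₁ M₁]
    (p₁ : Ideal R₁) [p₁.IsPrime] [Module.Finite p₁.ResidueField (p₁.ResidueField ⊗[R₁] M₁)]
    (ε : M₁) (𝔓 : Ideal M₁) [𝔓.IsPrime] (h𝔓 : 𝔓.comap (algebraMap R₁ M₁) = p₁) (hε : ε ∉ 𝔓) :
    Module.finrank p₁.ResidueField (p₁.ResidueField ⊗[R₁] (M₁ ⧸ Ideal.span {ε})) <
      Module.finrank p₁.ResidueField (p₁.ResidueField ⊗[R₁] M₁) := by
  let K := p₁.ResidueField
  let g : K ⊗[R₁] M₁ →ₗ[K] K ⊗[R₁] (M₁ ⧸ Ideal.span {ε}) :=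
    LinearMap.baseChange K (Ideal.Quotient.mkₐ R₁ (Ideal.span {ε})).toLinearMap
  have hg : Function.Surjective g := by
    rw [LinearMap.baseChange_eq_ltensor]
    exact LinearMap.lTensor_surjective _ (Ideal.Quotient.mkₐ_surjective R₁ _)
  have hker : LinearMap.ker g ≠ ⊥ := by
    intro hbot
    have h1 : (1 : K) ⊗ₜ[R₁] ε ∈ LinearMap.ker g := by
      rw [LinearMap.mem_ker]
      simp only [g, LinearMap.baseChange_tmul, AlgHom.toLinearMap_apply, Ideal.Quotient.mkₐ_eq_mk]
      rw [Ideal.Quotient.eq_zero_iff_mem.mpr (Ideal.mem_span_singleton_self ε), tmul_zero]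
    rw [hbot, Submodule.mem_bot] at h1
    obtain ⟨𝔓', h4, -, h6⟩ := exists_prime_tensor (R := R₁) (⊥ : Ideal K) 𝔓 (by
      rw [h𝔓, ← RingHom.ker_eq_comap_bot, Ideal.ker_algebraMap_residueField])
    apply hε
    rw [← h6, Ideal.mem_comap]
    show (1 : K) ⊗ₜ[R₁] ε ∈ 𝔓'
    rw [h1]
    exact zero_mem _
  have h2 := LinearMap.finrank_range_add_finrank_ker g
  rw [LinearMap.range_eq_top.mpr hg, finrank_top] at h2
  have h3 : 0 < Module.finrank K (LinearMap.ker g) := by
    rw [Module.finrank_pos_iff]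
    exact (Submodule.nontrivial_iff_ne_bot).mpr hker
  change Module.finrank K (K ⊗[R₁] (M₁ ⧸ Ideal.span {ε})) < Module.finrank K (K ⊗[R₁] M₁)
  omega

end measure

section existence

/-- the identification `cancelBaseChange (1 ⊗ m) = rTensor m`. -/
lemma cancelBaseChange_one_tmul {R R₁ R₂ C : Type u} [CommRing R] [CommRing R₁] [CommRing R₂]
    [CommRing C] [Algebra R R₁] [Algebra R R₂] [Algebra R₁ R₂] [IsScalarTower R R₁ R₂] [Algebra R C]
    (m : R₁ ⊗[R] C) :
    Algebra.TensorProduct.cancelBaseChange R R₁ R₂ R₂ C ((1 : R₂) ⊗ₜ[R₁] m) =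
      Algebra.TensorProduct.rTensor C (Algebra.ofId R₁ R₂) m := by
  induction m using TensorProduct.induction_on with
  | zero => simp
  | tmul a c => simp [Algebra.ofId_apply, Algebra.algebraMap_eq_smul_one]
  | add x y hx hy => rw [tmul_add, map_add, hx, hy, map_add]

theorem exists_isSol_aux (d : ℕ) : ∀ (R C : Type u) [CommRing R] [CommRing C] [Algebra R C]
    [Algebra.Unramified R C] (p : Ideal R) [p.IsPrime],
    Module.finrank p.ResidueField (p.ResidueField ⊗[R] C) ≤ d →
    ∃ (R' : Type u) (_ : CommRing R') (_ : Algebra R R') (_ : Algebra.Etale R R') (p' : Ideal R')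
      (_ : p'.IsPrime) (_ : p'.LiesOver p) (ι : Type) (_ : Fintype ι) (e : ι → R' ⊗[R] C),
      IsSol p' e := by
  induction d using Nat.strong_induction_on with
  | _ d ih =>
  intro R C _ _ _ _ p _ hd
  by_cases hne : ∃ q : Ideal C, q.IsPrime ∧ q.comap (algebraMap R C) = p
  · obtain ⟨q, hq, hqp⟩ := hne
    obtain ⟨R₁, _, _, _, p₁, _, hp₁, ε, hε, 𝔓, _, h1, h2, h3, h4⟩ := good (R := R) q
    haveI : p₁.LiesOver p := by
      have : q.under R = p := hqp
      rwa [this] at hp₁
    let M₁ := R₁ ⊗[R] C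
    let C₁ := M₁ ⧸ Ideal.span {ε}
    haveI : Algebra.FormallyUnramified R₁ C₁ :=
      Algebra.FormallyUnramified.of_surjective (Ideal.Quotient.mkₐ R₁ (Ideal.span {ε}))
        (Ideal.Quotient.mkₐ_surjective R₁ _)
    haveI : Algebra.FiniteType R₁ C₁ :=
      Algebra.FiniteType.of_surjective (Ideal.Quotient.mkₐ R₁ (Ideal.span {ε}))
        (Ideal.Quotient.mkₐ_surjective R₁ _)
    haveI : Algebra.Unramified R₁ C₁ := {}
    have hlt : Module.finrank p₁.ResidueField (p₁.ResidueField ⊗[R₁] C₁) <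
        Module.finrank p.ResidueField (p.ResidueField ⊗[R] C) := by
      rw [← finrank_fiber_baseChange (R₁ := R₁) p p₁]
      exact finrank_fiber_quotient_lt p₁ ε 𝔓 h1 h3
    obtain ⟨R₂, _, _, _, p₂, _, _, ι, _, e, he⟩ := ih _ (lt_of_lt_of_le hlt hd) R₁ C₁ p₁ le_rfl
    letI : Algebra R R₂ := ((algebraMap R₁ R₂).comp (algebraMap R R₁)).toAlgebra
    haveI : IsScalarTower R R₁ R₂ := .of_algebraMap_eq' rfl
    haveI : Algebra.Etale R R₂ := Algebra.Etale.comp R R₁ R₂
    haveI : p₂.LiesOver p := Ideal.LiesOver.trans p₂ p₁ p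
    let ε₂ : R₂ ⊗[R] C := Algebra.TensorProduct.rTensor C (Algebra.ofId R₁ R₂) ε
    let τ : R₂ ⊗[R₁] C₁ ≃ₐ[R₂] (R₂ ⊗[R] C) ⧸ Ideal.span {ε₂} :=
      Algebra.tensorQuotientTensorEquiv R₂ ε
    have he' := he.map τ
    -- the idempotent `ε₂`
    have hpre : IsPre p₁ (fun _ : Unit => ε) :=
      { ortho := ⟨fun _ => hε, fun i j hij => absurd (Subsingleton.elim i j) hij⟩
        surj := fun _ x => by
          obtain ⟨a, ha⟩ := h4 x
          exact ⟨a, by rw [ha, Algebra.TensorProduct.algebraMap_apply, Algebra.algebraMap_self,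
            RingHom.id_apply]⟩
        prime := fun _ => ⟨𝔓, inferInstance, h1, h3⟩ }
    have hpre₂ := (hpre.baseChange R₂ p₂ (p₂.over_def p₁).symm).map
      (Algebra.TensorProduct.cancelBaseChange R R₁ R₂ R₂ C)
    simp only [cancelBaseChange_one_tmul] at hpre₂
    obtain ⟨e', he''⟩ := IsSol.extend ε₂ (hε.map _) (hpre₂.surj ()) (hpre₂.prime ()) he'
    exact ⟨R₂, inferInstance, inferInstance, inferInstance, p₂, inferInstance, inferInstance,
      Option ι, inferInstance, e', he''⟩
  · refine ⟨R, inferInstance, inferInstance, inferInstance, p, inferInstance, ⟨rfl⟩, Empty,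
      inferInstance, Empty.elim, ⟨⟨⟨fun i => i.elim, fun i => i.elim⟩, fun i => i.elim,
      fun i => i.elim⟩, ?_⟩⟩
    intro 𝔔 h1 h2
    exfalso
    apply hne
    refine ⟨𝔔.comap (Algebra.TensorProduct.includeRight : C →ₐ[R] R ⊗[R] C).toRingHom,
      inferInstance, ?_⟩
    rw [← h2, Ideal.comap_comap]
    congr 1
    ext a
    simp only [RingHom.coe_comp, Function.comp_apply, AlgHom.toRingHom_eq_coe, RingHom.coe_coe,
      AlgHom.commutes]

end existence

section product

variable {R' M : Type*} [CommRing R'] [CommRing M] [Algebra R' M] {p' : Ideal R'}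

lemma IsSol.reindex {ι κ : Type*} {e : ι → M} (h : IsSol p' e) (σ : κ ≃ ι) :
    IsSol p' (fun k => e (σ k)) where
  ortho := ⟨fun k => h.ortho.idem _, fun i j hij => h.ortho.ortho (fun h' => hij (σ.injective h'))⟩
  surj k := h.surj _
  prime k := h.prime _
  cover 𝔔 h1 h2 := by
    obtain ⟨i, hi⟩ := h.cover 𝔔 h1 h2
    exact ⟨σ.symm i, by simpa using hi⟩

/-- the quotient by `1 - ε` of an idempotent with the `IsPre` properties is a quotient of `R'` in
which `p'` extends to a prime lying over `p'`. -/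
lemma idem_quot_props (ε : M) (hε : IsIdempotentElem ε) (𝔓 : Ideal M) [𝔓.IsPrime]
    (h1 : 𝔓.comap (algebraMap R' M) = p') (h3 : ε ∉ 𝔓)
    (h4 : ∀ x : M, ∃ a : R', ε * x = ε * algebraMap R' M a) :
    Function.Surjective (algebraMap R' (M ⧸ Ideal.span {1 - ε})) ∧
      (p'.map (algebraMap R' (M ⧸ Ideal.span {1 - ε}))).IsPrime ∧
      (p'.map (algebraMap R' (M ⧸ Ideal.span {1 - ε}))).comap
        (algebraMap R' (M ⧸ Ideal.span {1 - ε})) = p' := by
  have h1ε : 1 - ε ∈ 𝔓 := by
    have : ε * (1 - ε) ∈ 𝔓 := by rw [mul_sub, mul_one, hε.eq, sub_self]; exact zero_mem _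
    exact (‹𝔓.IsPrime›.mem_or_mem this).resolve_left h3
  have hker : RingHom.ker (Ideal.Quotient.mk (Ideal.span {1 - ε})) ≤ 𝔓 := by
    rw [Ideal.mk_ker, Ideal.span_le]
    simpa using h1ε
  have hmk : ∀ x a, ε * x = ε * algebraMap R' M a →
      Ideal.Quotient.mk (Ideal.span {1 - ε}) x = algebraMap R' (M ⧸ Ideal.span {1 - ε}) a := by
    intro x a hxa
    rw [IsScalarTower.algebraMap_apply R' M (M ⧸ Ideal.span {1 - ε}), Ideal.Quotient.algebraMap_eq,
      Ideal.Quotient.eq, Ideal.mem_span_singleton]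
    refine ⟨x - algebraMap R' M a, ?_⟩
    have : ε * (x - algebraMap R' M a) = 0 := by rw [mul_sub, hxa, sub_self]
    rw [sub_mul, one_mul, this, sub_zero]
  have hsurj : Function.Surjective (algebraMap R' (M ⧸ Ideal.span {1 - ε})) := by
    intro x
    obtain ⟨x, rfl⟩ := Ideal.Quotient.mk_surjective x
    obtain ⟨a, ha⟩ := h4 x
    exact ⟨a, (hmk x a ha).symm⟩
  have hmap : p'.map (algebraMap R' (M ⧸ Ideal.span {1 - ε})) =
      𝔓.map (Ideal.Quotient.mk (Ideal.span {1 - ε})) := by
    apply le_antisymm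
    · rw [Ideal.map_le_iff_le_comap]
      intro a ha
      rw [Ideal.mem_comap, IsScalarTower.algebraMap_apply R' M (M ⧸ Ideal.span {1 - ε})]
      refine Ideal.mem_map_of_mem _ ?_
      rw [← h1] at ha
      exact ha
    · rw [Ideal.map_le_iff_le_comap]
      intro x hx
      obtain ⟨a, ha⟩ := h4 x
      rw [Ideal.mem_comap, hmk x a ha]
      refine Ideal.mem_map_of_mem _ ?_
      rw [← h1, Ideal.mem_comap]
      have : ε * algebraMap R' M a ∈ 𝔓 := ha ▸ Ideal.mul_mem_left _ _ hx
      exact (‹𝔓.IsPrime›.mem_or_mem this).resolve_left h3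
  have hcm : (𝔓.map (Ideal.Quotient.mk (Ideal.span {1 - ε}))).comap
      (Ideal.Quotient.mk (Ideal.span {1 - ε})) = 𝔓 := by
    rw [Ideal.comap_map_of_surjective _ Ideal.Quotient.mk_surjective, ← RingHom.ker_eq_comap_bot]
    exact sup_eq_left.mpr hker
  refine ⟨hsurj, ?_, ?_⟩
  · rw [hmap]
    exact Ideal.map_isPrime_of_surjective Ideal.Quotient.mk_surjective hker
  · rw [hmap, IsScalarTower.algebraMap_eq R' M (M ⧸ Ideal.span {1 - ε}), ← Ideal.comap_comap,
      Ideal.Quotient.algebraMap_eq, hcm, h1]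

/-- product decomposition attached to a finite family of orthogonal idempotents. -/
lemma bijective_prod_of_orthogonalIdempotents {ι : Type*} [Fintype ι] (e : ι → M)
    (he : OrthogonalIdempotents e) :
    Function.Bijective ((AlgHom.pi (A := fun i => M ⧸ Ideal.span {1 - e i})
      (fun i => Ideal.Quotient.mkₐ R' (Ideal.span {1 - e i}))).prod
      (Ideal.Quotient.mkₐ R' (Ideal.span {∑ i, e i}))) := by
  classical
  set s := ∑ i, e i with hs
  have hes : ∀ i, e i * s = e i := by
    intro i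
    rw [hs, Finset.mul_sum, Finset.sum_eq_single i, (he.idem i).eq]
    · intro j _ hji
      exact he.ortho hji.symm
    · intro h
      exact absurd (Finset.mem_univ i) h
  have hss : s * s = s := by
    rw [hs, Finset.sum_mul]
    exact Finset.sum_congr rfl fun i _ => hes i
  constructor
  · rw [injective_iff_map_eq_zero]
    intro x hx
    rw [Prod.ext_iff] at hx
    obtain ⟨hx1, hx2⟩ := hx
    have h1 : ∀ i, e i * x = 0 := by
      intro i
      have : Ideal.Quotient.mk (Ideal.span {1 - e i}) x = 0 := congrFun hx1 i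
      simp only [Ideal.Quotient.eq_zero_iff_mem, Ideal.mem_span_singleton'] at this
      obtain ⟨a, rfl⟩ := this
      rw [mul_left_comm, mul_sub, mul_one, (he.idem i).eq, sub_self, mul_zero]
    have h2 : s * x = x := by
      have hx2 : Ideal.Quotient.mk (Ideal.span {s}) x = 0 := hx2
      simp only [Ideal.Quotient.eq_zero_iff_mem, Ideal.mem_span_singleton'] at hx2
      obtain ⟨a, rfl⟩ := hx2
      rw [mul_left_comm, hss]
    rw [← h2, hs, Finset.sum_mul]
    exact Finset.sum_eq_zero fun i _ => h1 i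
  · rintro ⟨a, b⟩
    choose x hx using fun i => Ideal.Quotient.mk_surjective (a i)
    obtain ⟨y, rfl⟩ := Ideal.Quotient.mk_surjective b
    refine ⟨∑ i, e i * x i + (1 - s) * y, ?_⟩
    have hmk1 : ∀ j, Ideal.Quotient.mk (Ideal.span {1 - e j}) (e j) = 1 := by
      intro j
      rw [← sub_eq_zero, ← map_one (Ideal.Quotient.mk (Ideal.span {1 - e j})), ← map_sub,
        Ideal.Quotient.eq_zero_iff_mem]
      have : e j - 1 = -(1 - e j) := by ring
      rw [this]
      exact neg_mem (Ideal.mem_span_singleton_self _)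
    have hmk0 : ∀ j i, i ≠ j → Ideal.Quotient.mk (Ideal.span {1 - e j}) (e i) = 0 := by
      intro j i hij
      rw [Ideal.Quotient.eq_zero_iff_mem, Ideal.mem_span_singleton']
      exact ⟨e i, by rw [mul_sub, mul_one, he.ortho hij, sub_zero]⟩
    have hmks : ∀ j, Ideal.Quotient.mk (Ideal.span {1 - e j}) s = 1 := by
      intro j
      rw [hs, map_sum, Finset.sum_eq_single j, hmk1]
      · intro i _ hij
        exact hmk0 j i hij
      · intro h
        exact absurd (Finset.mem_univ j) h
    have hmke : ∀ i, Ideal.Quotient.mk (Ideal.span {s}) (e i) = 0 := by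
      intro i
      rw [Ideal.Quotient.eq_zero_iff_mem, Ideal.mem_span_singleton']
      exact ⟨e i, hes i⟩
    refine Prod.ext (funext fun j => ?_) ?_
    · show Ideal.Quotient.mk (Ideal.span {1 - e j}) (∑ i, e i * x i + (1 - s) * y) = a j
      simp only [map_add, map_sum, map_mul, map_sub, map_one, hmks, sub_self, zero_mul, add_zero]
      rw [Finset.sum_eq_single j, hmk1, one_mul, hx]
      · intro i _ hij
        rw [hmk0 j i hij, zero_mul]
      · intro h
        exact absurd (Finset.mem_univ j) h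
    · show Ideal.Quotient.mk (Ideal.span {s}) (∑ i, e i * x i + (1 - s) * y) =
        Ideal.Quotient.mk (Ideal.span {s}) y
      simp only [map_add, map_sum, map_mul, map_sub, map_one, hmke, zero_mul,
        Finset.sum_const_zero, zero_add]
      rw [Ideal.Quotient.eq_zero_iff_mem.mpr (Ideal.mem_span_singleton_self s), sub_zero, one_mul]

end product

/-- **Stacks 00UY** in idempotent form. -/
theorem exists_isSol (R C : Type u) [CommRing R] [CommRing C] [Algebra R C]
    [Algebra.Unramified R C] (p : Ideal R) [p.IsPrime] :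
    ∃ (R' : Type u) (_ : CommRing R') (_ : Algebra R R') (_ : Algebra.Etale R R') (p' : Ideal R')
      (_ : p'.IsPrime) (_ : p'.LiesOver p) (ι : Type) (_ : Fintype ι) (e : ι → R' ⊗[R] C),
      IsSol p' e :=
  exists_isSol_aux _ R C p le_rfl

/-- from the idempotent form to the product form. -/
theorem IsSol.exists_prod {R' M : Type u} [CommRing R'] [CommRing M] [Algebra R' M] {p' : Ideal R'}
    {ι : Type} [Fintype ι] {e : ι → M} (he : IsSol p' e) :
    ∃ (n : ℕ) (A : Fin n → Type u) (_ : ∀ i, CommRing (A i))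
      (_ : ∀ i, Algebra R' (A i)) (B : Type u) (_ : CommRing B) (_ : Algebra R' B),
      Nonempty (M ≃ₐ[R'] ((∀ i, A i) × B)) ∧
        (∀ i, Function.Surjective (algebraMap R' (A i)) ∧
          (p'.map (algebraMap R' (A i))).IsPrime ∧
          (p'.map (algebraMap R' (A i))).comap (algebraMap R' (A i)) = p') ∧
        ∀ (q : Ideal B) [q.IsPrime], q.comap (algebraMap R' B) ≠ p' := by
  classical
  let n := Fintype.card ι
  let σ : Fin n ≃ ι := (Fintype.equivFin ι).symm
  have he' := he.reindex σ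
  refine ⟨n, fun i => M ⧸ Ideal.span {1 - e (σ i)}, fun i => inferInstance, fun i => inferInstance,
    M ⧸ Ideal.span {∑ i, e (σ i)}, inferInstance, inferInstance,
    ⟨AlgEquiv.ofBijective _ (bijective_prod_of_orthogonalIdempotents _ he'.ortho)⟩, ?_, ?_⟩
  · intro i
    obtain ⟨𝔓, h1, h2, h3⟩ := he'.prime i
    exact idem_quot_props _ (he'.ortho.idem i) 𝔓 h2 h3 (he'.surj i)
  · intro q hq hqp
    obtain ⟨i, hi⟩ := he'.cover (q.comap (Ideal.Quotient.mk (Ideal.span {∑ i, e (σ i)})))
      inferInstance (by rw [Ideal.comap_comap]; exact hqp)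
    apply hi
    rw [Ideal.mem_comap]
    have h1 : e (σ i) = e (σ i) * ∑ j, e (σ j) := by
      rw [Finset.mul_sum, Finset.sum_eq_single i, (he'.ortho.idem i).eq]
      · intro j _ hji
        exact he'.ortho.ortho hji.symm
      · intro h
        exact absurd (Finset.mem_univ i) h
    rw [h1, map_mul, Ideal.Quotient.eq_zero_iff_mem.mpr (Ideal.mem_span_singleton_self _),
      mul_zero]
    exact zero_mem _

end Groth.Agent.Lib.Helper35.UnramSplit
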