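import Mathlib
import Groth.Agent.Lib.Helper35.UnramSplit2

set_option autoImplicit false
set_option linter.style.haveILetI false
set_option maxHeartbeats 400000
set_option backward.isDefEq.respectTransparency.types false
universe u

namespace Groth.Agent.Lib.Helper35.UnramSplit

open TensorProduct

/-- **Stacks 00UY for a finite family** of unramified algebras (idempotent form). -/
theorem exists_isSol_family {R : Type u} [CommRing R] (p : Ideal R) [p.IsPrime] {ι : Type}
    [Finite ι] (C : ι → Type u) [∀ i, CommRing (C i)] [∀ i, Algebra R (C i)]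
    [∀ i, Algebra.Unramified R (C i)] :
    ∃ (R' : Type u) (_ : CommRing R') (_ : Algebra R R') (_ : Algebra.Etale R R') (p' : Ideal R')
      (_ : p'.IsPrime) (_ : p'.LiesOver p),
      ∀ i, ∃ (κ : Type) (_ : Fintype κ) (e : κ → R' ⊗[R] C i), IsSol p' e := by
  classical
  haveI := Fintype.ofFinite ι
  suffices H : ∀ s : Finset ι, ∃ (R' : Type u) (_ : CommRing R') (_ : Algebra R R')
      (_ : Algebra.Etale R R') (p' : Ideal R') (_ : p'.IsPrime) (_ : p'.LiesOver p),
      ∀ i ∈ s, ∃ (κ : Type) (_ : Fintype κ) (e : κ → R' ⊗[R] C i), IsSol p' e by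
    obtain ⟨R', i1, i2, i3, p', i4, i5, h⟩ := H Finset.univ
    exact ⟨R', i1, i2, i3, p', i4, i5, fun i => h i (Finset.mem_univ i)⟩
  intro s
  induction s using Finset.induction_on with
  | empty =>
    exact ⟨R, inferInstance, inferInstance, inferInstance, p, inferInstance, ⟨rfl⟩,
      fun i hi => absurd hi (Finset.notMem_empty i)⟩
  | insert i₀ s hi₀ ih =>
    obtain ⟨R', _, _, _, p', _, _, h⟩ := ih
    obtain ⟨R'', _, _, _, p'', _, _, κ₀, _, e₀, he₀⟩ := exists_isSol R' (R' ⊗[R] C i₀) p'
    letI : Algebra R R'' := ((algebraMap R' R'').comp (algebraMap R R')).toAlgebra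
    haveI : IsScalarTower R R' R'' := .of_algebraMap_eq' rfl
    haveI : Algebra.Etale R R'' := Algebra.Etale.comp R R' R''
    haveI : p''.LiesOver p := Ideal.LiesOver.trans p'' p' p
    refine ⟨R'', inferInstance, inferInstance, inferInstance, p'', inferInstance, inferInstance,
      fun i hi => ?_⟩
    by_cases hi' : i = i₀
    · subst hi'
      exact ⟨κ₀, inferInstance, _,
        he₀.map (Algebra.TensorProduct.cancelBaseChange R R' R'' R'' (C i))⟩
    · obtain ⟨κ, _, e, he⟩ := h i ((Finset.mem_insert.mp hi).resolve_left hi')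
      exact ⟨κ, inferInstance, _, ((he.baseChange R'' p'' (p''.over_def p').symm).map
        (Algebra.TensorProduct.cancelBaseChange R R' R'' R'' (C i)))⟩

end Groth.Agent.Lib.Helper35.UnramSplit
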