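import Mathlib
import Groth.Agent.Lib.Helper35.UnramSplit3

set_option autoImplicit false
set_option linter.style.haveILetI false
set_option maxHeartbeats 400000
set_option backward.isDefEq.respectTransparency.types false
universe u

namespace Groth.Agent.Lib.Helper35.UnramSplitScheme

open AlgebraicGeometry CategoryTheory Limits TensorProduct
open Groth.Agent.Lib.Helper35.UnramSplit

/-- ring-level property of an affine chart `V ⊆ W` from the property of the restriction to `W`. -/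
lemma appLE_of_restrict {P : MorphismProperty Scheme.{u}}
    {Q : ∀ {R S : Type u} [CommRing R] [CommRing S], (R →+* S) → Prop} [HasRingHomProperty P Q]
    {X S : Scheme.{u}} (f : X ⟶ S) (W : X.Opens) (hP : P (W.ι ≫ f)) {S₀ : S.Opens}
    (hS₀ : IsAffineOpen S₀) {V : X.Opens} (hV : IsAffineOpen V) (hVW : V ≤ W)
    (hVS : V ≤ f ⁻¹ᵁ S₀) : Q (f.appLE S₀ V hVS).hom := by
  have h1 : P (V.ι ≫ f) := by
    rw [← X.homOfLE_ι hVW, Category.assoc]
    exact IsZariskiLocalAtSource.comp hP _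
  haveI : IsAffine V.toScheme := hV
  have hle : (⊤ : V.toScheme.Opens) ≤ (V.ι ≫ f) ⁻¹ᵁ S₀ := by
    intro y _
    exact hVS y.2
  have h2 := HasRingHomProperty.appLE (P := P) (V.ι ≫ f) h1 ⟨S₀, hS₀⟩ ⟨⊤, isAffineOpen_top _⟩ hle
  have h3 : (V.ι ≫ f).appLE S₀ ⊤ hle = f.appLE S₀ V hVS ≫ V.ι.appLE V ⊤ (by simp) := by
    rw [Scheme.Hom.appLE_comp_appLE]
  have hiso : IsIso (V.ι.appLE V ⊤ (by simp)) := by
    rw [Scheme.Opens.ι_appLE]
    have h4 : V ≤ V.ι ''ᵁ ⊤ := by rw [V.ι_image_top]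
    have h5 : V.ι ''ᵁ ⊤ ≤ V := by rw [V.ι_image_top]
    have : IsIso (homOfLE h5) :=
      ⟨homOfLE h4, Subsingleton.elim _ _, Subsingleton.elim _ _⟩
    have : IsIso (homOfLE h5).op := inferInstance
    exact Functor.map_isIso X.presheaf (homOfLE h5).op
  rw [h3] at h2
  exact ((HasRingHomProperty.isLocal_ringHomProperty P).respectsIso.cancel_right_isIso _ _).mp h2

/-- affine chart of the base change of `f` along `Spec R' → S₀ ⊆ S`. -/
theorem exists_chart {X S : Scheme.{u}} (f : X ⟶ S) {S₀ : S.Opens} (hS₀ : IsAffineOpen S₀)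
    {W : X.Opens} (hW : IsAffineOpen W) (hWS : W ≤ f ⁻¹ᵁ S₀)
    [Algebra Γ(S, S₀) Γ(X, W)] (halg : algebraMap Γ(S, S₀) Γ(X, W) = (f.appLE S₀ W hWS).hom)
    (R' : Type u) [CommRing R'] [Algebra Γ(S, S₀) R'] :
    ∃ j : Spec (.of (R' ⊗[Γ(S, S₀)] Γ(X, W))) ⟶
        pullback f (Spec.map (CommRingCat.ofHom (algebraMap Γ(S, S₀) R')) ≫ hS₀.fromSpec),
      IsOpenImmersion j ∧
      j ≫ pullback.fst _ _ = Spec.map (CommRingCat.ofHom
        (Algebra.TensorProduct.includeRight :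
          Γ(X, W) →ₐ[Γ(S, S₀)] R' ⊗[Γ(S, S₀)] Γ(X, W)).toRingHom) ≫ hW.fromSpec ∧
      j ≫ pullback.snd _ _ =
        Spec.map (CommRingCat.ofHom (algebraMap R' (R' ⊗[Γ(S, S₀)] Γ(X, W)))) ∧
      Set.range j = pullback.fst f _ ⁻¹' (W : Set X) := by
  let φ : Γ(S, S₀) ⟶ .of R' := CommRingCat.ofHom (algebraMap Γ(S, S₀) R')
  let ψ : Γ(S, S₀) ⟶ Γ(X, W) := CommRingCat.ofHom (algebraMap Γ(S, S₀) Γ(X, W))
  have hψ : ψ = f.appLE S₀ W hWS := CommRingCat.hom_ext halg
  let e₁ : Spec (.of (R' ⊗[Γ(S, S₀)] Γ(X, W))) ≅ pullback (Spec.map ψ) (Spec.map φ) :=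
    (pullbackSpecIso _ _ _).symm ≪≫ pullbackSymmetry _ _
  have he₁ : e₁.hom ≫ pullback.fst _ _ =
      Spec.map (CommRingCat.ofHom (Algebra.TensorProduct.includeRight :
          Γ(X, W) →ₐ[Γ(S, S₀)] R' ⊗[Γ(S, S₀)] Γ(X, W)).toRingHom) := by
    dsimp [e₁]
    rw [Category.assoc, pullbackSymmetry_hom_comp_fst]
    exact pullbackSpecIso_inv_snd ..
  have he₂ : e₁.hom ≫ pullback.snd _ _ =
      Spec.map (CommRingCat.ofHom (algebraMap R' (R' ⊗[Γ(S, S₀)] Γ(X, W)))) := by
    dsimp [e₁]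
    rw [Category.assoc, pullbackSymmetry_hom_comp_snd]
    exact pullbackSpecIso_inv_fst' ..
  have hc : Spec.map ψ ≫ hS₀.fromSpec = hW.fromSpec ≫ f := by
    rw [hψ]
    exact IsAffineOpen.SpecMap_appLE_fromSpec ..
  let m := pullback.map (Spec.map ψ) (Spec.map φ) f (Spec.map φ ≫ hS₀.fromSpec) hW.fromSpec (𝟙 _)
    hS₀.fromSpec hc (by simp)
  refine ⟨e₁.hom ≫ m, inferInstance, ?_, ?_, ?_⟩
  · rw [Category.assoc, pullback.lift_fst, ← Category.assoc, he₁]
  · rw [Category.assoc, pullback.lift_snd, Category.comp_id, he₂]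
  · have hsurj : Function.Surjective e₁.hom := e₁.hom.homeomorph.surjective
    rw [Scheme.Hom.comp_base, TopCat.coe_comp, Set.range_comp,
      Set.range_eq_univ.mpr hsurj, Set.image_univ,
      Scheme.Pullback.range_map, hW.range_fromSpec]
    simp only [Scheme.Hom.id_base, TopCat.coe_id, Set.range_id, Set.preimage_univ,
      Set.inter_univ]
    rfl

/-- unramified morphisms are locally quasi-finite. -/
theorem locallyQuasiFinite_of_unramified {A B : Scheme.{u}} (h : A ⟶ B) [LocallyOfFiniteType h]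
    [FormallyUnramified h] : LocallyQuasiFinite h := by
  rw [HasRingHomProperty.iff_appLE (P := @LocallyQuasiFinite)]
  intro U V hUV
  have h1 : RingHom.FormallyUnramified (h.appLE U V hUV).hom :=
    HasRingHomProperty.appLE (P := @FormallyUnramified) h inferInstance U V hUV
  have h2 : RingHom.FiniteType (h.appLE U V hUV).hom :=
    HasRingHomProperty.appLE (P := @LocallyOfFiniteType) h inferInstance U V hUV
  algebraize [(h.appLE U V hUV).hom]
  exact RingHom.quasiFinite_algebraMap.2 inferInstance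

/-- an affine open neighbourhood isolating an unramified point in its fibre. -/
lemma exists_isolating_affine {X S : Scheme.{u}} (f : X ⟶ S) (s : S) (x₀ : X) (hx₀ : f x₀ = s)
    (W : X.Opens) (hx₀W : x₀ ∈ W) [LocallyOfFiniteType (W.ι ≫ f)] [FormallyUnramified (W.ι ≫ f)]
    (O : X.Opens) (hx₀O : x₀ ∈ O) :
    ∃ W' : X.Opens, IsAffineOpen W' ∧ x₀ ∈ W' ∧ W' ≤ W ∧ W' ≤ O ∧
      ∀ y ∈ W', f y = s → y = x₀ := by
  haveI := locallyQuasiFinite_of_unramified (W.ι ≫ f)
  have hdisc := (W.ι ≫ f).isDiscrete_preimage_singleton s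
  rw [isDiscrete_iff_forall_mem_exists_isOpen] at hdisc
  obtain ⟨o, ho, hoz⟩ := hdisc ⟨x₀, hx₀W⟩ (by simpa using hx₀)
  let O' : X.Opens := W.ι ''ᵁ ⟨o, ho⟩
  have hx₀o : (⟨x₀, hx₀W⟩ : W) ∈ o := by
    have : (⟨x₀, hx₀W⟩ : W) ∈ o ∩ (W.ι ≫ f) ⁻¹' {s} := by rw [hoz]; rfl
    exact this.1
  have hx₀O' : x₀ ∈ O' := ⟨⟨x₀, hx₀W⟩, hx₀o, rfl⟩
  obtain ⟨_, ⟨W', hW', rfl⟩, hxW', hW'O⟩ :=
    X.isBasis_affineOpens.exists_subset_of_mem_open (show x₀ ∈ (O' ⊓ O : X.Opens) from
      ⟨hx₀O', hx₀O⟩) (O' ⊓ O).2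
  refine ⟨W', hW', hxW', ?_, fun y hy => (hW'O hy).2, ?_⟩
  · intro y hy
    obtain ⟨y', -, rfl⟩ := (hW'O hy).1
    exact y'.2
  · intro y hy hfy
    obtain ⟨y', hy'o, rfl⟩ := (hW'O hy).1
    have : y' ∈ o ∩ (W.ι ≫ f) ⁻¹' {s} := ⟨hy'o, by simpa using hfy⟩
    rw [hoz] at this
    rw [Set.mem_singleton_iff.mp this]
    rfl

lemma surjective_algebraMap_away {R' M : Type*} [CommRing R'] [CommRing M] [Algebra R' M] (e : M)
    (he : IsIdempotentElem e) (h : ∀ x : M, ∃ a : R', e * x = e * algebraMap R' M a) :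
    Function.Surjective (algebraMap R' (Localization.Away e)) := by
  let A := Localization.Away e
  have he1 : algebraMap M A e = 1 := by
    have hu : IsUnit (algebraMap M A e) :=
      IsLocalization.map_units A (⟨e, Submonoid.mem_powers e⟩ : Submonoid.powers e)
    have h1 : algebraMap M A e * algebraMap M A e = algebraMap M A e * 1 := by
      rw [← map_mul, he.eq, mul_one]
    exact hu.mul_left_cancel h1
  intro b
  obtain ⟨m, ⟨_, n, rfl⟩, rfl⟩ := IsLocalization.exists_mk'_eq (Submonoid.powers e) b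
  obtain ⟨a, ha⟩ := h m
  refine ⟨a, ?_⟩
  have hb : IsLocalization.mk' A m (⟨e ^ n, n, rfl⟩ : Submonoid.powers e) = algebraMap M A m := by
    have := IsLocalization.mk'_spec A m (⟨e ^ n, n, rfl⟩ : Submonoid.powers e)
    simpa [he1] using this
  rw [hb, IsScalarTower.algebraMap_apply R' M A]
  have := congrArg (algebraMap M A) ha
  rw [map_mul, map_mul, he1, one_mul, one_mul] at this
  exact this.symm

/-- **Master lemma** (Stacks 04HJ with extra bookkeeping). -/
theorem master {X S : Scheme.{u}} (f : X ⟶ S) (s : S) {ι : Type} [Finite ι] (x : ι → X)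
    (hinj : Function.Injective x) (hs : ∀ i, f (x i) = s) (W : ι → X.Opens)
    (hxW : ∀ i, x i ∈ W i) (hlft : ∀ i, LocallyOfFiniteType ((W i).ι ≫ f))
    (hunr : ∀ i, FormallyUnramified ((W i).ι ≫ f)) :
    ∃ (U : Scheme.{u}) (g : U ⟶ S) (u : U), IsAffine U ∧ Etale g ∧ g u = s ∧
      ∃ (K : Type) (_ : Finite K) (lab : K → ι) (V : K → (pullback f g).Opens),
        (∀ k, V k ≤ pullback.fst f g ⁻¹ᵁ W (lab k)) ∧
        (∀ k, IsClosedImmersion ((V k).ι ≫ pullback.snd f g) ∧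
          ∃ w : ↑(pullback f g), w ∈ V k ∧ pullback.snd f g w = u) ∧
        (∀ (k k' : K) (w : ↑(pullback f g)), w ∈ V k → w ∈ V k' →
          pullback.snd f g w = u → k = k') ∧
        (∀ (w : ↑(pullback f g)) (i : ι), pullback.snd f g w = u → pullback.fst f g w = x i →
          ∃ k, lab k = i ∧ w ∈ V k) := by
  obtain ⟨_, ⟨S₀, hS₀, rfl⟩, hsS₀, -⟩ :=
    S.isBasis_affineOpens.exists_subset_of_mem_open (Set.mem_univ s) isOpen_univ
  have hx1 : ∀ i, x i ∈ f ⁻¹ᵁ S₀ := fun i => by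
    show f (x i) ∈ S₀
    rw [hs i]
    exact hsS₀
  choose W' hW' hxW' hW'W hW'S hiso using fun i =>
    exists_isolating_affine f s (x i) (hs i) (W i) (hxW i) (f ⁻¹ᵁ S₀) (hx1 i)
  letI : ∀ i, Algebra Γ(S, S₀) Γ(X, W' i) := fun i => (f.appLE S₀ (W' i) (hW'S i)).hom.toAlgebra
  have halg : ∀ i, algebraMap Γ(S, S₀) Γ(X, W' i) = (f.appLE S₀ (W' i) (hW'S i)).hom :=
    fun i => rfl
  haveI : ∀ i, Algebra.Unramified Γ(S, S₀) Γ(X, W' i) := fun i => by
    have h1 : RingHom.FormallyUnramified (f.appLE S₀ (W' i) (hW'S i)).hom :=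
      appLE_of_restrict (P := @FormallyUnramified) f (W i) (hunr i) hS₀ (hW' i) (hW'W i) (hW'S i)
    have h2 : RingHom.FiniteType (f.appLE S₀ (W' i) (hW'S i)).hom :=
      appLE_of_restrict (P := @LocallyOfFiniteType) f (W i) (hlft i) hS₀ (hW' i) (hW'W i)
        (hW'S i)
    haveI : Algebra.FormallyUnramified Γ(S, S₀) Γ(X, W' i) :=
      RingHom.formallyUnramified_algebraMap.mp (by rw [halg]; exact h1)
    haveI : Algebra.FiniteType Γ(S, S₀) Γ(X, W' i) :=
      RingHom.finiteType_algebraMap.mp (by rw [halg]; exact h2)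
    exact {}
  let p : Ideal Γ(S, S₀) := (hS₀.primeIdealOf ⟨s, hsS₀⟩).asIdeal
  obtain ⟨R', _, _, _, p', _, hp'p, hsol⟩ := exists_isSol_family p (fun i => Γ(X, W' i))
  choose κ hκ e he using hsol
  let φ : Γ(S, S₀) ⟶ .of R' := CommRingCat.ofHom (algebraMap Γ(S, S₀) R')
  let g : Spec (.of R') ⟶ S := Spec.map φ ≫ hS₀.fromSpec
  let u : Spec (.of R') := ⟨p', inferInstance⟩
  have hg : Etale g := by
    haveI : Etale (Spec.map φ) := by
      rw [HasRingHomProperty.Spec_iff (P := @Etale)]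
      exact RingHom.etale_algebraMap.mpr inferInstance
    infer_instance
  have hgu : g u = s := by
    have h1 : Spec.map φ u = hS₀.primeIdealOf ⟨s, hsS₀⟩ := PrimeSpectrum.ext hp'p.over.symm
    show hS₀.fromSpec (Spec.map φ u) = s
    rw [h1, hS₀.fromSpec_primeIdealOf]
  choose j hj1 hj2 hj3 hj4 using fun i => exists_chart f hS₀ (hW' i) (hW'S i) (halg i) R'
  have hj3' : ∀ i, j i ≫ pullback.snd f g =
      Spec.map (CommRingCat.ofHom (algebraMap R' (R' ⊗[Γ(S, S₀)] Γ(X, W' i)))) := hj3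
  have hj4' : ∀ i, Set.range (j i) = pullback.fst f g ⁻¹' (W' i : Set X) := hj4
  -- points of the charts
  have hfst : ∀ i (y : Spec (.of (R' ⊗[Γ(S, S₀)] Γ(X, W' i)))),
      pullback.fst f g (j i y) ∈ W' i := by
    intro i y
    have : j i y ∈ Set.range (j i) := ⟨y, rfl⟩
    rw [hj4' i] at this
    exact this
  have hsnd : ∀ i (y : Spec (.of (R' ⊗[Γ(S, S₀)] Γ(X, W' i)))),
      pullback.snd f g (j i y) = u →
      y.asIdeal.comap (algebraMap R' (R' ⊗[Γ(S, S₀)] Γ(X, W' i))) = p' := by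
    intro i y hy
    rw [← Scheme.Hom.comp_apply, hj3' i] at hy
    exact congrArg PrimeSpectrum.asIdeal hy
  refine ⟨Spec (.of R'), g, u, inferInstance, hg, hgu, Σ i, κ i, inferInstance, Sigma.fst,
    fun k => (j k.1) ''ᵁ PrimeSpectrum.basicOpen (e k.1 k.2), ?_, ?_, ?_, ?_⟩
  · rintro ⟨i, k⟩ w ⟨y, -, rfl⟩
    exact hW'W i (hfst i y)
  · rintro ⟨i, k⟩
    constructor
    · let ee := e i k
      let ι₀ : Spec (.of (Localization.Away ee)) ⟶ pullback f g :=
        Spec.map (CommRingCat.ofHom (algebraMap _ (Localization.Away ee))) ≫ j i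
      have hr : ι₀.opensRange = (j i) ''ᵁ PrimeSpectrum.basicOpen ee := by
        simp only [Scheme.Hom.opensRange_comp, ι₀]
        congr 1
        exact TopologicalSpace.Opens.ext <| PrimeSpectrum.localization_away_comap_range _ _
      show IsClosedImmersion (((j i) ''ᵁ PrimeSpectrum.basicOpen ee).ι ≫ pullback.snd f g)
      rw [← hr, ← MorphismProperty.cancel_left_of_respectsIso @IsClosedImmersion
        (Scheme.Hom.isoOpensRange ι₀).hom, ← Category.assoc, Scheme.Hom.isoOpensRange_hom_ι]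
      have h2 : ι₀ ≫ pullback.snd f g = Spec.map (CommRingCat.ofHom
          (algebraMap R' (Localization.Away ee))) := by
        simp only [ι₀, Category.assoc]
        rw [hj3' i, ← Spec.map_comp, ← CommRingCat.ofHom_comp]
      rw [h2]
      exact IsClosedImmersion.spec_of_surjective _
        (surjective_algebraMap_away ee ((he i).ortho.idem k) ((he i).surj k))
    · obtain ⟨𝔓, h1, h2, h3⟩ := (he i).prime k
      refine ⟨j i ⟨𝔓, h1⟩, ⟨⟨𝔓, h1⟩, h3, rfl⟩, ?_⟩
      rw [← Scheme.Hom.comp_apply, hj3' i]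
      exact PrimeSpectrum.ext h2
  · rintro ⟨i, k⟩ ⟨i', k'⟩ w ⟨y, hy, rfl⟩ ⟨y', hy', hyy'⟩ hwu
    have hwu' : pullback.snd f g (j i y) = u := hwu
    have hyy'' : j i' y' = j i y := hyy'
    have hy1 : e i k ∉ y.asIdeal := hy
    have hy1' : e i' k' ∉ y'.asIdeal := hy'
    have h1 : pullback.fst f g (j i y) = x i := by
      refine hiso i _ (hfst i y) ?_
      rw [← Scheme.Hom.comp_apply, pullback.condition, Scheme.Hom.comp_apply, hwu', hgu]
    have h2 : pullback.fst f g (j i y) = x i' := by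
      rw [← hyy'']
      refine hiso i' _ (hfst i' y') ?_
      rw [← Scheme.Hom.comp_apply, pullback.condition, Scheme.Hom.comp_apply, hyy'', hwu', hgu]
    obtain rfl : i = i' := hinj (h1.symm.trans h2)
    have h3 : y' = y := (j i).isOpenEmbedding.injective hyy''
    subst h3
    by_contra hne
    have hkk : k ≠ k' := fun h => hne (by rw [h])
    have h4 : e i k * e i k' ∈ y'.asIdeal := by
      rw [(he i).ortho.ortho hkk]
      exact zero_mem _
    rcases y'.isPrime.mem_or_mem h4 with h5 | h5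
    · exact hy1 h5
    · exact hy1' h5
  · intro w i hwu hwx
    have h1 : w ∈ Set.range (j i) := by
      rw [hj4' i]
      show pullback.fst f g w ∈ W' i
      rw [hwx]
      exact hxW' i
    obtain ⟨y, rfl⟩ := h1
    obtain ⟨k, hk⟩ := (he i).cover y.asIdeal y.isPrime (hsnd i y hwu)
    exact ⟨⟨i, k⟩, rfl, ⟨y, hk, rfl⟩⟩

end Groth.Agent.Lib.Helper35.UnramSplitScheme
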