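import Mathlib
import Groth.Agent.Lib.Helper35.UnramSplitScheme

set_option autoImplicit false
set_option linter.style.haveILetI false
set_option maxHeartbeats 400000
set_option backward.isDefEq.respectTransparency.types false
universe u

namespace Groth.Agent.Lib.Helper35.UnramSplitScheme

open AlgebraicGeometry CategoryTheory Limits

section refine

variable {X S U U' : Scheme.{u}} (f : X ⟶ S) (g : U ⟶ S) (t : U' ⟶ U)

/-- the comparison map `X ×_S U' → X ×_S U`. -/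
noncomputable def θ : pullback f (t ≫ g) ⟶ pullback f g :=
  pullback.map f (t ≫ g) f g (𝟙 X) t (𝟙 S) (by simp) (by simp)

@[reassoc (attr := simp)]
lemma θ_fst : θ f g t ≫ pullback.fst f g = pullback.fst f (t ≫ g) := by
  rw [θ, pullback.lift_fst, Category.comp_id]

@[reassoc (attr := simp)]
lemma θ_snd : θ f g t ≫ pullback.snd f g = pullback.snd f (t ≫ g) ≫ t := by
  rw [θ, pullback.lift_snd]

lemma isPullback_θ : IsPullback (θ f g t) (pullback.snd f (t ≫ g)) (pullback.snd f g) t := by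
  have big : IsPullback (θ f g t ≫ pullback.fst f g) (pullback.snd f (t ≫ g)) f (t ≫ g) := by
    rw [θ_fst]
    exact IsPullback.of_hasPullback f (t ≫ g)
  exact IsPullback.of_right big (θ_snd f g t) (IsPullback.of_hasPullback f g)

lemma isPullback_refine (V : (pullback f g).Opens) :
    IsPullback ((θ f g t) ∣_ V) ((θ f g t ⁻¹ᵁ V).ι ≫ pullback.snd f (t ≫ g))
      (V.ι ≫ pullback.snd f g) t :=
  (isPullback_morphismRestrict (θ f g t) V).paste_vert (isPullback_θ f g t)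

lemma refine_prop (P : MorphismProperty Scheme.{u}) [P.IsStableUnderBaseChange]
    (V : (pullback f g).Opens) (h : P (V.ι ≫ pullback.snd f g)) :
    P ((θ f g t ⁻¹ᵁ V).ι ≫ pullback.snd f (t ≫ g)) :=
  P.of_isPullback (isPullback_refine f g t V) h

lemma refine_exists_point (V : (pullback f g).Opens) (u : U) (u' : U') (hu : t u' = u)
    (h : ∃ w : ↑(pullback f g), w ∈ V ∧ pullback.snd f g w = u) :
    ∃ w : ↑(pullback f (t ≫ g)), w ∈ θ f g t ⁻¹ᵁ V ∧ pullback.snd f (t ≫ g) w = u' := by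
  obtain ⟨w, hwV, hwu⟩ := h
  obtain ⟨z, hz1, hz2⟩ := Scheme.exists_preimage_of_isPullback
    (isPullback_refine f g t V) ⟨w, hwV⟩ u' (by
      show pullback.snd f g w = t u'
      rw [hwu, hu])
  refine ⟨(θ f g t ⁻¹ᵁ V).ι z, z.2, ?_⟩
  rw [← Scheme.Hom.comp_apply]
  exact hz2

lemma θ_apply_snd (w : ↑(pullback f (t ≫ g))) :
    pullback.snd f g (θ f g t w) = t (pullback.snd f (t ≫ g) w) := by
  rw [← Scheme.Hom.comp_apply, θ_snd, Scheme.Hom.comp_apply]

lemma θ_apply_fst (w : ↑(pullback f (t ≫ g))) :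
    pullback.fst f g (θ f g t w) = pullback.fst f (t ≫ g) w := by
  rw [← Scheme.Hom.comp_apply, θ_fst]

end refine

section shrink

variable {X S U : Scheme.{u}} (f : X ⟶ S) (g : U ⟶ S) (u : U) {K : Type} [Finite K]
  (V : K → (pullback f g).Opens)

/-- if `V → U` is a closed immersion and `X_U → U` is separated then `V` is closed in `X_U`. -/
lemma isClosed_of_isClosedImmersion_snd [IsSeparated f] (V : (pullback f g).Opens)
    (h1 : IsClosedImmersion (V.ι ≫ pullback.snd f g)) : IsClosed (V : Set ↑(pullback f g)) := by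
  haveI : IsClosedImmersion V.ι := IsClosedImmersion.of_comp V.ι (pullback.snd f g)
  have := V.ι.isClosedEmbedding.isClosed_range
  rwa [Scheme.Opens.range_ι] at this

include u in
lemma exists_shrink_disjoint [IsSeparated f]
    (h1 : ∀ k, IsClosedImmersion ((V k).ι ≫ pullback.snd f g))
    (h2 : ∀ (k k' : K) (w : ↑(pullback f g)), w ∈ V k → w ∈ V k' →
      pullback.snd f g w = u → k = k') :
    ∃ U' : U.Opens, u ∈ U' ∧ ∀ k k', k ≠ k' →
      Disjoint (θ f g U'.ι ⁻¹ᵁ V k) (θ f g U'.ι ⁻¹ᵁ V k') := by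
  classical
  have hcl : ∀ k, IsClosed (V k : Set ↑(pullback f g)) :=
    fun k => isClosed_of_isClosedImmersion_snd f g (V k) (h1 k)
  let Z : K × K → Set U := fun kk =>
    if kk.1 = kk.2 then ∅ else pullback.snd f g '' ((V kk.1 : Set _) ∩ (V kk.2 : Set _))
  have hZ : ∀ kk, IsClosed (Z kk) := by
    rintro ⟨k, k'⟩
    simp only [Z]
    split_ifs with h
    · exact isClosed_empty
    · have h3 : pullback.snd f g '' ((V k : Set _) ∩ (V k' : Set _)) =
          ((V k).ι ≫ pullback.snd f g) '' ((V k).ι ⁻¹' (V k' : Set _)) := by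
        ext y
        constructor
        · rintro ⟨w, ⟨hw1, hw2⟩, rfl⟩
          exact ⟨⟨w, hw1⟩, hw2, rfl⟩
        · rintro ⟨z, hz, rfl⟩
          exact ⟨(V k).ι z, ⟨z.2, hz⟩, rfl⟩
      rw [h3]
      exact ((V k).ι ≫ pullback.snd f g).isClosedEmbedding.isClosedMap _
        ((hcl k').preimage (V k).ι.continuous)
  have hZc : IsClosed (⋃ kk, Z kk) := isClosed_iUnion_of_finite hZ
  refine ⟨⟨(⋃ kk, Z kk)ᶜ, hZc.isOpen_compl⟩, ?_, ?_⟩
  · show u ∉ ⋃ kk, Z kk
    rw [Set.mem_iUnion]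
    rintro ⟨⟨k, k'⟩, hu⟩
    simp only [Z] at hu
    split_ifs at hu with h
    · exact hu
    · obtain ⟨w, ⟨hw1, hw2⟩, hwu⟩ := hu
      exact h (h2 k k' w hw1 hw2 hwu)
  · intro k k' hkk
    rw [disjoint_iff]
    ext w
    simp only [TopologicalSpace.Opens.coe_inf, Set.mem_inter_iff, SetLike.mem_coe,
      TopologicalSpace.Opens.coe_bot, Set.mem_empty_iff_false, iff_false, not_and]
    intro hw1 hw2
    have h4 : pullback.snd f g (θ f g _ w) ∈ ⋃ kk, Z kk := by
      rw [Set.mem_iUnion]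
      refine ⟨⟨k, k'⟩, ?_⟩
      simp only [Z, if_neg hkk]
      exact ⟨_, ⟨hw1, hw2⟩, rfl⟩
    rw [θ_apply_snd] at h4
    exact (pullback.snd f (Scheme.Opens.ι _ ≫ g) w).2 h4

include u in
lemma exists_shrink_iso
    (h1 : ∀ k, IsClosedImmersion ((V k).ι ≫ pullback.snd f g))
    (h2 : ∀ k, Etale ((V k).ι ≫ pullback.snd f g))
    (h3 : ∀ k, ∃ w : ↑(pullback f g), w ∈ V k ∧ pullback.snd f g w = u) :
    ∃ U' : U.Opens, u ∈ U' ∧
      ∀ k, IsIso ((θ f g U'.ι ⁻¹ᵁ V k).ι ≫ pullback.snd f (U'.ι ≫ g)) := by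
  have hoi : ∀ k, IsOpenImmersion ((V k).ι ≫ pullback.snd f g) :=
    fun k => IsOpenImmersion.of_flat_of_mono _
  have hopen : IsOpen (⋂ k, Set.range ((V k).ι ≫ pullback.snd f g)) :=
    isOpen_iInter_of_finite fun k => ((V k).ι ≫ pullback.snd f g).isOpenEmbedding.isOpen_range
  refine ⟨⟨_, hopen⟩, ?_, fun k => ?_⟩
  · show u ∈ ⋂ k, Set.range ((V k).ι ≫ pullback.snd f g)
    rw [Set.mem_iInter]
    intro k
    obtain ⟨w, hw, hwu⟩ := h3 k
    exact ⟨⟨w, hw⟩, hwu⟩
  · set U' : U.Opens := ⟨_, hopen⟩ with hU'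
    haveI : IsClosedImmersion ((θ f g U'.ι ⁻¹ᵁ V k).ι ≫ pullback.snd f (U'.ι ≫ g)) :=
      refine_prop f g U'.ι @IsClosedImmersion (V k) (h1 k)
    haveI : Etale ((θ f g U'.ι ⁻¹ᵁ V k).ι ≫ pullback.snd f (U'.ι ≫ g)) :=
      refine_prop f g U'.ι @Etale (V k) (h2 k)
    haveI : IsOpenImmersion ((θ f g U'.ι ⁻¹ᵁ V k).ι ≫ pullback.snd f (U'.ι ≫ g)) :=
      IsOpenImmersion.of_flat_of_mono _
    apply isIso_of_isOpenImmersion_of_opensRange_eq_top
    rw [eq_top_iff]
    intro u₁ _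
    have hu₁ : U'.ι u₁ ∈ Set.range ((V k).ι ≫ pullback.snd f g) := by
      have h5 : U'.ι u₁ ∈ ⋂ k, Set.range ((V k).ι ≫ pullback.snd f g) := u₁.2
      exact Set.mem_iInter.mp h5 k
    obtain ⟨z, hz⟩ := hu₁
    obtain ⟨w', hw', hw'u⟩ := refine_exists_point f g U'.ι (V k) (U'.ι u₁) u₁ rfl
      ⟨(V k).ι z, z.2, hz⟩
    exact ⟨⟨w', hw'⟩, hw'u⟩

omit [Finite K] in
/-- an open of `X_U` lying over an open `W ⊆ X` which is étale over `S` is étale over `U`. -/
lemma etale_of_le (W : X.Opens) [Etale (W.ι ≫ f)] (V : (pullback f g).Opens)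
    (hV : V ≤ pullback.fst f g ⁻¹ᵁ W) : Etale (V.ι ≫ pullback.snd f g) := by
  have sq : IsPullback (pullback.fst f g ∣_ W) ((pullback.fst f g ⁻¹ᵁ W).ι ≫ pullback.snd f g)
      (W.ι ≫ f) g :=
    (isPullback_morphismRestrict (pullback.fst f g) W).paste_vert (IsPullback.of_hasPullback f g)
  haveI : Etale ((pullback.fst f g ⁻¹ᵁ W).ι ≫ pullback.snd f g) :=
    MorphismProperty.of_isPullback sq ‹_›
  rw [← (pullback f g).homOfLE_ι hV, Category.assoc]
  infer_instance

end shrink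

end Groth.Agent.Lib.Helper35.UnramSplitScheme
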