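import Mathlib
import Groth.Agent.Lib.Helper69.SpecResidue
import Groth.Agent.Lib.Helper35.UnramSplitScheme2

set_option autoImplicit false
set_option linter.style.haveILetI false
set_option maxHeartbeats 400000
set_option backward.isDefEq.respectTransparency.types false
universe u

/-!
# Base change along elementary étale neighbourhoods (trivial residue field extension)

Pointwise calculus: if `κ(g u) → κ(u)` is bijective then over `(x, u)` there is exactly one point
of `X ×_S U`, and its residue field is that of `x`.
-/

namespace Groth.Agent.Lib.Helper35.QFSplit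

open AlgebraicGeometry CategoryTheory Limits TensorProduct
open AlgebraicGeometry.Scheme.Pullback

variable {X U S : Scheme.{u}} {f : X ⟶ S} {g : U ⟶ S}

/-- in a ring whose prime `p` is maximal the canonical map to the residue field of `Spec`
is surjective -/
lemma surjective_of_SpecMap_eq (R : CommRingCat.{u}) (p : Spec R) [p.asIdeal.IsMaximal]
    (c : R ⟶ (Spec R).residueField p)
    (hc : Spec.map c = (Spec R).fromSpecResidueField p) : Function.Surjective c := by
  have h1 := Scheme.Spec.map_residueFieldIso_inv_eq_fromSpecResidueField R p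
  rw [← hc, ← Spec.map_comp] at h1
  have h2 := Spec.map_injective h1
  rw [← h2]
  intro z
  obtain ⟨r, hr⟩ := p.asIdeal.algebraMap_residueField_surjective
    ((Scheme.Spec.residueFieldIso R p).hom z)
  refine ⟨r, ?_⟩
  change (Scheme.Spec.residueFieldIso R p).inv (algebraMap R p.asIdeal.ResidueField r) = z
  rw [hr]
  exact congrArg (fun φ => φ.hom z) (Scheme.Spec.residueFieldIso R p).hom_inv_id

lemma isIso_tensorInl (T : Triplet f g) (h : Function.Bijective (g.residueFieldMap T.y)) :
    IsIso T.tensorInl := by
  haveI : IsIso (g.residueFieldMap T.y) := (ConcreteCategory.isIso_iff_bijective _).mpr h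
  haveI : IsIso ((S.residueFieldCongr T.hy).inv ≫ g.residueFieldMap T.y) := inferInstance
  exact pushout_inl_iso_of_right_iso _ _

lemma subsingleton_Spec_tensor (T : Triplet f g) (h : Function.Bijective (g.residueFieldMap T.y)) :
    Subsingleton (Spec T.tensor) := by
  haveI := isIso_tensorInl T h
  exact (Spec.map T.tensorInl).homeomorph.injective.subsingleton

set_option backward.isDefEq.respectTransparency false in
theorem surjective_residueFieldMap_fst_SpecTensorTo (T : Triplet f g)
    (h : Function.Bijective (g.residueFieldMap T.y)) (p : Spec T.tensor) :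
    Function.Surjective ((pullback.fst f g).residueFieldMap (T.SpecTensorTo p)) := by
  set t := T.SpecTensorTo p with ht
  have e : Triplet.ofPoint t = T := T.ofPoint_SpecTensorTo p
  haveI hinl := isIso_tensorInl T h
  have hfield : IsField T.tensor :=
    MulEquiv.isField (Field.toIsField (X.residueField T.x))
      (asIso T.tensorInl).commRingCatIsoToRingEquiv.symm.toMulEquiv
  have hmax : p.asIdeal.IsMaximal := by
    letI := hfield.toField
    have : p.asIdeal = ⊥ := by
      rcases Ideal.eq_bot_or_top p.asIdeal with h | h
      · exact h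
      · exact absurd h p.2.ne_top
    rw [this]
    exact Ideal.bot_isMaximal
  have hM := T.Spec_ofPointTensor_SpecTensorTo p
  rw [← Spec.map_comp, ← Spec.map_comp] at hM
  have hc := surjective_of_SpecMap_eq T.tensor p _ hM
  set r := T.SpecTensorTo.residueFieldMap p with hr
  have hrinj : Function.Injective r := r.hom.injective
  have h1 : Function.Surjective (ofPointTensor t) := by
    intro z
    obtain ⟨w, hw⟩ := hc (r z)
    refine ⟨(Triplet.tensorCongr e.symm).hom w, ?_⟩
    apply hrinj
    exact hw
  have h2 : (Triplet.ofPoint t).tensorInl ≫ ofPointTensor t =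
      (pullback.fst f g).residueFieldMap t := pushout.inl_desc _ _ _
  rw [← h2]
  have h3 : IsIso (Triplet.ofPoint t).tensorInl := isIso_tensorInl _ (by rw [e]; exact h)
  intro z
  obtain ⟨w, hw⟩ := h1 z
  refine ⟨inv (Triplet.ofPoint t).tensorInl w, ?_⟩
  rw [← hw]
  change (ofPointTensor t) ((Triplet.ofPoint t).tensorInl (inv (Triplet.ofPoint t).tensorInl w)) = _
  congr 1
  exact congrArg (fun φ => φ.hom w) (IsIso.inv_hom_id (Triplet.ofPoint t).tensorInl)

/-- residue field of the point of `X ×_S U` over `(x, u)` when `κ(g u) = κ(u)`. -/
theorem bijective_residueFieldMap_fst (w : ↑(pullback f g))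
    (h : Function.Bijective (g.residueFieldMap (pullback.snd f g w))) :
    Function.Bijective ((pullback.fst f g).residueFieldMap w) := by
  have h1 := surjective_residueFieldMap_fst_SpecTensorTo (Triplet.ofPoint w) h (SpecOfPoint w)
  rw [SpecTensorTo_SpecOfPoint] at h1
  exact ⟨((pullback.fst f g).residueFieldMap w).hom.injective, h1⟩

/-- uniqueness of the point of `X ×_S U` over `(x, u)` when `κ(g u) = κ(u)`. -/
theorem eq_of_fst_eq_of_snd_eq (w w' : ↑(pullback f g))
    (h : Function.Bijective (g.residueFieldMap (pullback.snd f g w)))
    (h1 : pullback.fst f g w = pullback.fst f g w')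
    (h2 : pullback.snd f g w = pullback.snd f g w') : w = w' := by
  apply (carrierEquiv (f := f) (g := g)).injective
  show (⟨Triplet.ofPoint w, SpecOfPoint w⟩ : Σ T : Triplet f g, Spec T.tensor) =
    ⟨Triplet.ofPoint w', SpecOfPoint w'⟩
  rw [carrierEquiv_eq_iff]
  refine ⟨Triplet.ext h1 h2, ?_⟩
  haveI : Subsingleton (Spec (Triplet.ofPoint w').tensor) :=
    subsingleton_Spec_tensor _ (by
      show Function.Bijective (g.residueFieldMap (pullback.snd f g w'))
      rw [← h2]; exact h)
  exact Subsingleton.elim _ _

end Groth.Agent.Lib.Helper35.QFSplit
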