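import Mathlib
import Groth.Agent.Lib.Helper35.QFSplit
import Groth.Agent.Lib.Helper35.UnramSplitScheme

set_option autoImplicit false
set_option linter.style.haveILetI false
set_option maxHeartbeats 400000
set_option backward.isDefEq.respectTransparency.types false
universe u

/-!
# Stacks 02LK with trivial residue field extension: one point
-/

namespace Groth.Agent.Lib.Helper35.QFSplit

open AlgebraicGeometry CategoryTheory Limits TensorProduct
open Groth.Agent.Lib.Helper35.UnramSplitScheme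

lemma bijective_map_of_bijective_mapₐ {A R' : Type u} [CommRing A] [CommRing R'] [Algebra A R']
    (p : Ideal A) [p.IsPrime] (P : Ideal R') [P.IsPrime] [P.LiesOver p]
    (h : Function.Bijective (Ideal.ResidueField.mapₐ p P (Algebra.ofId A R') (P.over_def p))) :
    Function.Bijective
      (Ideal.ResidueField.map (P.comap (algebraMap A R')) P (algebraMap A R') rfl) := by
  obtain rfl : p = P.comap (algebraMap A R') := P.over_def p
  exact h

/-- residue field map of `Spec R' ⟶ Spec A ⟶ S` at a prime with trivial residue extension. -/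
lemma bijective_residueFieldMap_chart {S : Scheme.{u}} {S₀ : S.Opens} (hS₀ : IsAffineOpen S₀)
    (R' : Type u) [CommRing R'] [Algebra Γ(S, S₀) R'] (P : Ideal R') [P.IsPrime]
    (h : Function.Bijective (Ideal.ResidueField.map (P.comap (algebraMap Γ(S, S₀) R')) P
      (algebraMap Γ(S, S₀) R') rfl)) :
    Function.Bijective ((Spec.map (CommRingCat.ofHom (algebraMap Γ(S, S₀) R')) ≫
      hS₀.fromSpec).residueFieldMap (⟨P, inferInstance⟩ : Spec (.of R'))) := by
  rw [Scheme.residueFieldMap_comp]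
  haveI := hS₀.isOpenImmersion_fromSpec
  have h1 : ∀ y : Spec Γ(S, S₀), IsIso (hS₀.fromSpec.residueFieldMap y) := fun y => inferInstance
  haveI h2 : IsIso ((Spec.map (CommRingCat.ofHom (algebraMap Γ(S, S₀) R'))).residueFieldMap
      (⟨P, inferInstance⟩ : Spec (.of R'))) :=
    (Groth.Agent.Lib.Helper69.SpecResidue.isIso_residueFieldMap_SpecMap_iff _ _).mpr h
  haveI h3 := h1 ((Spec.map (CommRingCat.ofHom (algebraMap Γ(S, S₀) R')))
      (⟨P, inferInstance⟩ : Spec (.of R')))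
  have hb1 := ConcreteCategory.bijective_of_isIso (hS₀.fromSpec.residueFieldMap
    ((Spec.map (CommRingCat.ofHom (algebraMap Γ(S, S₀) R'))) (⟨P, inferInstance⟩ : Spec (.of R'))))
  have hb2 := ConcreteCategory.bijective_of_isIso
    ((Spec.map (CommRingCat.ofHom (algebraMap Γ(S, S₀) R'))).residueFieldMap
      (⟨P, inferInstance⟩ : Spec (.of R')))
  exact hb2.comp hb1

theorem exists_one {X S : Scheme.{u}} (f : X ⟶ S) [LocallyOfFiniteType f] (x : X)
    (hx : f.QuasiFiniteAt x) :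
    ∃ (U : Scheme.{u}) (g : U ⟶ S) (u : U), Etale g ∧ g u = f x ∧
      Function.Bijective (g.residueFieldMap u) ∧
      ∃ V : (pullback f g).Opens, IsFinite (V.ι ≫ pullback.snd f g) ∧
        (∃ v, v ∈ V ∧ pullback.fst f g v = x ∧ pullback.snd f g v = u) ∧
        ∀ w, w ∈ V → pullback.snd f g w = u → pullback.fst f g w = x := by
  obtain ⟨_, ⟨S₀, hS₀, rfl⟩, hsS₀, -⟩ :=
    S.isBasis_affineOpens.exists_subset_of_mem_open (Set.mem_univ (f x)) isOpen_univ
  obtain ⟨_, ⟨W, hW, rfl⟩, hxW, hWS : W ≤ f ⁻¹ᵁ S₀⟩ :=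
    X.isBasis_affineOpens.exists_subset_of_mem_open hsS₀ (f ⁻¹ᵁ S₀).2
  have hft : (f.appLE S₀ W hWS).hom.FiniteType := f.finiteType_appLE hS₀ hW hWS
  letI : Algebra Γ(S, S₀) Γ(X, W) := (f.appLE S₀ W hWS).hom.toAlgebra
  have halg : algebraMap Γ(S, S₀) Γ(X, W) = (f.appLE S₀ W hWS).hom := rfl
  haveI : Algebra.FiniteType Γ(S, S₀) Γ(X, W) :=
    RingHom.finiteType_algebraMap.mp (by rw [halg]; exact hft)
  let p : Ideal Γ(S, S₀) := (hS₀.primeIdealOf ⟨f x, hsS₀⟩).asIdeal
  let q : Ideal Γ(X, W) := (hW.primeIdealOf ⟨x, hxW⟩).asIdeal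
  haveI : q.LiesOver p := by
    suffices hS₀.primeIdealOf ⟨f x, hsS₀⟩ = Spec.map (f.appLE S₀ W hWS) (hW.primeIdealOf ⟨x, hxW⟩)
      from ⟨congr(($this).1)⟩
    apply hS₀.isoSpec.inv.homeomorph.injective
    apply Subtype.ext
    simp only [IsAffineOpen.primeIdealOf, Scheme.Hom.homeomorph_apply,
      ← Scheme.Hom.comp_apply, ← Scheme.Opens.ι_apply, IsAffineOpen.isoSpec_hom]
    simp
  haveI : Algebra.QuasiFiniteAt Γ(S, S₀) q := hx.quasiFiniteAt hW hS₀ hWS hxW
  obtain ⟨R', _, _, _, P, _, hPp, e, he, P', _, hP'P, hP'q, heP', hbij, hfin, huniq⟩ :=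
    Algebra.exists_etale_isIdempotentElem_forall_liesOver_eq p q
  let φ : Γ(S, S₀) ⟶ .of R' := CommRingCat.ofHom (algebraMap Γ(S, S₀) R')
  let g : Spec (.of R') ⟶ S := Spec.map φ ≫ hS₀.fromSpec
  let u : Spec (.of R') := ⟨P, inferInstance⟩
  have hg : Etale g := by
    haveI : Etale (Spec.map φ) := by
      rw [HasRingHomProperty.Spec_iff (P := @Etale)]
      exact RingHom.etale_algebraMap.mpr inferInstance
    infer_instance
  have hgu : g u = f x := by
    have h1 : Spec.map φ u = hS₀.primeIdealOf ⟨f x, hsS₀⟩ := PrimeSpectrum.ext hPp.over.symm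
    show hS₀.fromSpec (Spec.map φ u) = f x
    rw [h1, hS₀.fromSpec_primeIdealOf]
  have hres : Function.Bijective (g.residueFieldMap u) :=
    bijective_residueFieldMap_chart hS₀ R' P (bijective_map_of_bijective_mapₐ p P hbij)
  obtain ⟨j, hj1, hj2, hj3, hj4⟩ := exists_chart f hS₀ hW hWS halg R'
  have hj3' : j ≫ pullback.snd f g =
      Spec.map (CommRingCat.ofHom (algebraMap R' (R' ⊗[Γ(S, S₀)] Γ(X, W)))) := hj3
  have hj2' : j ≫ pullback.fst f g = Spec.map (CommRingCat.ofHom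
        (Algebra.TensorProduct.includeRight :
          Γ(X, W) →ₐ[Γ(S, S₀)] R' ⊗[Γ(S, S₀)] Γ(X, W)).toRingHom) ≫ hW.fromSpec := hj2
  let v₀ : Spec (.of (R' ⊗[Γ(S, S₀)] Γ(X, W))) := ⟨P', inferInstance⟩
  have hv₀x : pullback.fst f g (j v₀) = x := by
    rw [← Scheme.Hom.comp_apply, hj2', Scheme.Hom.comp_apply]
    have h1 : Spec.map (CommRingCat.ofHom (Algebra.TensorProduct.includeRight :
          Γ(X, W) →ₐ[Γ(S, S₀)] R' ⊗[Γ(S, S₀)] Γ(X, W)).toRingHom) v₀ =
        hW.primeIdealOf ⟨x, hxW⟩ := PrimeSpectrum.ext hP'q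
    rw [h1, hW.fromSpec_primeIdealOf]
  have hv₀u : pullback.snd f g (j v₀) = u := by
    rw [← Scheme.Hom.comp_apply, hj3']
    exact PrimeSpectrum.ext hP'P.over.symm
  refine ⟨Spec (.of R'), g, u, hg, hgu, hres, j ''ᵁ PrimeSpectrum.basicOpen e, ?_,
    ⟨j v₀, ⟨v₀, heP', rfl⟩, hv₀x, hv₀u⟩, ?_⟩
  · let ι₀ : Spec (.of (Localization.Away e)) ⟶ pullback f g :=
      Spec.map (CommRingCat.ofHom (algebraMap _ (Localization.Away e))) ≫ j
    have hr : ι₀.opensRange = j ''ᵁ PrimeSpectrum.basicOpen e := by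
      simp only [Scheme.Hom.opensRange_comp, ι₀]
      congr 1
      exact TopologicalSpace.Opens.ext <| PrimeSpectrum.localization_away_comap_range _ _
    rw [← hr, ← MorphismProperty.cancel_left_of_respectsIso @IsFinite
      (Scheme.Hom.isoOpensRange ι₀).hom, ← Category.assoc, Scheme.Hom.isoOpensRange_hom_ι]
    have h2 : ι₀ ≫ pullback.snd f g = Spec.map (CommRingCat.ofHom
        (algebraMap R' (Localization.Away e))) := by
      simp only [ι₀, Category.assoc]
      rw [hj3', ← Spec.map_comp, ← CommRingCat.ofHom_comp]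
    rw [h2, IsFinite.SpecMap_iff]
    exact RingHom.finite_algebraMap.mpr hfin
  · rintro w ⟨y, hy, rfl⟩ hwu
    have hwu' : pullback.snd f g (j y) = u := hwu
    have hy1 : e ∉ y.asIdeal := hy
    have h1 : y.asIdeal.comap (algebraMap R' (R' ⊗[Γ(S, S₀)] Γ(X, W))) = P := by
      rw [← Scheme.Hom.comp_apply, hj3'] at hwu'
      exact congrArg PrimeSpectrum.asIdeal hwu'
    haveI : y.asIdeal.LiesOver P := ⟨h1.symm⟩
    have h2 : y.asIdeal = P' := huniq y.asIdeal y.isPrime inferInstance hy1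
    have h3 : y = v₀ := PrimeSpectrum.ext h2
    show pullback.fst f g (j y) = x
    rw [h3, hv₀x]

end Groth.Agent.Lib.Helper35.QFSplit
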