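import Mathlib
import Groth.Agent.Lib.Helper35.QFSplit2

set_option autoImplicit false
set_option linter.style.haveILetI false
set_option maxHeartbeats 400000
set_option backward.isDefEq.respectTransparency.types false
universe u

/-!
# Stacks 02LK with trivial residue field extension: finitely many points
-/

namespace Groth.Agent.Lib.Helper35.QFSplit

open AlgebraicGeometry CategoryTheory Limits TensorProduct
open Groth.Agent.Lib.Helper35.UnramSplitScheme

/-- `Good f x g u`: an open of `X ×_S U`, finite over `U`, containing a point over `(x, u)`, all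
of whose points over `u` lie over `x`. -/
def Good {X S U : Scheme.{u}} (f : X ⟶ S) (x : X) (g : U ⟶ S) (u : U) : Prop :=
  ∃ V : (pullback f g).Opens, IsFinite (V.ι ≫ pullback.snd f g) ∧
    (∃ v, v ∈ V ∧ pullback.fst f g v = x ∧ pullback.snd f g v = u) ∧
    ∀ w, w ∈ V → pullback.snd f g w = u → pullback.fst f g w = x

lemma Good.transfer {X S U U' : Scheme.{u}} {f : X ⟶ S} {x : X} {g : U ⟶ S} {u : U}
    (h : Good f x g u) (t : U' ⟶ U) (u' : U') (hu' : t u' = u)
    (hres : Function.Bijective (g.residueFieldMap u)) : Good f x (t ≫ g) u' := by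
  obtain ⟨V, hfin, ⟨v, hvV, hvx, hvu⟩, huniq⟩ := h
  refine ⟨θ f g t ⁻¹ᵁ V, refine_prop f g t @IsFinite V hfin, ?_, ?_⟩
  · have hfx : f x = (t ≫ g) u' := by
      rw [Scheme.Hom.comp_apply, hu', ← hvx, ← hvu, ← Scheme.Hom.comp_apply,
        ← Scheme.Hom.comp_apply, pullback.condition]
    obtain ⟨v', hv'x, hv'u⟩ := Scheme.Pullback.exists_preimage_pullback x u' hfx
    refine ⟨v', ?_, hv'x, hv'u⟩
    have h1 : θ f g t v' = v := by
      refine eq_of_fst_eq_of_snd_eq _ _ ?_ ?_ ?_
      · rw [θ_apply_snd, hv'u, hu']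
        exact hres
      · rw [θ_apply_fst, hv'x, hvx]
      · rw [θ_apply_snd, hv'u, hu', hvu]
    show θ f g t v' ∈ V
    rw [h1]
    exact hvV
  · intro w hw hwu
    have h1 := huniq (θ f g t w) hw (by rw [θ_apply_snd, hwu, hu'])
    rwa [θ_apply_fst] at h1

theorem exists_family {X S : Scheme.{u}} (f : X ⟶ S) [LocallyOfFiniteType f] (s : S)
    {ι : Type} [Finite ι] (x : ι → X) (hs : ∀ i, f (x i) = s)
    (hx : ∀ i, f.QuasiFiniteAt (x i)) :
    ∃ (U : Scheme.{u}) (g : U ⟶ S) (u : U), Etale g ∧ g u = s ∧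
      Function.Bijective (g.residueFieldMap u) ∧ ∀ i, Good f (x i) g u := by
  revert x
  refine Finite.induction_empty_option
    (P := fun ι => ∀ (x : ι → X), (∀ i, f (x i) = s) → (∀ i, f.QuasiFiniteAt (x i)) →
      ∃ (U : Scheme.{u}) (g : U ⟶ S) (u : U), Etale g ∧ g u = s ∧
        Function.Bijective (g.residueFieldMap u) ∧ ∀ i, Good f (x i) g u) ?_ ?_ ?_ ι
  · intro α β e ih x hs hx
    obtain ⟨U, g, u, h1, h2, h3, h4⟩ := ih (x ∘ e) (fun i => hs _) (fun i => hx _)
    refine ⟨U, g, u, h1, h2, h3, fun i => ?_⟩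
    have := h4 (e.symm i)
    simpa using this
  · intro x _ _
    refine ⟨S, 𝟙 S, s, inferInstance, rfl, ?_, fun i => i.elim⟩
    rw [Scheme.residueFieldMap_id]
    exact Function.bijective_id
  · intro α _ ih x hs hx
    obtain ⟨U, g, u, hg, hgu, hres, hgood⟩ :=
      ih (fun i => x (some i)) (fun i => hs _) (fun i => hx _)
    obtain ⟨U₀, g₀, u₀, hg₀, hgu₀, hres₀, hgood₀⟩ := exists_one f (x none) (hx none)
    rw [hs none] at hgu₀
    obtain ⟨u'', hu''1, hu''2⟩ :=
      Scheme.Pullback.exists_preimage_pullback (f := g) (g := g₀) u u₀ (hgu.trans hgu₀.symm)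
    have hres1 : Function.Bijective ((pullback.fst g g₀).residueFieldMap u'') :=
      bijective_residueFieldMap_fst u'' (by rw [hu''2]; exact hres₀)
    have hres2 : Function.Bijective (g.residueFieldMap (pullback.fst g g₀ u'')) := by
      rw [hu''1]; exact hres
    refine ⟨pullback g g₀, pullback.fst g g₀ ≫ g, u'', inferInstance, ?_, ?_, ?_⟩
    · rw [Scheme.Hom.comp_apply, hu''1, hgu]
    · rw [Scheme.residueFieldMap_comp]
      exact hres1.comp hres2
    · rintro (_ | i)
      · have h1 := Good.transfer (f := f) (x := x none) (g := g₀) (u := u₀) hgood₀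
          (pullback.snd g g₀) u'' hu''2 hres₀
        rw [← pullback.condition] at h1
        exact h1
      · exact (hgood i).transfer (pullback.fst g g₀) u'' hu''1 hres

end Groth.Agent.Lib.Helper35.QFSplit
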