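import Mathlib
import Groth.Agent.Lib.Helper35.QFSplit3

set_option autoImplicit false
set_option linter.style.haveILetI false
set_option maxHeartbeats 400000
set_option backward.isDefEq.respectTransparency.types false
universe u

/-!
# Finite unions of opens finite over the base; separated case of 02LK
-/

namespace Groth.Agent.Lib.Helper35.QFSplit

open AlgebraicGeometry CategoryTheory Limits TensorProduct
open Groth.Agent.Lib.Helper35.UnramSplitScheme

/-- descent of finiteness along a surjection on the source. -/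
theorem isFinite_of_comp_surjective {A Q T : Scheme.{u}} (c : A ⟶ Q) (h : Q ⟶ T) [Surjective c]
    [IsFinite (c ≫ h)] [IsSeparated h] [LocallyOfFiniteType h] : IsFinite h := by
  haveI : UniversallyClosed h := UniversallyClosed.of_comp_surjective c h
  haveI : IsProper h := {}
  haveI : LocallyQuasiFinite h := by
    refine LocallyQuasiFinite.of_finite_preimage_singleton h (fun t => ?_)
    have h1 : ((c ≫ h) ⁻¹' {t}).Finite := (c ≫ h).finite_preimage_singleton t
    refine (h1.image c).subset ?_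
    intro q hq
    obtain ⟨a, rfl⟩ := c.surjective q
    exact ⟨a, by simpa using hq, rfl⟩
  exact IsFinite.of_isProper_of_locallyQuasiFinite h

variable {P T : Scheme.{u}} (π : P ⟶ T)

theorem isFinite_sup [IsSeparated π] [LocallyOfFiniteType π] (V₁ V₂ : P.Opens)
    (h1 : IsFinite (V₁.ι ≫ π)) (h2 : IsFinite (V₂.ι ≫ π)) : IsFinite ((V₁ ⊔ V₂).ι ≫ π) := by
  let c : (V₁ : Scheme.{u}) ⨿ (V₂ : Scheme.{u}) ⟶ ((V₁ ⊔ V₂ : P.Opens) : Scheme.{u}) :=
    coprod.desc (P.homOfLE le_sup_left) (P.homOfLE le_sup_right)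
  have hc : c ≫ (V₁ ⊔ V₂).ι ≫ π = coprod.desc (V₁.ι ≫ π) (V₂.ι ≫ π) := by
    apply coprod.hom_ext <;> simp [c]
  haveI : IsFinite (c ≫ (V₁ ⊔ V₂).ι ≫ π) := by rw [hc]; infer_instance
  haveI : Surjective c := by
    constructor
    rintro ⟨q, hq⟩
    rcases hq with hq | hq
    · refine ⟨(coprod.inl : (V₁ : Scheme.{u}) ⟶ (V₁ : Scheme.{u}) ⨿ (V₂ : Scheme.{u})) ⟨q, hq⟩, ?_⟩
      rw [← Scheme.Hom.comp_apply, coprod.inl_desc]
      exact Scheme.homOfLE_apply' _ _ _
    · refine ⟨(coprod.inr : (V₂ : Scheme.{u}) ⟶ (V₁ : Scheme.{u}) ⨿ (V₂ : Scheme.{u})) ⟨q, hq⟩, ?_⟩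
      rw [← Scheme.Hom.comp_apply, coprod.inr_desc]
      exact Scheme.homOfLE_apply' _ _ _
  exact isFinite_of_comp_surjective c _

theorem isFinite_iSup [IsSeparated π] [LocallyOfFiniteType π] {K : Type} [Finite K]
    (V : K → P.Opens) (h : ∀ k, IsFinite ((V k).ι ≫ π)) : IsFinite ((⨆ k, V k).ι ≫ π) := by
  revert V
  refine Finite.induction_empty_option
    (P := fun K => ∀ V : K → P.Opens, (∀ k, IsFinite ((V k).ι ≫ π)) →
      IsFinite ((⨆ k, V k).ι ≫ π)) ?_ ?_ ?_ K
  · intro α β e ih V hV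
    have h1 := ih (V ∘ e) (fun k => hV _)
    have h2 : (⨆ k, (V ∘ e) k) = ⨆ k, V k := e.iSup_comp
    rwa [h2] at h1
  · intro V _
    haveI : IsEmpty ↥((⨆ k : PEmpty, V k : P.Opens) : Scheme.{u}) := by
      constructor
      rintro ⟨q, hq⟩
      rw [iSup_of_empty] at hq
      exact hq
    infer_instance
  · intro α _ ih V hV
    have h1 := ih (fun k => V (some k)) (fun k => hV _)
    have h2 := isFinite_sup π (V none) (⨆ k, V (some k)) (hV none) h1
    rwa [← iSup_option] at h2

theorem isClosed_of_isFinite [IsSeparated π] (O : P.Opens) (hfin : IsFinite (O.ι ≫ π)) :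
    IsClosed (O : Set P) := by
  haveI := hfin
  haveI : IsFinite O.ι := IsFinite.of_comp O.ι π
  have hcl : IsClosed (Set.range O.ι) := O.ι.isClosedMap.isClosed_range
  rwa [Scheme.Opens.range_ι] at hcl

end Groth.Agent.Lib.Helper35.QFSplit
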