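import Mathlib
import Groth.Agent.Lib.Helper35.QFSplit4

set_option autoImplicit false
set_option linter.style.haveILetI false
set_option maxHeartbeats 400000
set_option backward.isDefEq.respectTransparency.types false
universe u

/-!
# Separated case: a clopen finite piece containing prescribed quasi-finite points
-/

namespace Groth.Agent.Lib.Helper35.QFSplit

open AlgebraicGeometry CategoryTheory Limits TensorProduct
open Groth.Agent.Lib.Helper35.UnramSplitScheme

/-- points of a finite fibre are quasi-finite points. -/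
theorem quasiFiniteAt_of_finite_fibre {X Y : Scheme.{u}} (f : X ⟶ Y) [LocallyOfFiniteType f]
    (x : X) (hfin : (f ⁻¹' {f x}).Finite) : f.QuasiFiniteAt x := by
  rw [Scheme.Hom.quasiFiniteAt_iff_isOpen_singleton_asFiber]
  let g := f.fiberToSpecResidueField (f x)
  haveI : LocallyOfFiniteType g :=
    MorphismProperty.pullback_snd (P := @LocallyOfFiniteType) _ _ inferInstance
  haveI : Finite ↥(f.fiber (f x)) := by
    haveI : Finite (f ⁻¹' {f x}) := hfin
    exact (f.fiberHomeo (f x)).toEquiv.finite_iff.mpr inferInstance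
  haveI : LocallyQuasiFinite g :=
    LocallyQuasiFinite.of_finite_preimage_singleton g (fun t => Set.toFinite _)
  have hdisc := g.isDiscrete_preimage_singleton (g (f.asFiber x))
  rw [isDiscrete_iff_forall_mem_exists_isOpen] at hdisc
  obtain ⟨o, ho, hoz⟩ := hdisc (f.asFiber x) rfl
  have h1 : g ⁻¹' {g (f.asFiber x)} = Set.univ := by
    ext z
    simp only [Set.mem_preimage, Set.mem_singleton_iff, Set.mem_univ, iff_true]
    rw [Scheme.Hom.fiberToSpecResidueField_apply, Scheme.Hom.fiberToSpecResidueField_apply]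
  rw [h1, Set.inter_univ] at hoz
  rw [← hoz]
  exact ho

theorem exists_clopen_finite {X S : Scheme.{u}} (f : X ⟶ S) [LocallyOfFiniteType f]
    [IsSeparated f] (s : S) {ι : Type} [Finite ι] (x : ι → X) (hs : ∀ i, f (x i) = s)
    (hx : ∀ i, f.QuasiFiniteAt (x i)) :
    ∃ (U : Scheme.{u}) (g : U ⟶ S) (u : U), Etale g ∧ g u = s ∧
      Function.Bijective (g.residueFieldMap u) ∧
      ∃ V : (pullback f g).Opens, IsClosed (V : Set ↑(pullback f g)) ∧
        IsFinite (V.ι ≫ pullback.snd f g) ∧
        (∀ i w, pullback.snd f g w = u → pullback.fst f g w = x i → w ∈ V) ∧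
        ∀ w, w ∈ V → pullback.snd f g w = u → ∃ i, pullback.fst f g w = x i := by
  obtain ⟨U, g, u, hg, hgu, hres, hgood⟩ := exists_family f s x hs hx
  have hgood' : ∀ i, ∃ V : (pullback f g).Opens, IsFinite (V.ι ≫ pullback.snd f g) ∧
    (∃ v, v ∈ V ∧ pullback.fst f g v = x i ∧ pullback.snd f g v = u) ∧
    ∀ w, w ∈ V → pullback.snd f g w = u → pullback.fst f g w = x i := hgood
  choose V hfin hex huniq using hgood'
  choose v hvV hvx hvu using hex
  have hfinV : IsFinite ((⨆ i, V i).ι ≫ pullback.snd f g) := isFinite_iSup _ V hfin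
  refine ⟨U, g, u, hg, hgu, hres, ⨆ i, V i, isClosed_of_isFinite _ _ hfinV, hfinV, ?_, ?_⟩
  · intro i w hwu hwx
    have h1 : w = v i := by
      refine eq_of_fst_eq_of_snd_eq w (v i) (by rw [hwu]; exact hres) ?_ ?_
      · rw [hwx, hvx i]
      · rw [hwu, hvu i]
    rw [h1]
    exact TopologicalSpace.Opens.mem_iSup.mpr ⟨i, hvV i⟩
  · intro w hw hwu
    obtain ⟨i, hi⟩ := TopologicalSpace.Opens.mem_iSup.mp hw
    exact ⟨i, huniq i w hi hwu⟩

end Groth.Agent.Lib.Helper35.QFSplit
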