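import Mathlib.RingTheory.KrullDimension.Regular
import Mathlib.RingTheory.Ideal.KrullsHeightTheorem
import Groth.Prelude.Def_CAlg

set_option autoImplicit false
set_option linter.style.haveILetI false
set_option maxHeartbeats 800000
universe u

namespace Groth.Agent.Lib.Helper35.CMSeq

open IsLocalRing RingTheory.Sequence

/-- In a Cohen–Macaulay local ring there is a regular sequence in the maximal ideal such that the
only prime containing it is the maximal ideal. -/
theorem exists_regular_of_cm (R : Type u) [CommRing R] [hcm : LocCoh.IsCohenMacaulayLocalRing R] :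
    ∃ rs : List R, IsWeaklyRegular R rs ∧ (∀ r ∈ rs, r ∈ maximalIdeal R) ∧
      ∀ P : Ideal R, P.IsPrime → Ideal.ofList rs ≤ P → P = maximalIdeal R := by
  classical
  have h1 := hcm.supportDim_eq_depth
  rw [Module.supportDim_self_eq_ringKrullDim] at h1
  have hne : maximalIdeal R • (⊤ : Submodule R R) ≠ ⊤ := by
    rw [smul_eq_mul, Ideal.mul_top]
    exact (maximalIdeal.isMaximal R).ne_top
  unfold LocCoh.depth LocCoh.idealDepth at h1
  rw [if_neg hne] at h1
  obtain ⟨d, hd⟩ : ∃ d : ℕ, ringKrullDim R = (d : WithBot ℕ∞) := by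
    have h2 := ringKrullDim_ne_top (R := R)
    have h3 := ringKrullDim_ne_bot (R := R)
    obtain ⟨e, he⟩ := WithBot.ne_bot_iff_exists.1 h3
    have he' : e ≠ ⊤ := by
      rintro rfl
      exact h2 he.symm
    obtain ⟨d, rfl⟩ := ENat.ne_top_iff_exists.1 he'
    exact ⟨d, he.symm⟩
  rw [hd] at h1
  have h1' : (d : ℕ∞) = ⨆ (rs : List R) (_ : IsWeaklyRegular R rs ∧ ∀ r ∈ rs, r ∈ maximalIdeal R),
      (rs.length : ℕ∞) := by
    exact_mod_cast h1
  have hle : ∀ rs : List R, (IsWeaklyRegular R rs ∧ ∀ r ∈ rs, r ∈ maximalIdeal R) →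
      rs.length ≤ d := by
    intro rs h
    have := le_iSup₂ (f := fun (rs : List R)
      (_ : IsWeaklyRegular R rs ∧ ∀ r ∈ rs, r ∈ maximalIdeal R) => (rs.length : ℕ∞)) rs h
    rw [← h1'] at this
    exact_mod_cast this
  obtain ⟨rs, hrs, hlen⟩ : ∃ rs : List R,
      (IsWeaklyRegular R rs ∧ ∀ r ∈ rs, r ∈ maximalIdeal R) ∧ rs.length = d := by
    by_contra hcon
    push Not at hcon
    have hlt : ∀ rs : List R, (IsWeaklyRegular R rs ∧ ∀ r ∈ rs, r ∈ maximalIdeal R) →
        (rs.length : ℕ∞) ≤ ((d - 1 : ℕ) : ℕ∞) := by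
      intro rs h
      have h2 := hle rs h
      have h3 := hcon rs h
      have : rs.length ≤ d - 1 := by omega
      exact_mod_cast this
    have h4 : (d : ℕ∞) ≤ ((d - 1 : ℕ) : ℕ∞) := by
      rw [h1']
      exact iSup₂_le hlt
    have h5 : d ≤ d - 1 := by exact_mod_cast h4
    have h6 : d = 0 := by omega
    exact hcon [] ⟨IsWeaklyRegular.nil R R, by simp⟩ (by simp [h6])
  refine ⟨rs, hrs.1, hrs.2, ?_⟩
  have hreg : IsRegular R rs :=
    RingTheory.Sequence.IsRegular.of_isWeaklyRegular_of_mem_maximalIdeal (mem := hrs.2) (reg := hrs.1)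
  have hdim := ringKrullDim_add_length_eq_ringKrullDim_of_isRegular rs hreg
  rw [hd, hlen] at hdim
  have hdim0 : ringKrullDim (R ⧸ Ideal.ofList rs) ≤ 0 := by
    generalize ringKrullDim (R ⧸ Ideal.ofList rs) = e at hdim
    induction e using WithBot.recBotCoe with
    | bot => exact bot_le
    | coe n =>
      have h2 : n + (d : ℕ∞) = d := by exact_mod_cast hdim
      have h3 : n = 0 := by
        cases n using ENat.recTopCoe with
        | top => simp at h2
        | coe m =>
          have h4 : m + d = d := by exact_mod_cast h2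
          have h5 : m = 0 := by omega
          simp [h5]
      rw [h3]
      rfl
  haveI : Ring.KrullDimLE 0 (R ⧸ Ideal.ofList rs) := (Ring.krullDimLE_iff).2 hdim0
  intro P hP hle'
  have hπs : Function.Surjective (Ideal.Quotient.mk (Ideal.ofList rs)) :=
    Ideal.Quotient.mk_surjective
  have hker : RingHom.ker (Ideal.Quotient.mk (Ideal.ofList rs)) ≤ P := by
    rw [Ideal.mk_ker]; exact hle'
  haveI : (P.map (Ideal.Quotient.mk (Ideal.ofList rs))).IsPrime :=
    Ideal.map_isPrime_of_surjective hπs hker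
  have hmax : (P.map (Ideal.Quotient.mk (Ideal.ofList rs))).IsMaximal :=
    Ideal.isMaximal_of_isPrime _
  have hP' : P = (P.map (Ideal.Quotient.mk (Ideal.ofList rs))).comap
      (Ideal.Quotient.mk (Ideal.ofList rs)) := by
    rw [Ideal.comap_map_of_surjective _ hπs, ← RingHom.ker_eq_comap_bot]
    exact (sup_eq_left.mpr hker).symm
  have hPmax : P.IsMaximal := by
    rw [hP']
    exact Ideal.comap_isMaximal_of_surjective _ hπs
  exact IsLocalRing.eq_maximalIdeal hPmax

end Groth.Agent.Lib.Helper35.CMSeq
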