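import Groth.Agent.Lib.Helper35.RegSlice4
import Groth.Agent.Lib.Helper35.FiberStalk
import Mathlib.AlgebraicGeometry.Morphisms.Flat
import Mathlib.AlgebraicGeometry.Morphisms.FinitePresentation

set_option autoImplicit false
set_option linter.style.haveILetI false
set_option maxHeartbeats 400000
universe u

namespace Groth.Agent.Lib.Helper35.RegSliceScheme

open AlgebraicGeometry CategoryTheory Limits IsLocalRing TensorProduct
open Groth.Agent.Lib.Helper35

set_option backward.defeqAttrib.useBackward true in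
set_option backward.isDefEq.respectTransparency false in
theorem mem_basicOpen_of_not_mem_primeIdealOf {Y : Scheme.{u}} {U : Y.Opens} (hU : IsAffineOpen U)
    (y : Y) (hy : y ∈ U) (a : Γ(Y, U)) (h : a ∉ (hU.primeIdealOf ⟨y, hy⟩).asIdeal) :
    y ∈ Y.basicOpen a := by
  rwa [← PrimeSpectrum.mem_basicOpen, IsAffineOpen.primeIdealOf, ← hU.fromSpec_preimage_basicOpen,
    Scheme.Hom.mem_preimage, ← Scheme.Hom.comp_apply, IsAffineOpen.isoSpec_hom,
    IsAffineOpen.toSpecΓ_fromSpec] at h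

/-- **Slicing on a chart**: `f` locally of finite presentation, flat at `x`; `g` a section on an
affine chart `U ∋ x` (mapping into the affine `V`) whose germ is regular on the fibre local ring.
Then on a basic open `D(w) ∋ x` of `U`, `g` is a nonzerodivisor with `Γ(D(w))/(g)` flat over
`Γ(S, V)`. -/
theorem exists_basicOpen_slice {X S : Scheme.{u}} (f : X ⟶ S) [LocallyOfFinitePresentation f]
    (x : X) (hflat : (f.stalkMap x).hom.Flat)
    (V : S.Opens) (hV : IsAffineOpen V) (U : X.Opens) (hU : IsAffineOpen U) (hUV : U ≤ f ⁻¹ᵁ V)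
    (hxU : x ∈ U) (g : Γ(X, U))
    (hreg : Ideal.Quotient.mk (Ideal.map (f.stalkMap x).hom
        (IsLocalRing.maximalIdeal (S.presheaf.stalk (f x)))) (X.presheaf.germ U x hxU g) ∈
      nonZeroDivisors (X.presheaf.stalk x ⧸ Ideal.map (f.stalkMap x).hom
        (IsLocalRing.maximalIdeal (S.presheaf.stalk (f x))))) :
    ∃ w : Γ(X, U), x ∈ X.basicOpen w ∧
      X.presheaf.map (homOfLE (X.basicOpen_le w)).op g ∈ nonZeroDivisors Γ(X, X.basicOpen w) ∧
      (letI := (f.appLE V (X.basicOpen w) ((X.basicOpen_le w).trans hUV)).hom.toAlgebra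
       Module.Flat Γ(S, V) (Γ(X, X.basicOpen w) ⧸
        Ideal.span {X.presheaf.map (homOfLE (X.basicOpen_le w)).op g})) := by
  have hfp := f.finitePresentation_appLE hV hU hUV
  letI algAB : Algebra Γ(S, V) Γ(X, U) := (f.appLE V U hUV).hom.toAlgebra
  haveI : Algebra.FinitePresentation Γ(S, V) Γ(X, U) := hfp
  let p := (hV.primeIdealOf ⟨f x, hUV hxU⟩).asIdeal
  let q := (hU.primeIdealOf ⟨x, hxU⟩).asIdeal
  haveI : q.LiesOver p :=
    ⟨congr($(IsAffineOpen.comap_primeIdealOf_appLE V hV U hU hUV hxU).1).symm⟩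
  letI := S.presheaf.algebra_section_stalk ⟨f x, hUV hxU⟩
  haveI := hV.isLocalization_stalk ⟨f x, hUV hxU⟩
  letI := X.presheaf.algebra_section_stalk ⟨x, hxU⟩
  haveI := hU.isLocalization_stalk ⟨x, hxU⟩
  have hσ : (f.stalkMap x).hom.comp (algebraMap Γ(S, V) (S.presheaf.stalk (f x))) =
      (algebraMap Γ(X, U) (X.presheaf.stalk x)).comp (algebraMap Γ(S, V) Γ(X, U)) := by
    ext a
    simp only [RingHom.algebraMap_toAlgebra, Scheme.Hom.germ_stalkMap_apply, Scheme.Hom.appLE,
      homOfLE_leOfHom, CommRingCat.hom_comp, RingHom.coe_comp, Function.comp_apply,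
      X.presheaf.germ_res_apply]
  obtain ⟨w, hwq, H⟩ := RegSlice4.exists_slice_stalk p q (S.presheaf.stalk (f x))
    (X.presheaf.stalk x) (f.stalkMap x).hom hσ hflat g hreg
  haveI := hU.isLocalization_basicOpen w
  have hxU' : x ∈ X.basicOpen w := mem_basicOpen_of_not_mem_primeIdealOf hU x hxU w hwq
  have hUV' : X.basicOpen w ≤ f ⁻¹ᵁ V := (X.basicOpen_le w).trans hUV
  letI algAB' : Algebra Γ(S, V) Γ(X, X.basicOpen w) :=
    (f.appLE V (X.basicOpen w) hUV').hom.toAlgebra
  have hcomp : (algebraMap Γ(X, U) Γ(X, X.basicOpen w)).comp (algebraMap Γ(S, V) Γ(X, U)) =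
      (f.appLE V (X.basicOpen w) hUV').hom := by
    rw [RingHom.algebraMap_toAlgebra, RingHom.algebraMap_toAlgebra, ← CommRingCat.hom_comp,
      Scheme.Hom.appLE_map]
  haveI : IsScalarTower Γ(S, V) Γ(X, U) Γ(X, X.basicOpen w) :=
    IsScalarTower.of_algebraMap_eq (fun a => (congr($hcomp a)).symm)
  obtain ⟨hnzd, hfl⟩ := H Γ(X, X.basicOpen w)
  exact ⟨w, hxU', hnzd, hfl⟩

/-- regularity on the fibre local ring from regularity on an affine chart of the fibre. -/
theorem hreg_of_fibre {X S : Scheme.{u}} (f : X ⟶ S) (s : S) (x' : f.fiber s)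
    (U : X.Opens) (hxU : (f.fiberι s) x' ∈ U) (g : Γ(X, U))
    (U' : (f.fiber s).Opens) (hU' : IsAffineOpen U') (hx' : x' ∈ U')
    (e : U' ≤ (f.fiberι s) ⁻¹ᵁ U)
    (hγ : ((f.fiberι s).appLE U U' e).hom g ∈ nonZeroDivisors Γ(f.fiber s, U')) :
    Ideal.Quotient.mk (Ideal.map (f.stalkMap ((f.fiberι s) x')).hom
        (IsLocalRing.maximalIdeal (S.presheaf.stalk (f ((f.fiberι s) x')))))
        (X.presheaf.germ U ((f.fiberι s) x') hxU g) ∈
      nonZeroDivisors (X.presheaf.stalk ((f.fiberι s) x') ⧸ Ideal.map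
        (f.stalkMap ((f.fiberι s) x')).hom
        (IsLocalRing.maximalIdeal (S.presheaf.stalk (f ((f.fiberι s) x'))))) := by
  have hsurj := FiberStalk.stalkMap_fiberι_surjective f s x'
  have hker := FiberStalk.ker_stalkMap_fiberι f s x'
  -- the germ of `γ` is a nonzerodivisor
  letI := (f.fiber s).presheaf.algebra_section_stalk ⟨x', hx'⟩
  haveI := hU'.isLocalization_stalk ⟨x', hx'⟩
  have h1 : algebraMap Γ(f.fiber s, U') ((f.fiber s).presheaf.stalk x')
      (((f.fiberι s).appLE U U' e).hom g) ∈ nonZeroDivisors ((f.fiber s).presheaf.stalk x') :=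
    IsLocalization.map_nonZeroDivisors_le (hU'.primeIdealOf ⟨x', hx'⟩).asIdeal.primeCompl
      ((f.fiber s).presheaf.stalk x') (Submonoid.mem_map_of_mem _ hγ)
  have h2 : algebraMap Γ(f.fiber s, U') ((f.fiber s).presheaf.stalk x')
      (((f.fiberι s).appLE U U' e).hom g) =
      ((f.fiberι s).stalkMap x').hom (X.presheaf.germ U ((f.fiberι s) x') hxU g) := by
    simp only [RingHom.algebraMap_toAlgebra, Scheme.Hom.germ_stalkMap_apply, Scheme.Hom.appLE,
      homOfLE_leOfHom, CommRingCat.hom_comp, RingHom.coe_comp, Function.comp_apply,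
      (f.fiber s).presheaf.germ_res_apply]
  rw [h2] at h1
  rw [mem_nonZeroDivisors_iff_right]
  intro y hy
  obtain ⟨y₀, rfl⟩ := Ideal.Quotient.mk_surjective y
  rw [← map_mul, Ideal.Quotient.eq_zero_iff_mem] at hy
  rw [Ideal.Quotient.eq_zero_iff_mem]
  have hy' : y₀ * X.presheaf.germ U ((f.fiberι s) x') hxU g ∈
      RingHom.ker ((f.fiberι s).stalkMap x').hom := by
    rw [hker]; exact hy
  rw [RingHom.mem_ker, map_mul] at hy'
  have h3 : ((f.fiberι s).stalkMap x').hom y₀ = 0 :=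
    (mem_nonZeroDivisors_iff_right.1 h1) _ hy'
  have h4 : y₀ ∈ RingHom.ker ((f.fiberι s).stalkMap x').hom := h3
  rw [hker] at h4
  exact h4

end Groth.Agent.Lib.Helper35.RegSliceScheme
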