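import Mathlib
set_option autoImplicit false
set_option linter.style.haveILetI false
set_option maxHeartbeats 400000
open TensorProduct RingTheory.Sequence IsLocalRing KaehlerDifferential

/-!
# Regular quotient smooth ⇒ smooth (Jacobian criterion route)

If `S` is a local ring, essentially of finite presentation over `R`, `fs` a weakly regular sequence
in the maximal ideal and `S ⧸ (fs)` is formally smooth over `R`, then `S` is formally smooth over `R`.
-/

namespace Groth.Agent.Lib.Helper35.RegSmooth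
universe u


/-- Regularity of `F` on `(P/K)/(Fs)`: membership transfer. -/
theorem mem_of_mul_mem {P : Type*} [CommRing P] (K : Ideal P) (Fs : List P) (F : P)
    (hreg : IsWeaklyRegular (P ⧸ K) (Fs ++ [F])) (a : P)
    (ha : a * F ∈ K ⊔ Ideal.ofList Fs) : a ∈ K ⊔ Ideal.ofList Fs := by
  rw [isWeaklyRegular_append_iff] at hreg
  have h2 := hreg.2
  rw [isWeaklyRegular_singleton_iff] at h2
  -- element of the quotient
  set N : Submodule P (P ⧸ K) := (Ideal.ofList Fs • ⊤ : Submodule P (P ⧸ K)) with hN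
  have hNmem : ∀ b : P, (Ideal.Quotient.mk K b) ∈ N ↔ b ∈ K ⊔ Ideal.ofList Fs := by
    intro b
    rw [hN, Ideal.smul_top_eq_map]
    simp only [Submodule.restrictScalars_mem]
    rw [show algebraMap P (P ⧸ K) = Ideal.Quotient.mk K from rfl, sup_comm]
    exact Ideal.mem_quotient_iff_mem_sup
  have h3 : F • (N.mkQ (Ideal.Quotient.mk K a)) = 0 := by
    rw [← map_smul, Submodule.mkQ_apply, Submodule.Quotient.mk_eq_zero]
    have : F • (Ideal.Quotient.mk K a) = Ideal.Quotient.mk K (a * F) := by
      rw [Algebra.smul_def, mul_comm, map_mul]; rfl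
    rw [this, hNmem]
    exact ha
  have h4 := h2 (by rw [h3, smul_zero] : F • (N.mkQ (Ideal.Quotient.mk K a)) = F • 0)
  rw [Submodule.mkQ_apply, Submodule.Quotient.mk_eq_zero, hNmem] at h4
  exact h4

theorem inf_ofList_le {P : Type*} [CommRing P] (K 𝔪 : Ideal P) (Fs : List P)
    (hmem : ∀ F ∈ Fs, F ∈ 𝔪) (hreg : IsWeaklyRegular (P ⧸ K) Fs) :
    K ⊓ Ideal.ofList Fs ≤ 𝔪 * K := by
  induction Fs using List.reverseRecOn with
  | nil => simp
  | append_singleton Fs F ih =>
    have hreg' := hreg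
    rw [isWeaklyRegular_append_iff] at hreg'
    have ih' := ih (fun G hG => hmem G (List.mem_append_left _ hG)) hreg'.1
    intro x hx
    obtain ⟨hxK, hxF⟩ := hx
    rw [Ideal.ofList_append, Ideal.ofList_singleton] at hxF
    obtain ⟨y, hy, z, hz, rfl⟩ := Submodule.mem_sup.mp hxF
    obtain ⟨a, rfl⟩ := Ideal.mem_span_singleton'.mp hz
    have haF : a * F ∈ K ⊔ Ideal.ofList Fs := by
      have : a * F = (y + a * F) - y := by ring
      rw [this]
      exact Ideal.sub_mem _ (Ideal.mem_sup_left hxK) (Ideal.mem_sup_right hy)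
    have ha := mem_of_mul_mem K Fs F hreg a haF
    obtain ⟨k, hk, y', hy', rfl⟩ := Submodule.mem_sup.mp ha
    have hFm : F ∈ 𝔪 := hmem F (by simp)
    have hkF : k * F ∈ 𝔪 * K := by
      have := Ideal.mul_mem_mul hFm hk
      rwa [mul_comm F k] at this
    have hrest : y + y' * F ∈ K ⊓ Ideal.ofList Fs := by
      refine ⟨?_, Ideal.add_mem _ hy (Ideal.mul_mem_right _ _ hy')⟩
      have : y + y' * F = (y + (k + y') * F) - k * F := by ring
      rw [this]
      exact Ideal.sub_mem _ hxK (Ideal.mul_mem_right _ _ hk)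
    have := ih' hrest
    have e : y + (k + y') * F = (y + y' * F) + k * F := by ring
    rw [e]
    exact Ideal.add_mem _ this hkF



theorem one_tmul_eq_zero_iff {P κ : Type*} [CommRing P] [CommRing κ] [Algebra P κ]
    (hs : Function.Surjective (algebraMap P κ)) {M : Type*} [AddCommGroup M] [Module P M] (m : M) :
    (1 : κ) ⊗ₜ[P] m = 0 ↔ m ∈ (RingHom.ker (algebraMap P κ)) • (⊤ : Submodule P M) := by
  set 𝔪 : Ideal P := RingHom.ker (algebraMap P κ) with h𝔪
  let e₀ : (P ⧸ 𝔪) ≃ₗ[P] κ :=
    (Ideal.quotientKerAlgEquivOfSurjective (f := Algebra.ofId P κ) hs).toLinearEquiv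
  have he₀ : e₀ 1 = 1 :=
    map_one (Ideal.quotientKerAlgEquivOfSurjective (f := Algebra.ofId P κ) hs)
  let e : κ ⊗[P] M ≃ₗ[P] M ⧸ (𝔪 • (⊤ : Submodule P M)) :=
    (LinearEquiv.rTensor M e₀.symm) ≪≫ₗ quotTensorEquivQuotSMul M 𝔪
  have he : e ((1 : κ) ⊗ₜ[P] m) = Submodule.Quotient.mk m := by
    have : e₀.symm 1 = 1 := by rw [LinearEquiv.symm_apply_eq, he₀]
    simp [e, this]
  rw [← e.map_eq_zero_iff, he, Submodule.Quotient.mk_eq_zero]

theorem lTensor_inclusion_injective {P κ : Type*} [CommRing P] [CommRing κ] [Algebra P κ]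
    (hs : Function.Surjective (algebraMap P κ)) (K J : Ideal P) (hKJ : K ≤ J)
    (h : K ⊓ RingHom.ker (algebraMap P κ) * J ≤ RingHom.ker (algebraMap P κ) * K) :
    Function.Injective ((Submodule.inclusion hKJ).lTensor κ) := by
  rw [injective_iff_map_eq_zero]
  intro z hz
  obtain ⟨k, rfl⟩ := TensorProduct.mk_surjective P K κ hs z
  simp only [mk_apply, LinearMap.lTensor_tmul] at hz ⊢
  rw [one_tmul_eq_zero_iff hs] at hz ⊢
  set 𝔪 : Ideal P := RingHom.ker (algebraMap P κ)
  have h1 : (k : P) ∈ 𝔪 * J := by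
    have := Submodule.mem_map_of_mem (f := J.subtype) hz
    rw [Submodule.map_smul'', Submodule.map_top, Submodule.range_subtype] at this
    simpa using this
  have h2 : (k : P) ∈ 𝔪 * K := h ⟨k.2, h1⟩
  have h3 : (k : P) ∈ Submodule.map K.subtype (𝔪 • (⊤ : Submodule P K)) := by
    rw [Submodule.map_smul'', Submodule.map_top, Submodule.range_subtype]
    simpa using h2
  obtain ⟨k', hk', hkk'⟩ := h3
  have : k' = k := Subtype.ext hkk'
  rwa [this] at hk'



theorem formallySmooth_of_regular_quotient_aux {R P S : Type u} [CommRing R] [CommRing P]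
    [CommRing S] [IsLocalRing S] [Algebra R P] [Algebra P S] [Algebra R S] [IsScalarTower R P S]
    [Algebra.FormallySmooth R P] [Module.Free P Ω[P⁄R]] [Module.Finite P Ω[P⁄R]]
    (h₁ : Function.Surjective (algebraMap P S)) (h₂ : (RingHom.ker (algebraMap P S)).FG)
    (Fs : List P) (hmem : ∀ F ∈ Fs, algebraMap P S F ∈ maximalIdeal S)
    (hreg : IsWeaklyRegular S (Fs.map (algebraMap P S)))
    (hsm : Algebra.FormallySmooth R (S ⧸ Ideal.ofList (Fs.map (algebraMap P S)))) :
    Algebra.FormallySmooth R S := by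
  set I : Ideal S := Ideal.ofList (Fs.map (algebraMap P S)) with hI
  have hIle : I ≤ maximalIdeal S := by
    rw [hI, Ideal.ofList, Ideal.span_le]
    intro x hx
    simp only [Set.mem_setOf_eq, List.mem_map] at hx
    obtain ⟨F, hF, rfl⟩ := hx
    exact hmem F hF
  have hIne : I ≠ ⊤ := fun h => (maximalIdeal.isMaximal S).ne_top (top_le_iff.mp (h ▸ hIle))
  haveI : Nontrivial (S ⧸ I) := Ideal.Quotient.nontrivial_iff.mpr hIne
  haveI : IsLocalRing (S ⧸ I) :=
    IsLocalRing.of_surjective' (Ideal.Quotient.mk I) Ideal.Quotient.mk_surjective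
  let κ := ResidueField S
  let φ : (S ⧸ I) →ₐ[S] κ := Ideal.Quotient.liftₐ I (Algebra.ofId S κ) (fun a ha => by
    have := hIle ha
    simpa [κ] using this)
  letI : Algebra (S ⧸ I) κ := φ.toAlgebra
  haveI : IsScalarTower S (S ⧸ I) κ := IsScalarTower.of_algebraMap_eq' φ.comp_algebraMap.symm
  haveI : IsScalarTower P (S ⧸ I) κ := IsScalarTower.to₁₃₄ P S (S ⧸ I) κ
  have h₁' : Function.Surjective (algebraMap P (S ⧸ I)) := by
    rw [IsScalarTower.algebraMap_eq P S (S ⧸ I)]
    exact Ideal.Quotient.mk_surjective.comp h₁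
  set K : Ideal P := RingHom.ker (algebraMap P S) with hK
  have hJ : RingHom.ker (algebraMap P (S ⧸ I)) = K ⊔ Ideal.ofList Fs := by
    rw [IsScalarTower.algebraMap_eq P S (S ⧸ I), ← RingHom.comap_ker]
    rw [show RingHom.ker (algebraMap S (S ⧸ I)) = I from Ideal.mk_ker]
    rw [hI, ← Ideal.map_ofList, Ideal.comap_map_of_surjective _ h₁, sup_comm]
    rfl
  have h₂' : (RingHom.ker (algebraMap P (S ⧸ I))).FG := by
    rw [hJ]
    refine Submodule.FG.sup h₂ ?_
    exact Submodule.fg_span (List.finite_toSet Fs)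
  have h₃' : maximalIdeal (S ⧸ I) ≤ RingHom.ker (algebraMap (S ⧸ I) κ) := by
    intro x hx
    obtain ⟨s, rfl⟩ := Ideal.Quotient.mk_surjective x
    have hs : s ∈ maximalIdeal S := by
      rw [mem_maximalIdeal, mem_nonunits_iff] at hx ⊢
      exact fun h => hx (h.map _)
    rw [RingHom.mem_ker]
    change φ (Ideal.Quotient.mk I s) = 0
    simpa [φ, κ] using hs
  have hinj := (Algebra.FormallySmooth.iff_injective_cotangentComplexBaseChange
    (R := R) (S := S ⧸ I) P κ h₁' h₂' h₃').mp hsm
  rw [Algebra.FormallySmooth.iff_injective_cotangentComplexBaseChange_residueField (P := P) h₁ h₂]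
  have hKJ : K ≤ RingHom.ker (algebraMap P (S ⧸ I)) := hJ ▸ le_sup_left
  have hfac : ∀ z, cotangentComplexBaseChange R S P κ z =
      cotangentComplexBaseChange R (S ⧸ I) P κ ((Submodule.inclusion hKJ).lTensor κ z) := by
    intro z
    induction z with
    | zero => simp
    | add x y hx hy => rw [map_add, map_add, map_add, hx, hy]
    | tmul a b =>
      rw [LinearMap.lTensor_tmul, cotangentComplexBaseChange_tmul, cotangentComplexBaseChange_tmul]
      rfl
  have hsκ : Function.Surjective (algebraMap P κ) := by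
    rw [IsScalarTower.algebraMap_eq P S κ]
    exact (IsLocalRing.residue_surjective).comp h₁
  have hmem𝔪 : ∀ F ∈ Fs, F ∈ RingHom.ker (algebraMap P κ) := by
    intro F hF
    rw [RingHom.mem_ker, IsScalarTower.algebraMap_apply P S κ]
    exact (IsLocalRing.residue_eq_zero_iff _).mpr (hmem F hF)
  have hregP : IsWeaklyRegular (P ⧸ K) Fs := by
    have h1 : IsWeaklyRegular S Fs := (isWeaklyRegular_map_algebraMap_iff S S Fs).mp hreg
    let e : (P ⧸ K) ≃ₗ[P] S :=
      (Ideal.quotientKerAlgEquivOfSurjective (f := Algebra.ofId P S) h₁).toLinearEquiv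
    exact (e.isWeaklyRegular_congr Fs).mpr h1
  have hcond : K ⊓ RingHom.ker (algebraMap P κ) * RingHom.ker (algebraMap P (S ⧸ I)) ≤
      RingHom.ker (algebraMap P κ) * K := by
    rw [hJ, Ideal.mul_sup]
    rintro x ⟨hxK, hx⟩
    obtain ⟨u, hu, v, hv, rfl⟩ := Submodule.mem_sup.mp hx
    have hvK : v ∈ K := by
      have : v = (u + v) - u := by ring
      rw [this]
      have huK : u ∈ K := (Ideal.mul_le_inf hu).2
      exact Ideal.sub_mem _ hxK huK
    have hvF : v ∈ Ideal.ofList Fs :=
      (Ideal.mul_le_inf hv).2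
    have hv' : v ∈ K ⊓ Ideal.ofList Fs := ⟨hvK, hvF⟩
    exact Ideal.add_mem _ hu (inf_ofList_le K _ Fs hmem𝔪 hregP hv')
  have hinj2 := lTensor_inclusion_injective hsκ K _ hKJ hcond
  intro z₁ z₂ hz
  rw [hfac, hfac] at hz
  exact hinj2 (hinj hz)


theorem exists_list_map_eq' {α β : Type*} (f : α → β) (hf : Function.Surjective f) (l : List β) :
    ∃ l' : List α, l'.map f = l := by
  induction l with
  | nil => exact ⟨[], rfl⟩
  | cons b l ih =>
    obtain ⟨l', hl'⟩ := ih
    obtain ⟨a, rfl⟩ := hf b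
    exact ⟨a :: l', by rw [List.map_cons, hl']⟩

/-- `S` local, a localization of a finitely presented `R`-algebra `B`; `fs` weakly regular in the
maximal ideal with `S ⧸ (fs)` formally smooth over `R`. Then `S` is formally smooth over `R`. -/
theorem formallySmooth_of_regular_quotient {R B S : Type u} [CommRing R] [CommRing B] [CommRing S]
    [IsLocalRing S] [Algebra R B] [Algebra B S] [Algebra R S] [IsScalarTower R B S]
    (M : Submonoid B) [IsLocalization M S] [Algebra.FinitePresentation R B]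
    (fs : List S) (hmem : ∀ f ∈ fs, f ∈ maximalIdeal S) (hreg : IsWeaklyRegular S fs)
    (hsm : Algebra.FormallySmooth R (S ⧸ Ideal.ofList fs)) : Algebra.FormallySmooth R S := by
  obtain ⟨n, f₀, hf₀⟩ := Algebra.FiniteType.iff_quotient_mvPolynomial''.mp
    (inferInstance : Algebra.FiniteType R B)
  let M' := M.comap f₀
  let P' := Localization M'
  let fP : P' →ₐ[R] S := IsLocalization.liftAlgHom (M := M')
      (f := (IsScalarTower.toAlgHom R B S).comp f₀) fun x ↦ by
    simpa using IsLocalization.map_units (M := M) _ ⟨f₀ x.1, x.2⟩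
  have hf₁ : Function.Surjective fP := by
    intro x
    obtain ⟨x, ⟨s, hs⟩, rfl⟩ := IsLocalization.exists_mk'_eq M x
    obtain ⟨x, rfl⟩ := hf₀ x
    obtain ⟨s, rfl⟩ := hf₀ s
    refine ⟨IsLocalization.mk' (M := M') _ x ⟨s, hs⟩, ?_⟩
    simp [fP, IsLocalization.lift_mk', Units.mul_inv_eq_iff_eq_mul, IsUnit.liftRight]
  have hfP : (RingHom.ker fP).FG := by
    have := Algebra.FinitePresentation.ker_fG_of_surjective _ hf₀
    convert! this.map (algebraMap _ P')
    refine le_antisymm ?_ (Ideal.map_le_iff_le_comap.mpr fun x hx ↦ by simp_all [fP])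
    intro x hx
    obtain ⟨x, s, rfl⟩ := IsLocalization.exists_mk'_eq M' x
    obtain ⟨a, ha, e⟩ : ∃ a ∈ M, a * f₀ x = 0 := by
      simpa [fP, IsLocalization.lift_mk', IsLocalization.map_eq_zero_iff M] using hx
    obtain ⟨a, rfl⟩ := hf₀ a
    rw [IsLocalization.mk'_mem_map_algebraMap_iff]
    exact ⟨a, ha, by simpa⟩
  algebraize [fP.toRingHom]
  have : Algebra.FormallyEtale (MvPolynomial (Fin n) R) P' := .of_isLocalization M'
  have : Algebra.FormallySmooth R P' := .comp _ (MvPolynomial (Fin n) R) _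
  have : Module.Free P' Ω[P'⁄R] :=
    .of_equiv (KaehlerDifferential.tensorKaehlerEquivOfFormallyEtale R (MvPolynomial (Fin n) R) P')
  have : IsScalarTower R P' S := IsScalarTower.of_algebraMap_eq' fP.comp_algebraMap.symm
  obtain ⟨Fs, hFs⟩ := exists_list_map_eq' (algebraMap P' S) hf₁ fs
  subst hFs
  refine formallySmooth_of_regular_quotient_aux (R := R) (P := P') (S := S) hf₁ hfP Fs ?_ hreg hsm
  intro F hF
  exact hmem _ (List.mem_map_of_mem hF)

/-- Ring-level core: `A → B` finitely presented, `B → C` surjective with kernel generated by a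
weakly regular sequence; if `C` is smooth over `A` at `q̄` then `B` is smooth over `A` at the
preimage of `q̄`. -/
theorem isSmoothAt_comap_of_regular {A B C : Type u} [CommRing A] [CommRing B] [CommRing C]
    [Algebra A B] [Algebra B C] [Algebra A C] [IsScalarTower A B C]
    [Algebra.FinitePresentation A B]
    (hsurj : Function.Surjective (algebraMap B C)) (rs : List B) (hreg : IsWeaklyRegular B rs)
    (hker : RingHom.ker (algebraMap B C) = Ideal.ofList rs)
    (q' : Ideal C) [q'.IsPrime] (h : Algebra.IsSmoothAt A q')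
    (q : Ideal B) [q.IsPrime] (hq : q = q'.comap (algebraMap B C)) :
    Algebra.IsSmoothAt A q := by
  let S := Localization.AtPrime q
  let T := Localization.AtPrime q'
  let φ : B →ₐ[A] C := IsScalarTower.toAlgHom A B C
  let ψ : S →ₐ[A] T := Localization.localAlgHom q q' φ hq
  have hψmk : ∀ (b : B) (s : q.primeCompl), ψ (IsLocalization.mk' S b s) =
      IsLocalization.mk' T (algebraMap B C b)
        (⟨algebraMap B C s, Localization.le_comap_primeCompl_iff.mpr (ge_of_eq hq) s.2⟩ : q'.primeCompl) :=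
    fun b s => Localization.localRingHom_mk' q q' φ.toRingHom hq b s
  have hψsurj : Function.Surjective ψ := by
    intro y
    obtain ⟨c, ⟨u, hu⟩, rfl⟩ := IsLocalization.exists_mk'_eq q'.primeCompl y
    obtain ⟨b, rfl⟩ := hsurj c
    obtain ⟨s, rfl⟩ := hsurj u
    have hs : s ∈ q.primeCompl := by
      intro hsq
      rw [hq] at hsq
      exact hu hsq
    exact ⟨IsLocalization.mk' S b ⟨s, hs⟩, hψmk b ⟨s, hs⟩⟩
  set fs : List S := rs.map (algebraMap B S) with hfs
  have hkerψ : RingHom.ker ψ = Ideal.ofList fs := by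
    rw [hfs, ← Ideal.map_ofList, ← hker]
    apply le_antisymm
    · intro x hx
      obtain ⟨b, s, rfl⟩ := IsLocalization.exists_mk'_eq q.primeCompl x
      rw [RingHom.mem_ker, hψmk, IsLocalization.mk'_eq_zero_iff] at hx
      obtain ⟨⟨t, ht⟩, htb⟩ := hx
      obtain ⟨t', rfl⟩ := hsurj t
      have ht' : t' ∈ q.primeCompl := by
        intro h'
        rw [hq] at h'
        exact ht h'
      rw [IsLocalization.mk'_mem_map_algebraMap_iff]
      refine ⟨t', ht', ?_⟩
      rw [RingHom.mem_ker, map_mul]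
      exact htb
    · rw [Ideal.map_le_iff_le_comap]
      intro b hb
      rw [Ideal.mem_comap, RingHom.mem_ker]
      have : ψ (algebraMap B S b) = algebraMap C T (algebraMap B C b) :=
        Localization.localRingHom_to_map q q' φ.toRingHom hq b
      rw [this, (RingHom.mem_ker).mp hb, map_zero]
  have hmem : ∀ f ∈ fs, f ∈ maximalIdeal S := by
    intro f hf
    rw [hfs, List.mem_map] at hf
    obtain ⟨r, hr, rfl⟩ := hf
    have hrq : r ∈ q := by
      rw [hq, Ideal.mem_comap]
      have : r ∈ RingHom.ker (algebraMap B C) := by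
        rw [hker]; exact Ideal.subset_span hr
      rw [(RingHom.mem_ker).mp this]
      exact zero_mem _
    rw [← Localization.AtPrime.map_eq_maximalIdeal]
    exact Ideal.mem_map_of_mem _ hrq
  have hregS : IsWeaklyRegular S fs := hreg.of_flat
  have hT : Algebra.FormallySmooth A T := h
  have hsm : Algebra.FormallySmooth A (S ⧸ Ideal.ofList fs) := by
    let e₁ : (S ⧸ Ideal.ofList fs) ≃ₐ[A] (S ⧸ RingHom.ker ψ) :=
      Ideal.quotientEquivAlgOfEq A hkerψ.symm
    let e₂ : (S ⧸ RingHom.ker ψ) ≃ₐ[A] T := Ideal.quotientKerAlgEquivOfSurjective hψsurj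
    exact Algebra.FormallySmooth.of_equiv (e₁.trans e₂).symm
  exact formallySmooth_of_regular_quotient (R := A) (B := B) (S := S) q.primeCompl fs hmem hregS hsm


theorem isWeaklyRegular_map_ringEquiv {S₁ S₂ : Type*} [CommRing S₁] [CommRing S₂] (e : S₁ ≃+* S₂)
    (rs : List S₁) : IsWeaklyRegular S₁ rs ↔ IsWeaklyRegular S₂ (rs.map e) :=
  AddEquiv.isWeaklyRegular_congr (e := e.toAddEquiv) (List.forall₂_map_right_iff.mpr <|
    List.forall₂_same.mpr fun r _ x => by simp)

theorem isRegular_map_ringEquiv {S₁ S₂ : Type*} [CommRing S₁] [CommRing S₂] (e : S₁ ≃+* S₂)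
    (rs : List S₁) : IsRegular S₁ rs ↔ IsRegular S₂ (rs.map e) :=
  AddEquiv.isRegular_congr (e := e.toAddEquiv) (List.forall₂_map_right_iff.mpr <|
    List.forall₂_same.mpr fun r _ x => by simp)

/-- Variant of `isSmoothAt_comap_of_regular` where the regular sequence is only given in the
local ring `B_q`. -/
theorem isSmoothAt_comap_of_regular_local {A B C : Type u} [CommRing A] [CommRing B] [CommRing C]
    [Algebra A B] [Algebra B C] [Algebra A C] [IsScalarTower A B C]
    [Algebra.FinitePresentation A B]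
    (hsurj : Function.Surjective (algebraMap B C))
    (q' : Ideal C) [q'.IsPrime] (h : Algebra.IsSmoothAt A q')
    (q : Ideal B) [q.IsPrime] (hq : q = q'.comap (algebraMap B C))
    (fs : List (Localization.AtPrime q)) (hreg : IsWeaklyRegular (Localization.AtPrime q) fs)
    (hker : (RingHom.ker (algebraMap B C)).map (algebraMap B (Localization.AtPrime q)) =
      Ideal.ofList fs) :
    Algebra.IsSmoothAt A q := by
  let S := Localization.AtPrime q
  let T := Localization.AtPrime q'
  let φ : B →ₐ[A] C := IsScalarTower.toAlgHom A B C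
  let ψ : S →ₐ[A] T := Localization.localAlgHom q q' φ hq
  have hψmk : ∀ (b : B) (s : q.primeCompl), ψ (IsLocalization.mk' S b s) =
      IsLocalization.mk' T (algebraMap B C b)
        (⟨algebraMap B C s, Localization.le_comap_primeCompl_iff.mpr (ge_of_eq hq) s.2⟩ :
          q'.primeCompl) :=
    fun b s => Localization.localRingHom_mk' q q' φ.toRingHom hq b s
  have hψsurj : Function.Surjective ψ := by
    intro y
    obtain ⟨c, ⟨u, hu⟩, rfl⟩ := IsLocalization.exists_mk'_eq q'.primeCompl y
    obtain ⟨b, rfl⟩ := hsurj c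
    obtain ⟨s, rfl⟩ := hsurj u
    have hs : s ∈ q.primeCompl := by
      intro hsq
      rw [hq] at hsq
      exact hu hsq
    exact ⟨IsLocalization.mk' S b ⟨s, hs⟩, hψmk b ⟨s, hs⟩⟩
  have hkerψ : RingHom.ker ψ = Ideal.ofList fs := by
    rw [← hker]
    apply le_antisymm
    · intro x hx
      obtain ⟨b, s, rfl⟩ := IsLocalization.exists_mk'_eq q.primeCompl x
      rw [RingHom.mem_ker, hψmk, IsLocalization.mk'_eq_zero_iff] at hx
      obtain ⟨⟨t, ht⟩, htb⟩ := hx
      obtain ⟨t', rfl⟩ := hsurj t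
      have ht' : t' ∈ q.primeCompl := by
        intro h'
        rw [hq] at h'
        exact ht h'
      rw [IsLocalization.mk'_mem_map_algebraMap_iff]
      refine ⟨t', ht', ?_⟩
      rw [RingHom.mem_ker, map_mul]
      exact htb
    · rw [Ideal.map_le_iff_le_comap]
      intro b hb
      rw [Ideal.mem_comap, RingHom.mem_ker]
      have : ψ (algebraMap B S b) = algebraMap C T (algebraMap B C b) :=
        Localization.localRingHom_to_map q q' φ.toRingHom hq b
      rw [this, (RingHom.mem_ker).mp hb, map_zero]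
  have hkq : RingHom.ker (algebraMap B C) ≤ q := by
    intro r hr
    rw [hq, Ideal.mem_comap, (RingHom.mem_ker).mp hr]
    exact zero_mem _
  have hmem : ∀ f ∈ fs, f ∈ maximalIdeal S := by
    intro f hf
    have h1 : f ∈ Ideal.ofList fs := Ideal.subset_span hf
    rw [← hker] at h1
    rw [← Localization.AtPrime.map_eq_maximalIdeal]
    exact Ideal.map_mono hkq h1
  have hT : Algebra.FormallySmooth A T := h
  have hsm : Algebra.FormallySmooth A (S ⧸ Ideal.ofList fs) := by
    let e₁ : (S ⧸ Ideal.ofList fs) ≃ₐ[A] (S ⧸ RingHom.ker ψ) :=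
      Ideal.quotientEquivAlgOfEq A hkerψ.symm
    let e₂ : (S ⧸ RingHom.ker ψ) ≃ₐ[A] T := Ideal.quotientKerAlgEquivOfSurjective hψsurj
    exact Algebra.FormallySmooth.of_equiv (e₁.trans e₂).symm
  exact formallySmooth_of_regular_quotient (R := A) (B := B) (S := S) q.primeCompl fs hmem hreg hsm


theorem isRegular_map_ringEquiv' {S₁ S₂ : Type*} [CommRing S₁] [CommRing S₂] (e : S₁ ≃+* S₂)
    (rs : List S₁) : IsRegular S₁ rs ↔ IsRegular S₂ (rs.map e) :=
  AddEquiv.isRegular_congr (e := e.toAddEquiv) (List.forall₂_map_right_iff.mpr <|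
    List.forall₂_same.mpr fun r _ x => by simp)

/-- kernel of the localised map for a surjection. -/
theorem ker_localRingHom {B C : Type*} [CommRing B] [CommRing C] (φ : B →+* C)
    (hsurj : Function.Surjective φ) (q' : Ideal C) [q'.IsPrime] (q : Ideal B) [q.IsPrime]
    (hq : q = q'.comap φ) :
    RingHom.ker (Localization.localRingHom q q' φ hq) =
      (RingHom.ker φ).map (algebraMap B (Localization.AtPrime q)) := by
  apply le_antisymm
  · intro x hx
    obtain ⟨b, s, rfl⟩ := IsLocalization.exists_mk'_eq q.primeCompl x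
    rw [RingHom.mem_ker, Localization.localRingHom_mk', IsLocalization.mk'_eq_zero_iff] at hx
    obtain ⟨⟨t, ht⟩, htb⟩ := hx
    obtain ⟨t', rfl⟩ := hsurj t
    have ht' : t' ∈ q.primeCompl := by
      intro h'
      rw [hq] at h'
      exact ht h'
    rw [IsLocalization.mk'_mem_map_algebraMap_iff]
    refine ⟨t', ht', ?_⟩
    rw [RingHom.mem_ker, map_mul]
    exact htb
  · rw [Ideal.map_le_iff_le_comap]
    intro b hb
    rw [Ideal.mem_comap, RingHom.mem_ker, Localization.localRingHom_to_map,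
      (RingHom.mem_ker).mp hb, map_zero]

/-- transport of "the kernel is generated by a regular sequence" along an isomorphism of arrows. -/
theorem exists_isRegular_ker_iff {S₁ T₁ S₂ T₂ : Type*} [CommRing S₁] [CommRing T₁] [CommRing S₂]
    [CommRing T₂] (ψ₁ : S₁ →+* T₁) (ψ₂ : S₂ →+* T₂) (e : S₁ ≃+* S₂) (e' : T₁ ≃+* T₂)
    (hcomm : ∀ x, e' (ψ₁ x) = ψ₂ (e x)) :
    (∃ rs : List S₁, IsRegular S₁ rs ∧ Ideal.ofList rs = RingHom.ker ψ₁) ↔
      (∃ rs : List S₂, IsRegular S₂ rs ∧ Ideal.ofList rs = RingHom.ker ψ₂) := by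
  have hk : (RingHom.ker ψ₁).map (e : S₁ →+* S₂) = RingHom.ker ψ₂ := by
    ext x
    rw [Ideal.mem_map_iff_of_surjective (e : S₁ →+* S₂) e.surjective]
    constructor
    · rintro ⟨z, hz, rfl⟩
      rw [RingHom.mem_ker] at hz ⊢
      show ψ₂ (e z) = 0
      rw [← hcomm, hz, map_zero]
    · intro hx
      refine ⟨e.symm x, ?_, e.apply_symm_apply x⟩
      rw [RingHom.mem_ker] at hx ⊢
      apply e'.injective
      rw [hcomm, e.apply_symm_apply, hx, map_zero]
  have hk' : (RingHom.ker ψ₂).map (e.symm : S₂ →+* S₁) = RingHom.ker ψ₁ := by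
    rw [← hk, Ideal.map_map]
    have : (e.symm : S₂ →+* S₁).comp (e : S₁ →+* S₂) = RingHom.id S₁ := by
      ext x; simp
    rw [this, Ideal.map_id]
  constructor
  · rintro ⟨rs, hrs, hI⟩
    refine ⟨rs.map e, (isRegular_map_ringEquiv' e rs).mp hrs, ?_⟩
    rw [← hk, ← hI]
    exact (Ideal.map_ofList (e : S₁ →+* S₂) rs).symm
  · rintro ⟨rs, hrs, hI⟩
    refine ⟨rs.map e.symm, (isRegular_map_ringEquiv' e.symm rs).mp hrs, ?_⟩
    rw [← hk', ← hI]
    exact (Ideal.map_ofList (e.symm : S₂ →+* S₁) rs).symm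


end Groth.Agent.Lib.Helper35.RegSmooth
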