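import Groth.Agent.Lib.Helper35.RegSlice8
import Groth.Agent.Lib.Helper35.RegSliceScheme
import Groth.Agent.Lib.Helper35.RegSmooth
import Groth.Prelude.Def_Mor2

set_option autoImplicit false
set_option linter.style.haveILetI false
set_option maxHeartbeats 800000
universe u

namespace Groth.Agent.Lib.Helper35.IterSliceScheme

open AlgebraicGeometry CategoryTheory Limits IsLocalRing TensorProduct RingTheory.Sequence
open Groth.Agent.Lib.Helper35

/-- lift a list of germs to sections on a common affine neighbourhood -/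
theorem exists_lift_germs {X : Scheme.{u}} (x : X) (W : X.Opens) (hxW : x ∈ W)
    (hs : List (X.presheaf.stalk x)) :
    ∃ (U : X.Opens) (_ : IsAffineOpen U) (hxU : x ∈ U), U ≤ W ∧
      ∃ gs : List Γ(X, U), gs.map (X.presheaf.germ U x hxU) = hs := by
  induction hs with
  | nil =>
    obtain ⟨_, ⟨U, hU, rfl⟩, hxU, hUW⟩ :=
      X.isBasis_affineOpens.exists_subset_of_mem_open hxW W.isOpen
    exact ⟨U, hU, hxU, hUW, [], rfl⟩
  | cons h t ih =>
    obtain ⟨U₁, hU₁, hxU₁, hle, gs₁, hgs₁⟩ := ih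
    obtain ⟨W₂, hxW₂, a, ha⟩ := X.presheaf.exists_germ_eq h
    have hmem : x ∈ U₁ ⊓ W₂ := ⟨hxU₁, hxW₂⟩
    obtain ⟨_, ⟨U₂, hU₂, rfl⟩, hxU₂, hU₂le⟩ :=
      X.isBasis_affineOpens.exists_subset_of_mem_open hmem (U₁ ⊓ W₂).isOpen
    obtain ⟨U₂, rfl⟩ : ∃ U' : X.Opens, U' = U₂ := ⟨U₂, rfl⟩
    have h1 : U₂ ≤ U₁ := fun z hz => (hU₂le hz).1
    have h2 : U₂ ≤ W₂ := fun z hz => (hU₂le hz).2
    refine ⟨U₂, hU₂, hxU₂, h1.trans hle,
      (X.presheaf.map (homOfLE h2).op a) :: gs₁.map (X.presheaf.map (homOfLE h1).op), ?_⟩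
    rw [List.map_cons, List.map_map]
    congr 1
    · rw [← ha]
      exact X.presheaf.germ_res_apply (homOfLE h2) x hxU₂ a
    · rw [← hgs₁]
      apply List.map_congr_left
      intro b _
      exact X.presheaf.germ_res_apply (homOfLE h1) x hxU₂ b


/-- **Iterated slicing on a chart.** -/
theorem exists_chart {X S : Scheme.{u}} (f : X ⟶ S) [LocallyOfFinitePresentation f]
    (x : X) (hflat : (f.stalkMap x).hom.Flat) (hs : List (X.presheaf.stalk x))
    (hmem : ∀ h ∈ hs, h ∈ maximalIdeal (X.presheaf.stalk x))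
    (hreg : IsWeaklyRegular (X.presheaf.stalk x ⧸ Ideal.map (f.stalkMap x).hom
      (maximalIdeal (S.presheaf.stalk (f x)))) hs)
    (W : X.Opens) (hxW : x ∈ W) :
    ∃ (V : S.Opens) (_ : IsAffineOpen V) (U : X.Opens) (hU : IsAffineOpen U)
      (hUV : U ≤ f ⁻¹ᵁ V) (hxU : x ∈ U) (gs : List Γ(X, U)), U ≤ W ∧
      gs.map (X.presheaf.germ U x hxU) = hs ∧ IsWeaklyRegular Γ(X, U) gs ∧
      (∀ g ∈ gs, g ∈ (hU.primeIdealOf ⟨x, hxU⟩).asIdeal) ∧
      (letI := (f.appLE V U hUV).hom.toAlgebra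
       ∀ j : ℕ, Module.Flat Γ(S, V) (Γ(X, U) ⧸ Ideal.ofList (gs.take j))) := by
  obtain ⟨_, ⟨V, hV, rfl⟩, hxV, -⟩ :=
    S.isBasis_affineOpens.exists_subset_of_mem_open (Set.mem_univ (f x)) isOpen_univ
  obtain ⟨V, rfl⟩ : ∃ V' : S.Opens, V' = V := ⟨V, rfl⟩
  have hxW' : x ∈ W ⊓ f ⁻¹ᵁ V := ⟨hxW, hxV⟩
  obtain ⟨U, hU, hxU, hUle, gs₁, hgs₁⟩ := exists_lift_germs x (W ⊓ f ⁻¹ᵁ V) hxW' hs
  have hUW : U ≤ W := fun z hz => (hUle hz).1
  have hUV : U ≤ f ⁻¹ᵁ V := fun z hz => (hUle hz).2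
  have hfp := f.finitePresentation_appLE hV hU hUV
  letI algAB : Algebra Γ(S, V) Γ(X, U) := (f.appLE V U hUV).hom.toAlgebra
  haveI : Algebra.FinitePresentation Γ(S, V) Γ(X, U) := hfp
  let p := (hV.primeIdealOf ⟨f x, hUV hxU⟩).asIdeal
  let q := (hU.primeIdealOf ⟨x, hxU⟩).asIdeal
  haveI : q.LiesOver p :=
    ⟨congr($(IsAffineOpen.comap_primeIdealOf_appLE V hV U hU hUV hxU).1).symm⟩
  letI := S.presheaf.algebra_section_stalk ⟨f x, hUV hxU⟩
  haveI := hV.isLocalization_stalk ⟨f x, hUV hxU⟩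
  letI := X.presheaf.algebra_section_stalk ⟨x, hxU⟩
  haveI := hU.isLocalization_stalk ⟨x, hxU⟩
  have hσ : (f.stalkMap x).hom.comp (algebraMap Γ(S, V) (S.presheaf.stalk (f x))) =
      (algebraMap Γ(X, U) (X.presheaf.stalk x)).comp (algebraMap Γ(S, V) Γ(X, U)) := by
    ext a
    simp only [RingHom.algebraMap_toAlgebra, Scheme.Hom.germ_stalkMap_apply, Scheme.Hom.appLE,
      homOfLE_leOfHom, CommRingCat.hom_comp, RingHom.coe_comp, Function.comp_apply,
      X.presheaf.germ_res_apply]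
  have halg : ∀ b : Γ(X, U), algebraMap Γ(X, U) (X.presheaf.stalk x) b =
      X.presheaf.germ U x hxU b := fun b => rfl
  have hmem' : ∀ g ∈ gs₁, g ∈ q := by
    intro g hg
    have h1 : X.presheaf.germ U x hxU g ∈ maximalIdeal (X.presheaf.stalk x) := by
      apply hmem
      rw [← hgs₁]
      exact List.mem_map_of_mem hg
    rw [← halg, IsLocalization.AtPrime.to_map_mem_maximal_iff (X.presheaf.stalk x) q] at h1
    exact h1
  have hreg' : IsWeaklyRegular (X.presheaf.stalk x ⧸ Ideal.map (f.stalkMap x).hom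
      (maximalIdeal (S.presheaf.stalk (f x)))) (gs₁.map (algebraMap Γ(X, U) (X.presheaf.stalk x))) := by
    have : gs₁.map (algebraMap Γ(X, U) (X.presheaf.stalk x)) = hs := by
      rw [← hgs₁]
      exact List.map_congr_left (fun b _ => halg b)
    rw [this]
    exact hreg
  obtain ⟨w, hwq, H⟩ := RegSlice8.iter_slice p (S.presheaf.stalk (f x)) gs₁.length Γ(X, U) q
    (X.presheaf.stalk x) (f.stalkMap x).hom hσ hflat gs₁ rfl hmem' hreg'
  haveI := hU.isLocalization_basicOpen w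
  have hxU' : x ∈ X.basicOpen w :=
    RegSliceScheme.mem_basicOpen_of_not_mem_primeIdealOf hU x hxU w hwq
  have hUV' : X.basicOpen w ≤ f ⁻¹ᵁ V := (X.basicOpen_le w).trans hUV
  letI algAB' : Algebra Γ(S, V) Γ(X, X.basicOpen w) :=
    (f.appLE V (X.basicOpen w) hUV').hom.toAlgebra
  have hcomp : (algebraMap Γ(X, U) Γ(X, X.basicOpen w)).comp (algebraMap Γ(S, V) Γ(X, U)) =
      (f.appLE V (X.basicOpen w) hUV').hom := by
    rw [RingHom.algebraMap_toAlgebra, RingHom.algebraMap_toAlgebra, ← CommRingCat.hom_comp,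
      Scheme.Hom.appLE_map]
  haveI : IsScalarTower Γ(S, V) Γ(X, U) Γ(X, X.basicOpen w) :=
    IsScalarTower.of_algebraMap_eq (fun a => (congr($hcomp a)).symm)
  obtain ⟨hwr, hfl⟩ := H w dvd_rfl Γ(X, X.basicOpen w)
  have hres : ∀ b : Γ(X, U), algebraMap Γ(X, U) Γ(X, X.basicOpen w) b =
      X.presheaf.map (homOfLE (X.basicOpen_le w)).op b := fun b => rfl
  refine ⟨V, hV, X.basicOpen w, hU.basicOpen w, hUV', hxU',
    gs₁.map (algebraMap Γ(X, U) Γ(X, X.basicOpen w)), (X.basicOpen_le w).trans hUW, ?_, hwr, ?_, hfl⟩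
  · rw [List.map_map, ← hgs₁]
    apply List.map_congr_left
    intro b _
    exact X.presheaf.germ_res_apply (homOfLE (X.basicOpen_le w)) x hxU' b
  · intro g hg
    obtain ⟨b, hb, rfl⟩ := List.mem_map.1 hg
    have hbq := hmem' b hb
    letI := X.presheaf.algebra_section_stalk ⟨x, hxU'⟩
    haveI := (hU.basicOpen w).isLocalization_stalk ⟨x, hxU'⟩
    rw [← IsLocalization.AtPrime.to_map_mem_maximal_iff (X.presheaf.stalk x)
      ((hU.basicOpen w).primeIdealOf ⟨x, hxU'⟩).asIdeal]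
    have h1 : algebraMap Γ(X, X.basicOpen w) (X.presheaf.stalk x)
        (algebraMap Γ(X, U) Γ(X, X.basicOpen w) b) = X.presheaf.germ U x hxU b :=
      X.presheaf.germ_res_apply (homOfLE (X.basicOpen_le w)) x hxU' b
    rw [h1, ← halg, IsLocalization.AtPrime.to_map_mem_maximal_iff (X.presheaf.stalk x) q]
    exact hbq


section Props

variable {X : Scheme.{u}} {U : X.Opens} (hU : IsAffineOpen U) (gs : List Γ(X, U))

theorem isRegularClosedImmersion_chart (hreg : IsWeaklyRegular Γ(X, U) gs)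
    (hne : Ideal.ofList gs ≠ ⊤) :
    Mor2.IsRegularClosedImmersion
      (Spec.map (CommRingCat.ofHom (Ideal.Quotient.mk (Ideal.ofList gs))) ≫ hU.isoSpec.inv) := by
  haveI : IsClosedImmersion (Spec.map (CommRingCat.ofHom (Ideal.Quotient.mk (Ideal.ofList gs)))) :=
    IsClosedImmersion.spec_of_surjective _ Ideal.Quotient.mk_surjective
  haveI : IsAffine (U : Scheme.{u}) := hU
  refine ⟨inferInstance, fun z => ⟨⊤, isAffineOpen_top _, trivial, ?_⟩⟩
  obtain ⟨i, hi⟩ : ∃ i : Spec (CommRingCat.of (Γ(X, U) ⧸ Ideal.ofList gs)) ⟶ (U : Scheme.{u}),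
    i = Spec.map (CommRingCat.ofHom (Ideal.Quotient.mk (Ideal.ofList gs))) ≫ hU.isoSpec.inv :=
    ⟨_, rfl⟩
  rw [← hi]
  haveI : IsIso (hU.isoSpec.inv.appTop) := inferInstanceAs (IsIso (hU.isoSpec.inv.app ⊤))
  let e₀ : Γ((U : Scheme.{u}), ⊤) ≅ Γ(X, U) :=
    asIso (hU.isoSpec.inv.appTop) ≪≫ Scheme.ΓSpecIso Γ(X, U)
  let e₁ := Scheme.ΓSpecIso (CommRingCat.of (Γ(X, U) ⧸ Ideal.ofList gs))
  have hcomm : i.appTop ≫ e₁.hom =
      e₀.hom ≫ CommRingCat.ofHom (Ideal.Quotient.mk (Ideal.ofList gs)) := by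
    rw [hi, Scheme.Hom.comp_appTop]
    simp only [e₀, e₁, Iso.trans_hom, asIso_hom, Category.assoc, Scheme.ΓSpecIso_naturality]
    rfl
  have key := (RegSmooth.exists_isRegular_ker_iff (i.appTop).hom
    (Ideal.Quotient.mk (Ideal.ofList gs)) e₀.commRingCatIsoToRingEquiv
    e₁.commRingCatIsoToRingEquiv (fun x => congr($hcomm x))).2
    ⟨gs, ⟨hreg, by rw [smul_eq_mul, Ideal.mul_top]; exact hne.symm⟩, Ideal.mk_ker.symm⟩
  obtain ⟨rs, hrs, hI⟩ := key
  refine ⟨rs, hrs, ?_⟩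
  rw [Scheme.Hom.ker_apply, hI]
  rfl

end Props


section Props2

variable {X S : Scheme.{u}} (f : X ⟶ S) {U : X.Opens} (hU : IsAffineOpen U) (gs : List Γ(X, U))

theorem mem_range_chart (x : X) (hxU : x ∈ U)
    (hmem : ∀ g ∈ gs, g ∈ (hU.primeIdealOf ⟨x, hxU⟩).asIdeal) :
    x ∈ Set.range ⇑(Spec.map (CommRingCat.ofHom (Ideal.Quotient.mk (Ideal.ofList gs))) ≫
      hU.fromSpec) := by
  have h1 : hU.primeIdealOf ⟨x, hxU⟩ ∈ Set.range
      (PrimeSpectrum.comap (Ideal.Quotient.mk (Ideal.ofList gs))) := by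
    rw [range_comap_of_surjective _ _ Ideal.Quotient.mk_surjective, Ideal.mk_ker,
      PrimeSpectrum.mem_zeroLocus]
    intro r hr
    refine (Ideal.span_le.2 ?_) hr
    intro r hr
    exact hmem r hr
  obtain ⟨z, hz⟩ := h1
  obtain ⟨z', hz'⟩ : ∃ z' : ↥(Spec (CommRingCat.of (Γ(X, U) ⧸ Ideal.ofList gs))), z' = z := ⟨z, rfl⟩
  refine ⟨z', ?_⟩
  rw [Scheme.Hom.comp_apply]
  have : (Spec.map (CommRingCat.ofHom (Ideal.Quotient.mk (Ideal.ofList gs)))) z' =
      hU.primeIdealOf ⟨x, hxU⟩ := by rw [hz']; exact hz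
  rw [this, hU.fromSpec_primeIdealOf]

theorem ofList_ne_top (x : X) (hxU : x ∈ U)
    (hmem : ∀ g ∈ gs, g ∈ (hU.primeIdealOf ⟨x, hxU⟩).asIdeal) : Ideal.ofList gs ≠ ⊤ := by
  intro h
  have h1 : Ideal.ofList gs ≤ (hU.primeIdealOf ⟨x, hxU⟩).asIdeal :=
    Ideal.span_le.2 (fun r hr => hmem r hr)
  rw [h] at h1
  exact (hU.primeIdealOf ⟨x, hxU⟩).isPrime.ne_top (top_le_iff.1 h1)

theorem flat_chart {V : S.Opens} (hV : IsAffineOpen V) (hUV : U ≤ f ⁻¹ᵁ V)
    (hfl : letI := (f.appLE V U hUV).hom.toAlgebra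
      Module.Flat Γ(S, V) (Γ(X, U) ⧸ Ideal.ofList gs)) :
    Flat (Spec.map (CommRingCat.ofHom (Ideal.Quotient.mk (Ideal.ofList gs))) ≫
      hU.fromSpec ≫ f) := by
  rw [← hV.SpecMap_appLE_fromSpec f hU hUV, ← Category.assoc, ← Spec.map_comp]
  haveI : Flat (Spec.map (f.appLE V U hUV ≫
      CommRingCat.ofHom (Ideal.Quotient.mk (Ideal.ofList gs)))) := by
    rw [HasRingHomProperty.Spec_iff (P := @Flat)]
    letI := (f.appLE V U hUV).hom.toAlgebra
    have h3 : (f.appLE V U hUV ≫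
        CommRingCat.ofHom (Ideal.Quotient.mk (Ideal.ofList gs))).hom.toAlgebra =
        (inferInstance : Algebra Γ(S, V) (Γ(X, U) ⧸ Ideal.ofList gs)) :=
      Algebra.algebra_ext _ _ (fun r => rfl)
    show @Module.Flat Γ(S, V) (Γ(X, U) ⧸ Ideal.ofList gs) _ _
      ((f.appLE V U hUV ≫
        CommRingCat.ofHom (Ideal.Quotient.mk (Ideal.ofList gs))).hom.toAlgebra).toModule
    rw [h3]
    exact hfl
  infer_instance

theorem lfp_chart [LocallyOfFinitePresentation f] :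
    LocallyOfFinitePresentation
      (Spec.map (CommRingCat.ofHom (Ideal.Quotient.mk (Ideal.ofList gs))) ≫ hU.fromSpec ≫ f) := by
  haveI : LocallyOfFinitePresentation
      (Spec.map (CommRingCat.ofHom (Ideal.Quotient.mk (Ideal.ofList gs)))) := by
    rw [HasRingHomProperty.Spec_iff (P := @LocallyOfFinitePresentation)]
    refine RingHom.FinitePresentation.of_surjective _ Ideal.Quotient.mk_surjective ?_
    show (RingHom.ker (Ideal.Quotient.mk (Ideal.ofList gs))).FG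
    rw [Ideal.mk_ker]
    exact Submodule.fg_span (List.finite_toSet gs)
  infer_instance

end Props2

end Groth.Agent.Lib.Helper35.IterSliceScheme
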