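import Groth.Agent.Lib.Helper35.TorsionFree
import Mathlib.RingTheory.Localization.Integer
import Mathlib.LinearAlgebra.FiniteDimensional.Defs
import Mathlib.LinearAlgebra.Dimension.Free
import Mathlib.RingTheory.Finiteness.Basic
import Mathlib.LinearAlgebra.TensorProduct.Tower
import Mathlib.Algebra.Module.Torsion.Pi

/-! Finite torsion-free modules over a domain embed into a finite free module (helper35). -/

set_option autoImplicit false
universe u v

namespace Groth.Agent.Lib.Helper35

open TensorProduct

/-- the coordinatewise inclusion `Rⁿ → Kⁿ`. -/
noncomputable def piIncl (R : Type u) [CommRing R] (K : Type v) [CommRing K] [Algebra R K] (n : ℕ) :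
    (Fin n → R) →ₗ[R] (Fin n → K) :=
  LinearMap.pi (fun i => (Algebra.linearMap R K) ∘ₗ LinearMap.proj i)

theorem piIncl_apply (R : Type u) [CommRing R] (K : Type v) [CommRing K] [Algebra R K] (n : ℕ)
    (x : Fin n → R) (i : Fin n) : piIncl R K n x i = algebraMap R K (x i) := rfl

theorem piIncl_injective (R : Type u) [CommRing R] (K : Type v) [CommRing K] [Algebra R K]
    (h : Function.Injective (algebraMap R K)) (n : ℕ) : Function.Injective (piIncl R K n) := by
  intro x y hxy
  funext i
  apply h
  have := congrFun hxy i
  simpa [piIncl_apply] using this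

/-- A finite torsion-free module over a domain `R` with an injective `R`-linear map to `Kⁿ`
(`K` the fraction field) admits an injective `R`-linear map to `Rⁿ`. -/
theorem exists_injective_to_free_of_injective_to_frac (R : Type u) [CommRing R] [IsDomain R]
    (M : Type v) [AddCommGroup M] [Module R M] [Module.Finite R M] (n : ℕ)
    (g : M →ₗ[R] (Fin n → FractionRing R)) (hg : Function.Injective g) :
    ∃ f : M →ₗ[R] (Fin n → R), Function.Injective f ∧
      ∃ d : R, d ≠ 0 ∧ ∀ m i, algebraMap R (FractionRing R) (f m i) = d • g m i := by
  classical
  obtain ⟨G, hG⟩ := (Module.finite_def (R := R) (M := M)).mp inferInstance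
  -- the finite set of all coordinates of generators
  let T : Finset (FractionRing R) := G.biUnion (fun m => Finset.univ.image (fun i => g m i))
  obtain ⟨d, hd⟩ := IsLocalization.exist_integer_multiples_of_finset (nonZeroDivisors R) T
  have hd0 : (d : R) ≠ 0 := nonZeroDivisors.ne_zero d.2
  let j := piIncl R (FractionRing R) n
  have hj : Function.Injective j := piIncl_injective R _ (IsFractionRing.injective R _) n
  let g' : M →ₗ[R] (Fin n → FractionRing R) := (d : R) • g
  have hrange : ∀ m, g' m ∈ LinearMap.range j := by
    intro m
    have hm : m ∈ Submodule.span R (G : Set M) := by rw [hG]; trivial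
    induction hm using Submodule.span_induction with
    | mem x hx =>
      have : ∀ i, ∃ r : R, algebraMap R (FractionRing R) r = (d : R) • g x i := by
        intro i
        have hmem : g x i ∈ T := by
          simp only [T, Finset.mem_biUnion, Finset.mem_image, Finset.mem_univ, true_and]
          exact ⟨x, hx, i, rfl⟩
        exact hd _ hmem
      choose r hr using this
      refine ⟨r, ?_⟩
      funext i
      simp [j, piIncl_apply, hr, g']
    | zero => simp
    | add x y _ _ hx hy => rw [map_add]; exact Submodule.add_mem _ hx hy
    | smul a x _ hx => rw [map_smul]; exact Submodule.smul_mem _ _ hx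
  let f : M →ₗ[R] (Fin n → R) :=
    (LinearEquiv.ofInjective j hj).symm.toLinearMap ∘ₗ LinearMap.codRestrict (LinearMap.range j) g' hrange
  have hf : ∀ m, j (f m) = g' m := by
    intro m
    have := (LinearEquiv.ofInjective j hj).apply_symm_apply ⟨g' m, hrange m⟩
    exact congrArg Subtype.val this
  refine ⟨f, ?_, (d : R), hd0, ?_⟩
  · intro x y hxy
    apply hg
    have h1 : g' x = g' y := by rw [← hf, ← hf, hxy]
    have h2 : (d : R) • g x = (d : R) • g y := h1
    exact (smul_right_inj hd0).mp h2
  · intro m i
    have := congrFun (hf m) i
    simpa [j, piIncl_apply, g'] using this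

/-- A finite torsion-free module over a domain embeds into a finite free module. -/
theorem exists_injective_to_free (R : Type u) [CommRing R] [IsDomain R]
    (M : Type v) [AddCommGroup M] [Module R M] [Module.Finite R M] [Module.IsTorsionFree R M] :
    ∃ (n : ℕ) (f : M →ₗ[R] (Fin n → R)), Function.Injective f := by
  let K := FractionRing R
  let V := K ⊗[R] M
  let ι : M →ₗ[R] V := TensorProduct.mk R K M 1
  have hι : Function.Injective ι := mk_fractionRing_injective R M
  have : Module.Finite K V := inferInstance
  let b := Module.finBasis K V
  let e : V ≃ₗ[K] (Fin (Module.finrank K V) → K) := b.equivFun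
  let g : M →ₗ[R] (Fin (Module.finrank K V) → K) := (e.toLinearMap.restrictScalars R) ∘ₗ ι
  have hg : Function.Injective g := e.injective.comp hι
  obtain ⟨f, hf, -⟩ := exists_injective_to_free_of_injective_to_frac R M _ g hg
  exact ⟨_, f, hf⟩

end Groth.Agent.Lib.Helper35
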