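import Groth.Agent.Lib.Helper35.RegSlice7

set_option autoImplicit false
set_option linter.style.haveILetI false
set_option maxHeartbeats 800000
universe u

namespace Groth.Agent.Lib.Helper35.RegSlice8

open TensorProduct
open scoped Pointwise
open RingTheory.Sequence
open Groth.Agent.Lib.Helper35.RegSlice1
open Groth.Agent.Lib.Helper35.RegSlice2
open Groth.Agent.Lib.Helper35.RegSlice7

section Quot

variable {B : Type*} [CommRing B]

theorem map_mk_isPrime (q : Ideal B) [q.IsPrime] (g : B) (hg : g ∈ q) :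
    (q.map (Ideal.Quotient.mk (Ideal.span {g}))).IsPrime := by
  have hπs : Function.Surjective (Ideal.Quotient.mk (Ideal.span {g})) :=
    Ideal.Quotient.mk_surjective
  have hker : RingHom.ker (Ideal.Quotient.mk (Ideal.span {g})) ≤ q := by
    rw [Ideal.mk_ker, Ideal.span_le]
    simpa using hg
  exact Ideal.map_isPrime_of_surjective hπs hker

theorem comap_map_mk (q : Ideal B) (g : B) (hg : g ∈ q) :
    (q.map (Ideal.Quotient.mk (Ideal.span {g}))).comap (Ideal.Quotient.mk (Ideal.span {g})) = q := by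
  have hπs : Function.Surjective (Ideal.Quotient.mk (Ideal.span {g})) :=
    Ideal.Quotient.mk_surjective
  have hker : RingHom.ker (Ideal.Quotient.mk (Ideal.span {g})) ≤ q := by
    rw [Ideal.mk_ker, Ideal.span_le]
    simpa using hg
  rw [Ideal.comap_map_of_surjective _ hπs, ← RingHom.ker_eq_comap_bot]
  exact sup_eq_left.mpr hker

theorem map_primeCompl (q : Ideal B) [q.IsPrime] (g : B) (hg : g ∈ q)
    [(q.map (Ideal.Quotient.mk (Ideal.span {g}))).IsPrime] :
    q.primeCompl.map (Ideal.Quotient.mk (Ideal.span {g})) =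
      (q.map (Ideal.Quotient.mk (Ideal.span {g}))).primeCompl := by
  ext x
  constructor
  · rintro ⟨b, hb, rfl⟩
    intro hx
    have : b ∈ (q.map (Ideal.Quotient.mk (Ideal.span {g}))).comap
        (Ideal.Quotient.mk (Ideal.span {g})) := hx
    rw [comap_map_mk q g hg] at this
    exact hb this
  · intro hx
    obtain ⟨b, rfl⟩ := Ideal.Quotient.mk_surjective x
    exact ⟨b, fun hb => hx (Ideal.mem_map_of_mem _ hb), rfl⟩

/-- The algebra structure of `S/(g)` over `B/(g)`. -/
@[reducible] noncomputable def quotAlg {S : Type*} [CommRing S] [Algebra B S] (g : B) :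
    Algebra (B ⧸ Ideal.span {g}) (S ⧸ Ideal.span {algebraMap B S g}) :=
  (Ideal.quotientMap (Ideal.span {algebraMap B S g}) (algebraMap B S)
    (by
      rw [Ideal.span_le]
      intro x hx
      rw [Set.mem_singleton_iff] at hx
      subst hx
      exact Ideal.subset_span rfl)).toAlgebra

theorem quotAlg_mk {S : Type*} [CommRing S] [Algebra B S] (g : B) (b : B) :
    letI := quotAlg (S := S) g
    algebraMap (B ⧸ Ideal.span {g}) (S ⧸ Ideal.span {algebraMap B S g})
      (Ideal.Quotient.mk _ b) = Ideal.Quotient.mk _ (algebraMap B S b) := rfl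

theorem isLocalization_quot {S : Type*} [CommRing S] [Algebra B S] (M : Submonoid B)
    [IsLocalization M S] (g : B) :
    letI := quotAlg (S := S) g
    IsLocalization (M.map (Ideal.Quotient.mk (Ideal.span {g})))
      (S ⧸ Ideal.span {algebraMap B S g}) := by
  letI := quotAlg (S := S) g
  refine IsLocalization.of_surjective M S (Ideal.Quotient.mk (Ideal.span {g}))
    Ideal.Quotient.mk_surjective (Ideal.Quotient.mk (Ideal.span {algebraMap B S g}))
    Ideal.Quotient.mk_surjective (RingHom.ext fun _ => rfl) ?_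
  rw [Ideal.mk_ker, Ideal.mk_ker, Ideal.map_span, Set.image_singleton]

end Quot


section Stalk

variable {A B : Type u} [CommRing A] [CommRing B] [Algebra A B]
    (p : Ideal A) [p.IsPrime] (q : Ideal B) [q.IsPrime] [q.LiesOver p]
    (Ap : Type u) [CommRing Ap] [IsLocalRing Ap] [Algebra A Ap] [IsLocalization.AtPrime Ap p]
    (Bq : Type u) [CommRing Bq] [Algebra B Bq] [IsLocalization.AtPrime Bq q]
    (σ : Ap →+* Bq) (hσ : σ.comp (algebraMap A Ap) = (algebraMap B Bq).comp (algebraMap A B))

include p hσ in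
theorem flat_localizedModule_of_stalk (hflat : σ.Flat) :
    Module.Flat A (LocalizedModule q.primeCompl B) := by
  letI algApBq : Algebra Ap Bq := σ.toAlgebra
  letI algABq : Algebra A Bq := ((algebraMap B Bq).comp (algebraMap A B)).toAlgebra
  haveI : IsScalarTower A B Bq := IsScalarTower.of_algebraMap_eq (fun _ => rfl)
  haveI : IsScalarTower A Ap Bq :=
    IsScalarTower.of_algebraMap_eq (fun a => (congr($hσ a)).symm)
  haveI : Module.Flat Ap Bq := hflat
  haveI : Module.Flat A Ap := IsLocalization.flat Ap p.primeCompl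
  haveI : Module.Flat A Bq := Module.Flat.trans A Ap Bq
  exact Module.Flat.of_linearEquiv
    ((IsLocalizedModule.iso q.primeCompl (Algebra.linearMap B Bq)).restrictScalars A)

include p hσ in
theorem flat_quot_stalk (g : B)
    (hΩq : Module.Flat A (LocalizedModule q.primeCompl (QuotSMulTop g B))) :
    ((Ideal.Quotient.mk (Ideal.span {algebraMap B Bq g})).comp σ).Flat := by
  letI algApBq : Algebra Ap Bq := σ.toAlgebra
  letI algABq : Algebra A Bq := ((algebraMap B Bq).comp (algebraMap A B)).toAlgebra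
  haveI : IsScalarTower A B Bq := IsScalarTower.of_algebraMap_eq (fun _ => rfl)
  haveI : IsScalarTower A Ap Bq :=
    IsScalarTower.of_algebraMap_eq (fun a => (congr($hσ a)).symm)
  obtain ⟨ℓ, hℓ⟩ := exists_isLocalizedModule_quot (B' := Bq) q.primeCompl g
  have h1 : Module.Flat A (Bq ⧸ Ideal.span {algebraMap B Bq g}) :=
    Module.Flat.of_linearEquiv
      ((IsLocalizedModule.iso q.primeCompl ℓ).symm.restrictScalars A)
  have h2 : Module.Flat Ap (Bq ⧸ Ideal.span {algebraMap B Bq g}) :=
    (Module.flat_iff_of_isLocalization (R := A) (M := Bq ⧸ Ideal.span {algebraMap B Bq g})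
      Ap p.primeCompl).2 h1
  have h3 : ((Ideal.Quotient.mk (Ideal.span {algebraMap B Bq g})).comp σ).toAlgebra =
      (inferInstance : Algebra Ap (Bq ⧸ Ideal.span {algebraMap B Bq g})) :=
    Algebra.algebra_ext _ _ (fun r => rfl)
  show @Module.Flat Ap (Bq ⧸ Ideal.span {algebraMap B Bq g}) _ _
    (((Ideal.Quotient.mk (Ideal.span {algebraMap B Bq g})).comp σ).toAlgebra).toModule
  rw [h3]
  exact h2

end Stalk


section Reg

theorem smul_top_eq_restrictScalars {R : Type*} [CommRing R] (I : Ideal R) (g : R) :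
    (g • (⊤ : Submodule R (R ⧸ I))) =
      ((Ideal.span {g}).map (Ideal.Quotient.mk I)).restrictScalars R := by
  ext x
  rw [Submodule.mem_smul_pointwise_iff_exists, Submodule.restrictScalars_mem, Ideal.map_span,
    Set.image_singleton, Ideal.mem_span_singleton']
  constructor
  · rintro ⟨y, -, rfl⟩
    refine ⟨y, ?_⟩
    rw [mul_comm]
    obtain ⟨y, rfl⟩ := Ideal.Quotient.mk_surjective y
    rfl
  · rintro ⟨y, rfl⟩
    refine ⟨y, trivial, ?_⟩
    rw [mul_comm]
    obtain ⟨y, rfl⟩ := Ideal.Quotient.mk_surjective y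
    rfl

/-- Passing a weakly regular sequence on `R/I` to the quotient ring `R/(g)`. -/
theorem isWeaklyRegular_quot {R : Type*} [CommRing R] (I : Ideal R) (g : R) (t : List R)
    (K : Ideal (R ⧸ Ideal.span {g})) (hK : K = I.map (Ideal.Quotient.mk (Ideal.span {g})))
    (h : IsWeaklyRegular (R ⧸ I) (g :: t)) :
    IsWeaklyRegular ((R ⧸ Ideal.span {g}) ⧸ K) (t.map (Ideal.Quotient.mk (Ideal.span {g}))) := by
  subst hK
  obtain ⟨-, h2⟩ := (isWeaklyRegular_cons_iff (R ⧸ I) g t).1 h
  refine (isWeaklyRegular_map_algebraMap_iff (R ⧸ Ideal.span {g})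
    ((R ⧸ Ideal.span {g}) ⧸ I.map (Ideal.Quotient.mk (Ideal.span {g}))) t).2 ?_
  let e1 : QuotSMulTop g (R ⧸ I) ≃ₗ[R]
      ((R ⧸ I) ⧸ ((Ideal.span {g}).map (Ideal.Quotient.mk I)).restrictScalars R) :=
    Submodule.quotEquivOfEq _ _ (smul_top_eq_restrictScalars I g)
  let e2 : ((R ⧸ I) ⧸ ((Ideal.span {g}).map (Ideal.Quotient.mk I)).restrictScalars R) ≃ₗ[R]
      ((R ⧸ I) ⧸ ((Ideal.span {g}).map (Ideal.Quotient.mk I))) :=
    Submodule.Quotient.restrictScalarsEquiv R _
  let e3 : ((R ⧸ I) ⧸ ((Ideal.span {g}).map (Ideal.Quotient.mk I))) ≃ₗ[R]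
      ((R ⧸ Ideal.span {g}) ⧸ I.map (Ideal.Quotient.mk (Ideal.span {g}))) :=
    (DoubleQuot.quotQuotEquivCommₐ R I (Ideal.span {g})).toLinearEquiv
  exact (LinearEquiv.isWeaklyRegular_congr (e1 ≪≫ₗ e2 ≪≫ₗ e3) t).1 h2

theorem flat_quot_of_eq {A R : Type*} [CommRing A] [CommRing R] [Algebra A R] {I I' : Ideal R}
    (h : I = I') (hf : Module.Flat A (R ⧸ I)) : Module.Flat A (R ⧸ I') := by
  subst h
  exact hf

theorem flat_quot_bot {A R : Type*} [CommRing A] [CommRing R] [Algebra A R]
    (hf : Module.Flat A R) : Module.Flat A (R ⧸ (⊥ : Ideal R)) :=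
  Module.Flat.of_linearEquiv (AlgEquiv.quotientBot A R).toLinearEquiv

/-- Reassembling the conclusion from the quotient ring. -/
theorem conclude {A R : Type*} [CommRing A] [CommRing R] [Algebra A R] (g : R) (t : List R)
    (hnzd : g ∈ nonZeroDivisors R) (hflat0 : Module.Flat A R)
    (h : IsWeaklyRegular (R ⧸ Ideal.span {g}) (t.map (Ideal.Quotient.mk (Ideal.span {g}))))
    (hfl : ∀ j : ℕ, Module.Flat A ((R ⧸ Ideal.span {g}) ⧸
      Ideal.ofList ((t.map (Ideal.Quotient.mk (Ideal.span {g}))).take j))) :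
    IsWeaklyRegular R (g :: t) ∧ ∀ j : ℕ, Module.Flat A (R ⧸ Ideal.ofList ((g :: t).take j)) := by
  constructor
  · refine (isWeaklyRegular_cons_iff R g t).2 ⟨?_, ?_⟩
    · rw [mem_nonZeroDivisors_iff_right] at hnzd
      intro x y hxy
      simp only [smul_eq_mul] at hxy
      have : (x - y) * g = 0 := by rw [sub_mul, mul_comm x, mul_comm y, hxy, sub_self]
      exact sub_eq_zero.1 (hnzd _ this)
    · have h1 := (isWeaklyRegular_map_algebraMap_iff (R ⧸ Ideal.span {g})
        (R ⧸ Ideal.span {g}) t).1 h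
      exact (LinearEquiv.isWeaklyRegular_congr
        (Submodule.quotEquivOfEq _ _ (smul_top_eq_span' g)) t).2 h1
  · intro j
    cases j with
    | zero =>
      rw [List.take_zero]
      exact flat_quot_of_eq Ideal.ofList_nil.symm (flat_quot_bot hflat0)
    | succ k =>
      rw [List.take_succ_cons]
      have h1 := hfl k
      rw [← List.map_take] at h1
      have h2 : Module.Flat A ((R ⧸ Ideal.span {g}) ⧸
          (Ideal.ofList (t.take k)).map (Ideal.Quotient.mkₐ A (Ideal.span {g}))) := by
        refine flat_quot_of_eq ?_ h1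
        exact (Ideal.map_ofList (Ideal.Quotient.mk (Ideal.span {g})) (t.take k)).symm
      have h3 : Module.Flat A (R ⧸ (Ideal.span {g} ⊔ Ideal.ofList (t.take k))) :=
        Module.Flat.of_linearEquiv
          (DoubleQuot.quotQuotEquivQuotSupₐ A (Ideal.span {g})
            (Ideal.ofList (t.take k))).symm.toLinearEquiv
      exact flat_quot_of_eq (Ideal.ofList_cons g (t.take k)).symm h3

end Reg


section Main

/-- The conclusion of the iterated slicing lemma. -/
def Good (A : Type u) [CommRing A] (B : Type u) [CommRing B] [Algebra A B] (q : Ideal B)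
    (gs : List B) : Prop :=
  ∃ w : B, w ∉ q ∧ ∀ w' : B, w ∣ w' → ∀ (B' : Type u) [CommRing B'] [Algebra B B'] [Algebra A B']
    [IsScalarTower A B B'] [IsLocalization.Away w' B'],
    IsWeaklyRegular B' (gs.map (algebraMap B B')) ∧
      ∀ j : ℕ, Module.Flat A (B' ⧸ Ideal.ofList ((gs.map (algebraMap B B')).take j))

theorem iter_slice {A : Type u} [CommRing A] (p : Ideal A) [p.IsPrime]
    (Ap : Type u) [CommRing Ap] [IsLocalRing Ap] [Algebra A Ap] [IsLocalization.AtPrime Ap p]
    (n : ℕ) :
    ∀ (B : Type u) [CommRing B] [Algebra A B] [Algebra.FinitePresentation A B]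
      (q : Ideal B) [q.IsPrime] [q.LiesOver p]
      (Bq : Type u) [CommRing Bq] [Algebra B Bq] [IsLocalization.AtPrime Bq q]
      (σ : Ap →+* Bq) (_ : σ.comp (algebraMap A Ap) = (algebraMap B Bq).comp (algebraMap A B))
      (_ : σ.Flat) (gs : List B) (_ : gs.length = n) (_ : ∀ g ∈ gs, g ∈ q)
      (_ : IsWeaklyRegular (Bq ⧸ (IsLocalRing.maximalIdeal Ap).map σ)
        (gs.map (algebraMap B Bq))),
      Good A B q gs := by
  induction n with
  | zero =>
    intro B _ _ _ q _ _ Bq _ _ _ σ hσ hflat gs hlen hmem hreg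
    obtain rfl : gs = [] := List.length_eq_zero_iff.1 hlen
    have hflat' := flat_localizedModule_of_stalk p q Ap Bq σ hσ hflat
    obtain ⟨w₀, hw₀q, hΩ₀⟩ := exists_flat_away q hflat'
    refine ⟨w₀, hw₀q, ?_⟩
    intro w' hww' B' _ _ _ _ _
    have hfl0 : Module.Flat A B' := by
      refine flat_of_forall (A := A) w' ?_ B'
      intro P hP
      apply hΩ₀
      intro hw
      obtain ⟨c, rfl⟩ := hww'
      exact hP (Ideal.mul_mem_right _ _ hw)
    refine ⟨by simp, ?_⟩
    intro j
    rw [List.map_nil, List.take_nil]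
    exact flat_quot_of_eq Ideal.ofList_nil.symm (flat_quot_bot hfl0)
  | succ n ih =>
    intro B _ _ _ q _ _ Bq _ _ _ σ hσ hflat gs hlen hmem hreg
    obtain ⟨g, t, rfl⟩ : ∃ g t, gs = g :: t := by
      cases gs with
      | nil => simp at hlen
      | cons g t => exact ⟨g, t, rfl⟩
    have hgq : g ∈ q := hmem g (by simp)
    have htq : ∀ x ∈ t, x ∈ q := fun x hx => hmem x (by simp [hx])
    have htlen : t.length = n := by simpa using hlen
    have hflat' := flat_localizedModule_of_stalk p q Ap Bq σ hσ hflat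
    obtain ⟨w₀, hw₀q, hΩ₀⟩ := exists_flat_away q hflat'
    -- the slice for `g`
    rw [List.map_cons] at hreg
    have hreg1 : Ideal.Quotient.mk ((IsLocalRing.maximalIdeal Ap).map σ) (algebraMap B Bq g) ∈
        nonZeroDivisors (Bq ⧸ (IsLocalRing.maximalIdeal Ap).map σ) := by
      obtain ⟨h1, -⟩ := (isWeaklyRegular_cons_iff _ _ _).1 hreg
      rw [mem_nonZeroDivisors_iff_right]
      intro x hx
      apply h1
      simp only [smul_zero]
      rw [← hx, mul_comm]
      obtain ⟨x, rfl⟩ := Ideal.Quotient.mk_surjective x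
      rfl
    obtain ⟨w₁, hw₁q, hkill, hΩ₁⟩ :=
      exists_slice_stalk_intrinsic p q Ap Bq σ hσ hflat g hreg1
    -- the quotient ring
    haveI hqC : (q.map (Ideal.Quotient.mk (Ideal.span {g}))).IsPrime := map_mk_isPrime q g hgq
    haveI : Algebra.FinitePresentation A (B ⧸ Ideal.span {g}) :=
      Algebra.FinitePresentation.quotient (Submodule.fg_span_singleton g)
    haveI : (q.map (Ideal.Quotient.mk (Ideal.span {g}))).LiesOver p := by
      constructor
      have h1 : algebraMap A (B ⧸ Ideal.span {g}) =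
          (Ideal.Quotient.mk (Ideal.span {g})).comp (algebraMap A B) := rfl
      rw [Ideal.under, h1, ← Ideal.comap_comap, comap_map_mk q g hgq]
      exact Ideal.LiesOver.over (p := p) (P := q)
    letI algC : Algebra (B ⧸ Ideal.span {g}) (Bq ⧸ Ideal.span {algebraMap B Bq g}) :=
      quotAlg (S := Bq) g
    haveI : IsLocalization.AtPrime (Bq ⧸ Ideal.span {algebraMap B Bq g})
        (q.map (Ideal.Quotient.mk (Ideal.span {g}))) := by
      have h1 := isLocalization_quot (S := Bq) q.primeCompl g
      rw [map_primeCompl q g hgq] at h1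
      exact h1
    have hσC : ((Ideal.Quotient.mk (Ideal.span {algebraMap B Bq g})).comp σ).comp
        (algebraMap A Ap) = (algebraMap (B ⧸ Ideal.span {g})
          (Bq ⧸ Ideal.span {algebraMap B Bq g})).comp (algebraMap A (B ⧸ Ideal.span {g})) := by
      rw [RingHom.comp_assoc, hσ]
      rfl
    have hflatC := flat_quot_stalk p q Ap Bq σ hσ g (hΩ₁ ⟨q, inferInstance⟩ hw₁q)
    have hregC : IsWeaklyRegular ((Bq ⧸ Ideal.span {algebraMap B Bq g}) ⧸
        (IsLocalRing.maximalIdeal Ap).map
          ((Ideal.Quotient.mk (Ideal.span {algebraMap B Bq g})).comp σ))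
        ((t.map (Ideal.Quotient.mk (Ideal.span {g}))).map
          (algebraMap (B ⧸ Ideal.span {g}) (Bq ⧸ Ideal.span {algebraMap B Bq g}))) := by
      have h1 := isWeaklyRegular_quot ((IsLocalRing.maximalIdeal Ap).map σ) (algebraMap B Bq g)
        (t.map (algebraMap B Bq))
        ((IsLocalRing.maximalIdeal Ap).map
          ((Ideal.Quotient.mk (Ideal.span {algebraMap B Bq g})).comp σ))
        (Ideal.map_map _ _).symm hreg
      rw [List.map_map] at h1 ⊢
      exact h1
    obtain ⟨wC, hwCq, hC⟩ := ih (B ⧸ Ideal.span {g}) (q.map (Ideal.Quotient.mk (Ideal.span {g})))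
      (Bq ⧸ Ideal.span {algebraMap B Bq g})
      ((Ideal.Quotient.mk (Ideal.span {algebraMap B Bq g})).comp σ) hσC hflatC
      (t.map (Ideal.Quotient.mk (Ideal.span {g}))) (by simpa using htlen)
      (by
        intro x hx
        obtain ⟨b, hb, rfl⟩ := List.mem_map.1 hx
        exact Ideal.mem_map_of_mem _ (htq b hb)) hregC
    obtain ⟨w₂, rfl⟩ := Ideal.Quotient.mk_surjective wC
    have hw₂q : w₂ ∉ q := fun h => hwCq (Ideal.mem_map_of_mem _ h)
    refine ⟨w₀ * w₁ * w₂, ?_, ?_⟩
    · intro h
      rcases Ideal.IsPrime.mem_or_mem inferInstance h with h | h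
      · rcases Ideal.IsPrime.mem_or_mem inferInstance h with h | h
        · exact hw₀q h
        · exact hw₁q h
      · exact hw₂q h
    intro w' hww' B' _ _ _ _ _
    have hw₀w' : w₀ ∣ w' := dvd_trans (Dvd.intro (w₁ * w₂) (by ring)) hww' 
    have hw₁w' : w₁ ∣ w' := dvd_trans (Dvd.intro (w₀ * w₂) (by ring)) hww'
    have hw₂w' : w₂ ∣ w' := dvd_trans (Dvd.intro (w₀ * w₁) (by ring)) hww'
    have hfl0 : Module.Flat A B' := by
      refine flat_of_forall (A := A) w' ?_ B'
      intro P hP
      apply hΩ₀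
      intro hw
      obtain ⟨c, rfl⟩ := hw₀w'
      exact hP (Ideal.mul_mem_right _ _ hw)
    have hnzd : algebraMap B B' g ∈ nonZeroDivisors B' := by
      apply mem_nonZeroDivisors_of_kills w' g
      intro b hb
      obtain ⟨m, hm⟩ := hkill b hb
      obtain ⟨c, rfl⟩ := hw₁w'
      exact ⟨m, by rw [mul_pow, mul_assoc, mul_comm (c ^ m), ← mul_assoc, hm, zero_mul]⟩
    -- the quotient of the localization
    letI algC' : Algebra (B ⧸ Ideal.span {g}) (B' ⧸ Ideal.span {algebraMap B B' g}) :=
      quotAlg (S := B') g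
    haveI : IsScalarTower A (B ⧸ Ideal.span {g}) (B' ⧸ Ideal.span {algebraMap B B' g}) :=
      IsScalarTower.of_algebraMap_eq (fun a => by
        show Ideal.Quotient.mk _ (algebraMap A B' a) =
          Ideal.Quotient.mk _ (algebraMap B B' (algebraMap A B a))
        rw [← IsScalarTower.algebraMap_apply])
    haveI : IsLocalization.Away (Ideal.Quotient.mk (Ideal.span {g}) w')
        (B' ⧸ Ideal.span {algebraMap B B' g}) := by
      have h1 := isLocalization_quot (S := B') (Submonoid.powers w') g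
      rw [Submonoid.map_powers] at h1
      exact h1
    obtain ⟨hC1, hC2⟩ := hC (Ideal.Quotient.mk (Ideal.span {g}) w')
      (map_dvd (Ideal.Quotient.mk (Ideal.span {g})) hw₂w')
      (B' ⧸ Ideal.span {algebraMap B B' g})
    have hlist : (t.map (Ideal.Quotient.mk (Ideal.span {g}))).map
        (algebraMap (B ⧸ Ideal.span {g}) (B' ⧸ Ideal.span {algebraMap B B' g})) =
        (t.map (algebraMap B B')).map (Ideal.Quotient.mk (Ideal.span {algebraMap B B' g})) := by
      rw [List.map_map, List.map_map]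
      rfl
    rw [hlist] at hC1 hC2
    rw [List.map_cons]
    exact conclude (algebraMap B B' g) (t.map (algebraMap B B')) hnzd hfl0 hC1 hC2

end Main

end Groth.Agent.Lib.Helper35.RegSlice8
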