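import Groth.Agent.Lib.Helper35.FiberSmoothRing
import Groth.Agent.Lib.Helper35.FiberStalk
import Mathlib.AlgebraicGeometry.Morphisms.Smooth
import Mathlib.AlgebraicGeometry.Morphisms.Flat

set_option autoImplicit false
set_option maxHeartbeats 400000
set_option backward.isDefEq.respectTransparency.types false
universe u
open CategoryTheory CategoryTheory.Limits AlgebraicGeometry TopologicalSpace

namespace Groth.Agent.Lib.Helper35.FiberSmooth

open IsLocalRing

/-- presentation of the stalk map of a morphism locally of finite presentation. -/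
theorem exists_presentation_stalkMap {X Y : Scheme.{u}} (f : X ⟶ Y) [LocallyOfFinitePresentation f]
    (x : X) :
    ∃ (P : Type u) (_ : CommRing P) (_ : IsLocalRing P)
      (_ : Algebra (Y.presheaf.stalk (f x)) P) (σ : P →+* X.presheaf.stalk x),
      σ.comp (algebraMap (Y.presheaf.stalk (f x)) P) = (f.stalkMap x).hom ∧
      Function.Surjective σ ∧ (RingHom.ker σ).FG ∧
      Algebra.FormallySmooth (Y.presheaf.stalk (f x)) P ∧
      Module.Free P Ω[P⁄(Y.presheaf.stalk (f x))] ∧
      Module.Finite P Ω[P⁄(Y.presheaf.stalk (f x))] := by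
  obtain ⟨_, ⟨U, hU, rfl⟩, hxU, -⟩ :=
    Y.isBasis_affineOpens.exists_subset_of_mem_open (Set.mem_univ (f x)) isOpen_univ
  obtain ⟨_, ⟨V, hV, rfl⟩, hxV, hVU⟩ :=
    X.isBasis_affineOpens.exists_subset_of_mem_open hxU (U.2.preimage f.continuous)
  have hfp := f.finitePresentation_appLE hU hV hVU
  letI : Algebra Γ(Y, U) Γ(X, V) := (f.appLE U V hVU).hom.toAlgebra
  haveI : Algebra.FinitePresentation Γ(Y, U) Γ(X, V) := hfp
  let p := (hU.primeIdealOf ⟨f x, hVU hxV⟩).asIdeal
  let q := (hV.primeIdealOf ⟨x, hxV⟩).asIdeal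
  haveI : q.LiesOver p :=
    ⟨congr($(IsAffineOpen.comap_primeIdealOf_appLE U hU V hV hVU hxV).1).symm⟩
  letI := Y.presheaf.algebra_section_stalk ⟨f x, hVU hxV⟩
  haveI := hU.isLocalization_stalk ⟨f x, hVU hxV⟩
  letI := X.presheaf.algebra_section_stalk ⟨x, hxV⟩
  haveI := hV.isLocalization_stalk ⟨x, hxV⟩
  refine Groth.Agent.Lib.Helper35.FiberSmoothRing.exists_presentation (B₀ := Γ(Y, U))
    (C₀ := Γ(X, V)) (B := Y.presheaf.stalk (f x)) (C := X.presheaf.stalk x) p q
    (f.stalkMap x).hom ?_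
  ext a
  simp only [RingHom.algebraMap_toAlgebra, Scheme.Hom.germ_stalkMap_apply, Scheme.Hom.appLE,
    homOfLE_leOfHom, CommRingCat.hom_comp, RingHom.coe_comp, Function.comp_apply,
    X.presheaf.germ_res_apply]

/-- **Stalk-level fibre criterion**: in a commutative square `f' ≫ ιY = ιX ≫ f` over `S` where the
stalk maps of `ιX`, `ιY` are the quotients by the maximal ideal of the base point, `f ≫ g` is flat
at the point and `f'` is formally smooth at `x'`, the morphism `f` is formally smooth at `ιX x'`. -/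
theorem formallySmooth_stalkMap_of_fibre {X' Y' X Y S : Scheme.{u}} (ιX : X' ⟶ X) (ιY : Y' ⟶ Y)
    (f' : X' ⟶ Y') (f : X ⟶ Y) (g : Y ⟶ S) [LocallyOfFinitePresentation f]
    (sq : f' ≫ ιY = ιX ≫ f) (x' : X')
    (hflat : ((f ≫ g).stalkMap (ιX x')).hom.Flat)
    (hXsurj : Function.Surjective (ιX.stalkMap x').hom)
    (hXker : RingHom.ker (ιX.stalkMap x').hom =
      (maximalIdeal (S.presheaf.stalk ((f ≫ g) (ιX x')))).map ((f ≫ g).stalkMap (ιX x')).hom)
    (hYsurj : Function.Surjective (ιY.stalkMap (f' x')).hom)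
    (hYker : RingHom.ker (ιY.stalkMap (f' x')).hom =
      (maximalIdeal (S.presheaf.stalk (g (ιY (f' x'))))).map (g.stalkMap (ιY (f' x'))).hom)
    (hsm : (f'.stalkMap x').hom.FormallySmooth) :
    (f.stalkMap (ιX x')).hom.FormallySmooth := by
  have key : ∀ (F : X' ⟶ Y) (e : F = ιX ≫ f)
      (πB : Y.presheaf.stalk (F x') ⟶ Y'.presheaf.stalk (f' x'))
      (_ : Function.Surjective πB.hom)
      (_ : RingHom.ker πB.hom =
        (maximalIdeal (S.presheaf.stalk (g (F x')))).map (g.stalkMap (F x')).hom)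
      (_ : πB ≫ f'.stalkMap x' = F.stalkMap x'),
      (f.stalkMap (ιX x')).hom.FormallySmooth := by
    rintro F rfl πB hπBsurj hπBker hcomp
    rw [Scheme.Hom.stalkMap_comp] at hcomp
    obtain ⟨P, _, _, _, σ, hσβ, hσ, hfg, _, _, _⟩ := exists_presentation_stalkMap f (ιX x')
    have hgf : ((f ≫ g).stalkMap (ιX x')).hom =
        (f.stalkMap (ιX x')).hom.comp (g.stalkMap (f (ιX x'))).hom := by
      rw [Scheme.Hom.stalkMap_comp]
      rfl
    haveI : IsLocalHom ((f.stalkMap (ιX x')).hom.comp (g.stalkMap (f (ιX x'))).hom) :=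
      RingHom.isLocalHom_comp _ _
    refine Groth.Agent.Lib.Helper35.FiberSmoothRing.ring_main
      (A := S.presheaf.stalk (g (f (ιX x')))) (B := Y.presheaf.stalk (f (ιX x')))
      (C := X.presheaf.stalk (ιX x')) (B' := Y'.presheaf.stalk (f' x'))
      (C' := X'.presheaf.stalk x') (P := P)
      (g.stalkMap (f (ιX x'))).hom (f.stalkMap (ιX x')).hom πB.hom (ιX.stalkMap x').hom
      (f'.stalkMap x').hom ?_ hπBsurj hπBker hXsurj ?_ ?_ σ hσβ hσ hfg hsm
    · exact congrArg CommRingCat.Hom.hom hcomp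
    · rw [hXker, hgf]
      rfl
    · rw [← hgf]
      exact hflat
  exact key (f' ≫ ιY) sq (ιY.stalkMap (f' x')) hYsurj hYker (Scheme.Hom.stalkMap_comp f' ιY x').symm

end Groth.Agent.Lib.Helper35.FiberSmooth
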