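import Mathlib.RingTheory.Extension.Cotangent.BaseChange
import Mathlib.RingTheory.Etale.Kaehler
import Mathlib.RingTheory.IsTensorProduct
import Mathlib.RingTheory.Flat.FaithfullyFlat.Basic

set_option autoImplicit false
set_option linter.style.haveILetI false
universe u

namespace Groth.Agent.Lib.Helper35

open TensorProduct Algebra

section H1BaseChange

variable (R S T : Type u) [CommRing R] [CommRing S] [CommRing T] [Algebra R S] [Algebra R T]
  [Module.Flat R T]

attribute [local instance] Algebra.TensorProduct.rightAlgebra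

/-- The `T ⊗[R] S`-linear form of flat base change for `H¹(L_{S/R})`. -/
lemma h1Cotangent_liftBaseChange_bijective :
    Function.Bijective
      ((H1Cotangent.map R T S (T ⊗[R] S)).liftBaseChange (T ⊗[R] S)) := by
  let c : (T ⊗[R] S) ⊗[S] H1Cotangent R S ≃ₗ[T] T ⊗[R] H1Cotangent R S :=
    Algebra.IsPushout.cancelBaseChange R T S (T ⊗[R] S) (H1Cotangent R S)
  let φ := Algebra.tensorH1CotangentOfFlat R S T
  have key : ∀ y : T ⊗[R] H1Cotangent R S,
      (H1Cotangent.map R T S (T ⊗[R] S)).liftBaseChange (T ⊗[R] S) (c.symm y) = φ y := by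
    intro y
    induction y using TensorProduct.induction_on with
    | zero => simp
    | add y₁ y₂ h₁ h₂ => simp only [map_add, h₁, h₂]
    | tmul t h =>
      rw [Algebra.IsPushout.cancelBaseChange_symm_tmul, LinearMap.liftBaseChange_tmul,
        Algebra.tensorH1CotangentOfFlat_tmul, algebraMap_smul]
  have : ⇑((H1Cotangent.map R T S (T ⊗[R] S)).liftBaseChange (T ⊗[R] S)) = φ ∘ c := by
    funext x
    obtain ⟨y, rfl⟩ := c.symm.surjective x
    simp [key]
  rw [this]
  exact φ.bijective.comp c.bijective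

/-- descent of the vanishing of `H¹(L)` along a flat base change followed by localizations. -/
lemma subsingleton_h1Cotangent_of_flat_baseChange
    {A A' : Type u} [CommRing A] [CommRing A']
    [Algebra S A] [Algebra R A] [IsScalarTower R S A] (M : Submonoid S) [IsLocalization M A]
    [Algebra (T ⊗[R] S) A'] [Algebra T A'] [IsScalarTower T (T ⊗[R] S) A']
    (M' : Submonoid (T ⊗[R] S)) [IsLocalization M' A']
    [Algebra S A'] [IsScalarTower S (T ⊗[R] S) A'] [Algebra A A'] [IsScalarTower S A A']
    [Module.FaithfullyFlat A A'] [Subsingleton (H1Cotangent T A')] :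
    Subsingleton (H1Cotangent R A) := by
  let P := T ⊗[R] S
  let H := H1Cotangent R S
  have f1 : A' ⊗[P] H1Cotangent T P ≃ₗ[A'] H1Cotangent T A' :=
    Algebra.tensorH1CotangentOfIsLocalization T A' M'
  have f2 : P ⊗[S] H ≃ₗ[P] H1Cotangent T P :=
    LinearEquiv.ofBijective _ (h1Cotangent_liftBaseChange_bijective R S T)
  have f3 : A' ⊗[P] (P ⊗[S] H) ≃ₗ[A'] A' ⊗[S] H :=
    AlgebraTensorModule.cancelBaseChange S P A' A' H
  have f4 : A' ⊗[A] (A ⊗[S] H) ≃ₗ[A'] A' ⊗[S] H :=
    AlgebraTensorModule.cancelBaseChange S A A' A' H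
  have f5 : A ⊗[S] H ≃ₗ[A] H1Cotangent R A :=
    Algebra.tensorH1CotangentOfIsLocalization R A M
  have h1 : Subsingleton (A' ⊗[P] H1Cotangent T P) := f1.toEquiv.subsingleton
  have h2 : Subsingleton (A' ⊗[P] (P ⊗[S] H)) :=
    (TensorProduct.congr (LinearEquiv.refl P A') f2).toEquiv.subsingleton
  have h3 : Subsingleton (A' ⊗[S] H) := f3.symm.toEquiv.subsingleton
  have h4 : Subsingleton (A' ⊗[A] (A ⊗[S] H)) := f4.toEquiv.subsingleton
  have h5 : Subsingleton (A' ⊗[A] H1Cotangent R A) :=
    (TensorProduct.congr (LinearEquiv.refl A A') f5).symm.toEquiv.subsingleton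
  exact Module.FaithfullyFlat.lTensor_reflects_triviality A A' _

end H1BaseChange

end Groth.Agent.Lib.Helper35
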