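import Groth.Agent.Lib.Helper35.BaseChangeDescent

set_option autoImplicit false
set_option linter.style.haveILetI false
universe u

namespace Groth.Agent.Lib.Helper35

open TensorProduct Algebra

section

variable {R S R' S' : Type u} [CommRing R] [CommRing S] [CommRing R'] [CommRing S']
  [Algebra R S] [Algebra R R'] [Algebra S S'] [Algebra R' S'] [Algebra R S']
  [IsScalarTower R S S'] [IsScalarTower R R' S'] [Algebra.IsPushout R S R' S']

/-- base change + localization for Kähler differentials at primes of a pushout. -/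
lemma nonempty_kaehler_atPrime_baseChange (q : Ideal S) [q.IsPrime] (q' : Ideal S') [q'.IsPrime]
    [q'.LiesOver q] :
    letI := Localization.AtPrime.algebraOfLiesOver q q'
    Nonempty (Localization.AtPrime q' ⊗[Localization.AtPrime q] Ω[Localization.AtPrime q⁄R]
      ≃ₗ[Localization.AtPrime q'] Ω[Localization.AtPrime q'⁄R']) := by
  let Sq := Localization.AtPrime q
  let Sq' := Localization.AtPrime q'
  letI := Localization.AtPrime.algebraOfLiesOver q q'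
  have hP : Algebra.IsPushout R R' S S' := .symm inferInstance
  let e1 : Sq' ⊗[S'] Ω[S'⁄R'] ≃ₗ[Sq'] Ω[Sq'⁄R'] :=
    KaehlerDifferential.tensorKaehlerEquivOfFormallyEtale R' S' Sq'
  let e2 : S' ⊗[S] Ω[S⁄R] ≃ₗ[S'] Ω[S'⁄R'] := KaehlerDifferential.tensorKaehlerEquiv R R' S S'
  let e3 : Sq' ⊗[S'] (S' ⊗[S] Ω[S⁄R]) ≃ₗ[Sq'] Sq' ⊗[S] Ω[S⁄R] :=
    AlgebraTensorModule.cancelBaseChange S S' Sq' Sq' Ω[S⁄R]
  let e4 : Sq' ⊗[Sq] (Sq ⊗[S] Ω[S⁄R]) ≃ₗ[Sq'] Sq' ⊗[S] Ω[S⁄R] :=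
    AlgebraTensorModule.cancelBaseChange S Sq Sq' Sq' Ω[S⁄R]
  let e5 : Sq ⊗[S] Ω[S⁄R] ≃ₗ[Sq] Ω[Sq⁄R] :=
    KaehlerDifferential.tensorKaehlerEquivOfFormallyEtale R S Sq
  exact ⟨(AlgebraTensorModule.congr (LinearEquiv.refl Sq' Sq') e5).symm ≪≫ₗ e4 ≪≫ₗ e3.symm ≪≫ₗ
    (AlgebraTensorModule.congr (LinearEquiv.refl Sq' Sq') e2) ≪≫ₗ e1⟩

end

end Groth.Agent.Lib.Helper35
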