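import Groth.Agent.Lib.Helper35.BaseChangeDescent
import Groth.Agent.Lib.Helper35.BaseChangeDescentH1
import Groth.Agent.Lib.Helper35.BaseChangeDescentKaehler
import Mathlib.RingTheory.Smooth.Basic
import Mathlib.RingTheory.Flat.EquationalCriterion
import Mathlib.RingTheory.Extension.Cotangent.Basic

set_option autoImplicit false
set_option linter.style.haveILetI false
universe u

namespace Groth.Agent.Lib.Helper35

open TensorProduct Algebra

section

variable {R S R' S' : Type u} [CommRing R] [CommRing S] [CommRing R'] [CommRing S']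
  [Algebra R S] [Algebra R R'] [Algebra S S'] [Algebra R' S'] [Algebra R S']
  [IsScalarTower R S S'] [IsScalarTower R R' S'] [Algebra.IsPushout R S R' S']

attribute [local instance] Algebra.TensorProduct.rightAlgebra in
/-- vanishing of `H¹(L)` descends along a base change which is flat at the point. -/
lemma subsingleton_h1Cotangent_atPrime_of_isPushout (p' : Ideal R') [p'.IsPrime]
    (q : Ideal S) [q.IsPrime] (q' : Ideal S') [q'.IsPrime] [q'.LiesOver p'] [q'.LiesOver q]
    [Module.Flat R (Localization.AtPrime p')] [Module.Flat R' (Localization.AtPrime q')]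
    [Algebra.FormallySmooth R' (Localization.AtPrime q')] :
    Subsingleton (H1Cotangent R (Localization.AtPrime q)) := by
  let Rp' := Localization.AtPrime p'
  let Sp' := Localization (algebraMapSubmonoid S' p'.primeCompl)
  let Sq' := Localization.AtPrime q'
  let Sq := Localization.AtPrime q
  let := Localization.AtPrime.algebraOfLiesOver p' q'
  let := Localization.AtPrime.algebraOfLiesOver q q'
  let f : Sp' →ₐ[S'] Sq' := IsLocalization.liftAlgHom (M := algebraMapSubmonoid S' p'.primeCompl)
        (f := Algebra.ofId _ _) (by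
      rintro ⟨_, x, hx, rfl⟩
      simpa using! IsLocalization.map_units (M := q'.primeCompl) Sq' ⟨algebraMap _ _ x,
        by simp_all [q'.over_def p']⟩)
  algebraize [f.toRingHom]
  have hloc : IsLocalization (algebraMapSubmonoid Sp' q'.primeCompl) Sq' :=
    .isLocalization_of_submonoid_le _ _ (algebraMapSubmonoid S' p'.primeCompl) _
    (by rintro _ ⟨x, hx, rfl⟩; simp_all [q'.over_def p'])
  have h1 : Algebra.IsPushout R' S' Rp' Sp' :=
    Algebra.isPushout_of_isLocalization p'.primeCompl _ _ _
  have hL : Algebra.IsPushout R R' S S' := .symm inferInstance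
  have : IsScalarTower R Rp' Sp' := .to₁₃₄ R R' Rp' Sp'
  have hBig : Algebra.IsPushout R Rp' S Sp' :=
    (Algebra.IsPushout.comp_iff R R' S (S' := S') (T := Rp') (T' := Sp')).mpr h1.symm
  have : IsScalarTower S Sp' Sq' := .to₁₃₄ _ S' _ _
  have : IsScalarTower R' Sp' Sq' := .to₁₃₄ _ S' _ _
  have : IsScalarTower Rp' Sp' Sq' := .of_algebraMap_eq' <| by
    apply IsLocalization.ringHom_ext p'.primeCompl
    simp only [RingHom.comp_assoc, ← IsScalarTower.algebraMap_eq]
  -- the literal tensor product and its algebra structure on `Sq'`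
  let e : Rp' ⊗[R] S ≃ₐ[Rp'] Sp' := Algebra.IsPushout.equiv R Rp' S Sp'
  letI : Algebra (Rp' ⊗[R] S) Sq' := ((algebraMap Sp' Sq').comp e.toRingEquiv.toRingHom).toAlgebra
  have hcomp : ∀ x : Rp' ⊗[R] S, algebraMap (Rp' ⊗[R] S) Sq' x = algebraMap Sp' Sq' (e x) :=
    fun _ => rfl
  haveI : IsScalarTower Rp' (Rp' ⊗[R] S) Sq' := by
    refine IsScalarTower.of_algebraMap_eq (R := Rp') (S := Rp' ⊗[R] S) (A := Sq') fun t => ?_
    change algebraMap Rp' Sq' t = algebraMap Sp' Sq' (e (algebraMap Rp' (Rp' ⊗[R] S) t))
    rw [AlgEquiv.commutes e t, ← IsScalarTower.algebraMap_apply Rp' Sp' Sq']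
  haveI : IsScalarTower S (Rp' ⊗[R] S) Sq' := by
    refine IsScalarTower.of_algebraMap_eq (R := S) (S := Rp' ⊗[R] S) (A := Sq') fun s => ?_
    change algebraMap S Sq' s = algebraMap Sp' Sq' (e (algebraMap S (Rp' ⊗[R] S) s))
    have : e (algebraMap S (Rp' ⊗[R] S) s) = algebraMap S Sp' s := by
      change e ((1 : Rp') ⊗ₜ[R] s) = _
      simp [e, Algebra.IsPushout.equiv_tmul]
    rw [this, ← IsScalarTower.algebraMap_apply S Sp' Sq']
  let M₁ : Submonoid Sp' := algebraMapSubmonoid Sp' q'.primeCompl
  let M₂ : Submonoid (Rp' ⊗[R] S) := M₁.comap e.toRingEquiv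
  haveI : IsLocalization M₂ Sq' :=
    IsLocalization.of_ringEquiv_left (M₁ := M₁) e.toRingEquiv
      (Submonoid.map_comap_eq_of_surjective e.toRingEquiv.surjective M₁) hcomp
  -- faithful flatness of `Sq → Sq'`
  have hS : Module.Flat S Sq' := flat_atPrime_of_isPushout (R := R) p' q'
  have hfl : Module.Flat Sq Sq' :=
    (Module.flat_iff_of_isLocalization Sq q.primeCompl Sq').mpr inferInstance
  have hlocal : IsLocalHom (algebraMap Sq Sq') := by
    change IsLocalHom (Localization.localRingHom q q' (algebraMap S S') Ideal.LiesOver.over)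
    infer_instance
  haveI hff : Module.FaithfullyFlat Sq Sq' := Module.FaithfullyFlat.of_flat_of_isLocalHom
  -- `Sq'` is formally smooth over `Rp'`
  haveI : Algebra.FormallySmooth Rp' Sq' := Algebra.FormallySmooth.of_restrictScalars R' Rp' Sq'
  haveI : Subsingleton (H1Cotangent Rp' Sq') := ((Algebra.formallySmooth_iff Rp' Sq').mp inferInstance).2
  exact subsingleton_h1Cotangent_of_flat_baseChange R S Rp' (A := Sq) (A' := Sq') q.primeCompl M₂

/-- **pointwise descent of smoothness along a base change which is flat at the point**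
(EGA IV 17.7.1 (ii), ring form): in a pushout square `S' = S ⊗[R] R'` with `S` finitely presented
over `R`, if `R'_{p'}` is flat over `R` and `S'_{q'}` is flat and formally smooth over `R'`, then
`S_q` is formally smooth over `R` (`q = q' ∩ S`). -/
lemma formallySmooth_atPrime_of_isPushout [Algebra.FinitePresentation R S] (p' : Ideal R')
    [p'.IsPrime] (q : Ideal S) [q.IsPrime] (q' : Ideal S') [q'.IsPrime] [q'.LiesOver p']
    [q'.LiesOver q]
    [Module.Flat R (Localization.AtPrime p')] [Module.Flat R' (Localization.AtPrime q')]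
    [Algebra.FormallySmooth R' (Localization.AtPrime q')] :
    Algebra.FormallySmooth R (Localization.AtPrime q) := by
  rw [Algebra.formallySmooth_iff]
  refine ⟨?_, subsingleton_h1Cotangent_atPrime_of_isPushout (R := R) (R' := R') p' q q'⟩
  let Sq' := Localization.AtPrime q'
  let Sq := Localization.AtPrime q
  let := Localization.AtPrime.algebraOfLiesOver q q'
  have hS : Module.Flat S Sq' := flat_atPrime_of_isPushout (R := R) p' q'
  have hfl : Module.Flat Sq Sq' :=
    (Module.flat_iff_of_isLocalization Sq q.primeCompl Sq').mpr inferInstance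
  have hlocal : IsLocalHom (algebraMap Sq Sq') := by
    change IsLocalHom (Localization.localRingHom q q' (algebraMap S S') Ideal.LiesOver.over)
    infer_instance
  haveI hff : Module.FaithfullyFlat Sq Sq' := Module.FaithfullyFlat.of_flat_of_isLocalHom
  obtain ⟨e⟩ := nonempty_kaehler_atPrime_baseChange (R := R) (R' := R') q q'
  have hproj : Module.Projective Sq' Ω[Sq'⁄R'] :=
    ((Algebra.formallySmooth_iff R' Sq').mp inferInstance).1
  have h1 : Module.Flat Sq' Ω[Sq'⁄R'] := inferInstance
  have h2 : Module.Flat Sq' (Sq' ⊗[Sq] Ω[Sq⁄R]) := Module.Flat.of_linearEquiv e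
  have h3 : Module.Flat Sq Ω[Sq⁄R] := Module.Flat.of_flat_tensorProduct Sq _ Sq'
  have e5 : Sq ⊗[S] Ω[S⁄R] ≃ₗ[Sq] Ω[Sq⁄R] :=
    KaehlerDifferential.tensorKaehlerEquivOfFormallyEtale R S Sq
  have h4 : Module.FinitePresentation Sq Ω[Sq⁄R] := Module.FinitePresentation.of_equiv e5
  exact Module.Flat.projective_of_finitePresentation

end

end Groth.Agent.Lib.Helper35
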