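import Groth.Agent.Lib.Helper35.EtaleLocal
import Mathlib.AlgebraicGeometry.Morphisms.Etale
import Mathlib.AlgebraicGeometry.Morphisms.Smooth
import Mathlib.AlgebraicGeometry.Morphisms.FormallyUnramified
import Mathlib.AlgebraicGeometry.Noetherian

set_option autoImplicit false
universe u

open AlgebraicGeometry CategoryTheory

namespace Groth.Agent.Lib.Helper35

/-- stalk maps of `j ≫ f` and of `f` for an open immersion `j`. -/
lemma stalkMap_comp_openImmersion_iff {P : ∀ {R S : Type u} [CommRing R] [CommRing S], (R →+* S) → Prop}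
    (hP : RingHom.RespectsIso @P) {U X Y : Scheme.{u}} (j : U ⟶ X) [IsOpenImmersion j] (f : X ⟶ Y)
    (u : U) : P ((j ≫ f).stalkMap u).hom ↔ P (f.stalkMap (j u)).hom := by
  refine Iff.trans ?_ (hP.cancel_right_isIso _ (j.stalkMap u))
  rw [← CommRingCat.hom_comp, ← Scheme.Hom.stalkMap_comp]
  exact Iff.rfl


lemma stalkMap_of_etale_nhd {X Y : Scheme.{u}} (f : X ⟶ Y) (x : X) (U : X.Opens) (hx : x ∈ U)
    [Etale (U.ι ≫ f)] :
    (f.stalkMap x).hom.FormallyUnramified ∧ (f.stalkMap x).hom.FormallySmooth := by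
  constructor
  · exact (stalkMap_comp_openImmersion_iff RingHom.FormallyUnramified.respectsIso U.ι f ⟨x, hx⟩).mp
      (FormallyUnramified.stalkMap (U.ι ≫ f) ⟨x, hx⟩)
  · refine (stalkMap_comp_openImmersion_iff RingHom.FormallySmooth.respectsIso U.ι f ⟨x, hx⟩).mp ?_
    have : (⟨x, hx⟩ : U) ∈ (U.ι ≫ f).smoothLocus := by
      rw [Scheme.Hom.smoothLocus_eq_top]; trivial
    exact this

lemma stalkMap_of_formallyUnramified_nhd {X Y : Scheme.{u}} (f : X ⟶ Y) (x : X) (U : X.Opens) (hx : x ∈ U)
    [FormallyUnramified (U.ι ≫ f)] :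
    (f.stalkMap x).hom.FormallyUnramified :=
  (stalkMap_comp_openImmersion_iff RingHom.FormallyUnramified.respectsIso U.ι f ⟨x, hx⟩).mp
      (FormallyUnramified.stalkMap (U.ι ≫ f) ⟨x, hx⟩)


set_option backward.defeqAttrib.useBackward true in
set_option backward.isDefEq.respectTransparency false in
lemma exists_etale_nhd_of_stalkMap {X Y : Scheme.{u}} (f : X ⟶ Y) [LocallyOfFinitePresentation f]
    (x : X) (h1 : (f.stalkMap x).hom.FormallyUnramified) (h2 : (f.stalkMap x).hom.FormallySmooth) :
    ∃ U : X.Opens, x ∈ U ∧ Etale (U.ι ≫ f) := by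
  obtain ⟨_, ⟨U, hU, rfl⟩, hxU, -⟩ :=
    Y.isBasis_affineOpens.exists_subset_of_mem_open (Set.mem_univ (f x)) isOpen_univ
  obtain ⟨_, ⟨V, hV, rfl⟩, hxV, hVU⟩ :=
    X.isBasis_affineOpens.exists_subset_of_mem_open hxU (U.2.preimage f.continuous)
  have := f.finitePresentation_appLE hU hV hVU
  algebraize [(f.appLE U V hVU).hom]
  have hsm : Algebra.IsSmoothAt Γ(Y, U) (hV.primeIdealOf ⟨x, hxV⟩).asIdeal :=
    (formallySmooth_stalkMap_iff U hU V hV hVU hxV).mp h2
  have hur : Algebra.IsUnramifiedAt Γ(Y, U) (hV.primeIdealOf ⟨x, hxV⟩).asIdeal := by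
    let p := (hU.primeIdealOf ⟨f x, hVU hxV⟩).asIdeal
    let q := (hV.primeIdealOf ⟨x, hxV⟩).asIdeal
    have : q.LiesOver p :=
      ⟨congr($(IsAffineOpen.comap_primeIdealOf_appLE U hU V hV hVU hxV).1).symm⟩
    let := Localization.AtPrime.algebraOfLiesOver p q
    have : Algebra.FormallyUnramified (Localization.AtPrime p) (Localization.AtPrime q) := by
      rw [← RingHom.formallyUnramified_algebraMap]
      exact (RingHom.FormallyUnramified.respectsIso.arrow_mk_iso_iff
        (IsAffineOpen.arrowStalkMapIso f U hU V hV hVU hxV)).mp h1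
    exact Algebra.FormallyUnramified.comp _ (Localization.AtPrime p) _
  have het : Algebra.IsEtaleAt Γ(Y, U) (hV.primeIdealOf ⟨x, hxV⟩).asIdeal :=
    Algebra.FormallyEtale.of_formallyUnramified_and_formallySmooth
  obtain ⟨r, hrx, hr⟩ := Algebra.exists_etale_of_isEtaleAt (R := Γ(Y, U))
    (hV.primeIdealOf ⟨x, hxV⟩).asIdeal
  have hle : X.basicOpen r ≤ f ⁻¹ᵁ U := (X.basicOpen_le r).trans hVU
  refine ⟨X.basicOpen r, ?_, ?_⟩
  · rwa [← PrimeSpectrum.mem_basicOpen, IsAffineOpen.primeIdealOf,
      ← hV.fromSpec_preimage_basicOpen, Scheme.Hom.mem_preimage, ← Scheme.Hom.comp_apply,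
      IsAffineOpen.isoSpec_hom, IsAffineOpen.toSpecΓ_fromSpec] at hrx
  · have H : (f.appLE U (X.basicOpen r) hle).hom.Etale := by
      have := hV.isLocalization_basicOpen r
      rw [← RingHom.etale_algebraMap] at hr
      convert!
        RingHom.Etale.respectsIso.1 _
          (IsLocalization.algEquiv (.powers r) _ Γ(X, X.basicOpen r)).toRingEquiv hr
      ext
      dsimp
      simp only [IsScalarTower.algebraMap_apply Γ(Y, U) Γ(X, V) (Localization _),
        IsLocalization.map_eq]
      simp only [RingHom.algebraMap_toAlgebra, RingHomCompTriple.comp_apply, ← ConcreteCategory.comp_apply,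
        Scheme.Hom.appLE_map]
    have : IsAffine U := hU
    have : IsAffine (X.basicOpen r) := hV.basicOpen r
    have : Etale (f.resLE U (X.basicOpen r) hle) := by
      rw [HasRingHomProperty.iff_of_isAffine (P := @Etale)]
      exact (RingHom.Etale.respectsIso.arrow_mk_iso_iff (arrowResLEAppIso f U _ hle)).mpr H
    rw [← Scheme.Hom.resLE_comp_ι f hle]
    infer_instance


set_option backward.defeqAttrib.useBackward true in
set_option backward.isDefEq.respectTransparency false in
lemma exists_formallyUnramified_nhd_of_stalkMap {X Y : Scheme.{u}} (f : X ⟶ Y) [LocallyOfFiniteType f]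
    (x : X) (h1 : (f.stalkMap x).hom.FormallyUnramified) :
    ∃ U : X.Opens, x ∈ U ∧ FormallyUnramified (U.ι ≫ f) := by
  obtain ⟨_, ⟨U, hU, rfl⟩, hxU, -⟩ :=
    Y.isBasis_affineOpens.exists_subset_of_mem_open (Set.mem_univ (f x)) isOpen_univ
  obtain ⟨_, ⟨V, hV, rfl⟩, hxV, hVU⟩ :=
    X.isBasis_affineOpens.exists_subset_of_mem_open hxU (U.2.preimage f.continuous)
  have := f.finiteType_appLE hU hV hVU
  algebraize [(f.appLE U V hVU).hom]
  have hur : Algebra.IsUnramifiedAt Γ(Y, U) (hV.primeIdealOf ⟨x, hxV⟩).asIdeal := by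
    let p := (hU.primeIdealOf ⟨f x, hVU hxV⟩).asIdeal
    let q := (hV.primeIdealOf ⟨x, hxV⟩).asIdeal
    have : q.LiesOver p :=
      ⟨congr($(IsAffineOpen.comap_primeIdealOf_appLE U hU V hV hVU hxV).1).symm⟩
    let := Localization.AtPrime.algebraOfLiesOver p q
    have : Algebra.FormallyUnramified (Localization.AtPrime p) (Localization.AtPrime q) := by
      rw [← RingHom.formallyUnramified_algebraMap]
      exact (RingHom.FormallyUnramified.respectsIso.arrow_mk_iso_iff
        (IsAffineOpen.arrowStalkMapIso f U hU V hV hVU hxV)).mp h1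
    exact Algebra.FormallyUnramified.comp _ (Localization.AtPrime p) _
  obtain ⟨r, hrx, hr⟩ := Algebra.exists_formallyUnramified_of_isUnramifiedAt (R := Γ(Y, U))
    (hV.primeIdealOf ⟨x, hxV⟩).asIdeal
  have hle : X.basicOpen r ≤ f ⁻¹ᵁ U := (X.basicOpen_le r).trans hVU
  refine ⟨X.basicOpen r, ?_, ?_⟩
  · rwa [← PrimeSpectrum.mem_basicOpen, IsAffineOpen.primeIdealOf,
      ← hV.fromSpec_preimage_basicOpen, Scheme.Hom.mem_preimage, ← Scheme.Hom.comp_apply,
      IsAffineOpen.isoSpec_hom, IsAffineOpen.toSpecΓ_fromSpec] at hrx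
  · have H : (f.appLE U (X.basicOpen r) hle).hom.FormallyUnramified := by
      have := hV.isLocalization_basicOpen r
      rw [← RingHom.formallyUnramified_algebraMap] at hr
      convert!
        RingHom.FormallyUnramified.respectsIso.1 _
          (IsLocalization.algEquiv (.powers r) _ Γ(X, X.basicOpen r)).toRingEquiv hr
      ext
      dsimp
      simp only [IsScalarTower.algebraMap_apply Γ(Y, U) Γ(X, V) (Localization _),
        IsLocalization.map_eq]
      simp only [RingHom.algebraMap_toAlgebra, RingHomCompTriple.comp_apply, ← ConcreteCategory.comp_apply,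
        Scheme.Hom.appLE_map]
    have : IsAffine U := hU
    have : IsAffine (X.basicOpen r) := hV.basicOpen r
    have : FormallyUnramified (f.resLE U (X.basicOpen r) hle) := by
      rw [HasRingHomProperty.iff_of_isAffine (P := @FormallyUnramified)]
      exact (RingHom.FormallyUnramified.respectsIso.arrow_mk_iso_iff (arrowResLEAppIso f U _ hle)).mpr H
    rw [← Scheme.Hom.resLE_comp_ι f hle]
    have h2 : FormallyUnramified (Scheme.Opens.ι (X := Y) U) := inferInstance
    exact MorphismProperty.comp_mem _ _ _ this h2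

end Groth.Agent.Lib.Helper35
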