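import Mathlib.AlgebraicGeometry.Morphisms.Flat

/-!
# Affine charts of a fibre product (helper35)

For a cartesian square `Y = X ×ₛ T` and affine opens `US ⊆ S`, `UX ⊆ X`, `UT ⊆ T` over `US`,
the open `UY = pr₁⁻¹ UX ⊓ pr₂⁻¹ UT` is affine and `Γ(Y, UY) = Γ(X, UX) ⊗_{Γ(S, US)} Γ(T, UT)`
(as a pushout square of `appLE` maps in `CommRingCat`).
Thin wrappers around Mathlib's `isIso_pushoutSection_of_isAffineOpen`.
-/

set_option autoImplicit false
universe u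

namespace Groth.Agent.Lib.Helper35

open AlgebraicGeometry CategoryTheory Limits

/-- affine chart of a pullback: the open `g⁻¹ UX ⊓ iY⁻¹ UT` is affine. -/
lemma isAffineOpen_pullback_chart {X Y S T : Scheme.{u}} {f : T ⟶ S} {g : Y ⟶ X} {iX : X ⟶ S}
    {iY : Y ⟶ T} (H : IsPullback g iY iX f) {US : S.Opens} {UT : T.Opens} {UX : X.Opens}
    (hUST : UT ≤ f ⁻¹ᵁ US) (hUSX : UX ≤ iX ⁻¹ᵁ US) {UY : Y.Opens}
    (hUY : UY = g ⁻¹ᵁ UX ⊓ iY ⁻¹ᵁ UT)
    (hUS : IsAffineOpen US) (hUT : IsAffineOpen UT) (hUX : IsAffineOpen UX) : IsAffineOpen UY := by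
  have : IsAffine _ := hUS
  have : IsAffine _ := hUT
  have : IsAffine _ := hUX
  exact .of_isIso (Scheme.Hom.isPullback_resLE H hUST hUSX hUY).isoPullback.hom

/-- sections of the affine chart of a pullback form a pushout square of rings. -/
lemma isPushout_appLE_of_isAffineOpen {X Y S T : Scheme.{u}} {f : T ⟶ S} {g : Y ⟶ X} {iX : X ⟶ S}
    {iY : Y ⟶ T} (H : IsPullback g iY iX f) {US : S.Opens} {UT : T.Opens} {UX : X.Opens}
    (hUST : UT ≤ f ⁻¹ᵁ US) (hUSX : UX ≤ iX ⁻¹ᵁ US) {UY : Y.Opens}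
    (hUY : UY = g ⁻¹ᵁ UX ⊓ iY ⁻¹ᵁ UT)
    (hUS : IsAffineOpen US) (hUT : IsAffineOpen UT) (hUX : IsAffineOpen UX) :
    IsPushout (iX.appLE US UX hUSX) (f.appLE US UT hUST)
      (g.appLE UX UY (by simp [hUY])) (iY.appLE UT UY (by simp [hUY])) :=
  (isIso_pushoutSection_iff H hUST hUSX hUY).mp
    (isIso_pushoutSection_of_isAffineOpen H hUST hUSX hUY hUS hUT hUX)

end Groth.Agent.Lib.Helper35
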