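import Mathlib.RingTheory.Flat.Basic
import Mathlib.RingTheory.Nakayama
import Mathlib.RingTheory.LocalRing.RingHom.Basic
import Mathlib.RingTheory.Ideal.Maps
import Mathlib.LinearAlgebra.TensorProduct.RightExactness
import Mathlib.RingTheory.LocalProperties.Basic
import Mathlib.RingTheory.Localization.Ideal

set_option autoImplicit false
set_option linter.style.haveILetI false
set_option maxHeartbeats 400000
universe u

namespace Groth.Agent.Lib.Helper35.FlatQuotNak

open TensorProduct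

/-- If `O/J` is flat over `Λ`, then `J ∩ 𝔪 O ⊆ 𝔪 J`. -/
theorem mem_mul_of_mem_inf {Λ O : Type*} [CommRing Λ] [CommRing O] [Algebra Λ O] (𝔪 : Ideal Λ)
    (J : Ideal O) [Module.Flat Λ (O ⧸ J)] (z : O) (hzJ : z ∈ J)
    (hz𝔪 : z ∈ 𝔪.map (algebraMap Λ O)) :
    z ∈ 𝔪.map (algebraMap Λ O) * J := by
  let π : O →ₗ[Λ] (O ⧸ J) := (Submodule.mkQ J).restrictScalars Λ
  let ιJ : J →ₗ[Λ] O := (Submodule.subtype J).restrictScalars Λ
  have hπ : Function.Surjective π := fun y => by
    obtain ⟨m, rfl⟩ := Submodule.mkQ_surjective J y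
    exact ⟨m, rfl⟩
  have hex : Function.Exact ιJ π := by
    intro y
    constructor
    · intro hy
      have : y ∈ J := (Submodule.Quotient.mk_eq_zero J).1 hy
      exact ⟨⟨y, this⟩, rfl⟩
    · rintro ⟨⟨j, hj⟩, rfl⟩
      exact (Submodule.Quotient.mk_eq_zero J).2 hj
  let μ : ∀ (M : Type _) [AddCommGroup M] [Module Λ M], 𝔪 ⊗[Λ] M →ₗ[Λ] M := fun M _ _ =>
    (TensorProduct.lid Λ M).toLinearMap ∘ₗ (𝔪.subtype.rTensor M)
  have hμ : ∀ (M : Type _) [AddCommGroup M] [Module Λ M] (a : 𝔪) (m : M),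
      μ M (a ⊗ₜ m) = (a : Λ) • m := fun M _ _ a m => by
    simp [μ]
  -- `z` is in the range of `μ O`
  have hrange : ∀ y ∈ (𝔪 • (⊤ : Submodule Λ O)), y ∈ LinearMap.range (μ O) := by
    intro y hy
    refine Submodule.smul_induction_on hy ?_ ?_
    · intro a ha o _
      exact ⟨(⟨a, ha⟩ : 𝔪) ⊗ₜ o, hμ O ⟨a, ha⟩ o⟩
    · intro x y hx hy
      exact Submodule.add_mem _ hx hy
  have hz' : z ∈ (𝔪 • (⊤ : Submodule Λ O)) := by
    rw [Ideal.smul_top_eq_map]
    exact hz𝔪
  obtain ⟨ζ, hζ⟩ := hrange z hz'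
  -- naturality
  have hnat : ∀ ζ : 𝔪 ⊗[Λ] O, μ (O ⧸ J) (π.lTensor 𝔪 ζ) = π (μ O ζ) := by
    intro ζ
    induction ζ with
    | zero => simp
    | add x y hx hy => rw [map_add, map_add, map_add, map_add, hx, hy]
    | tmul a o => rw [LinearMap.lTensor_tmul, hμ, hμ, map_smul]
  have hinj : Function.Injective (μ (O ⧸ J)) := by
    refine (TensorProduct.lid Λ (O ⧸ J)).injective.comp ?_
    exact Module.Flat.rTensor_preserves_injective_linearMap 𝔪.subtype Subtype.val_injective
  have h0 : π.lTensor 𝔪 ζ = 0 := by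
    apply hinj
    rw [hnat, hζ, map_zero]
    exact (Submodule.Quotient.mk_eq_zero J).2 hzJ
  obtain ⟨ξ, hξ⟩ := (lTensor_exact 𝔪 hex hπ ζ).1 h0
  have hfin : ∀ ξ : 𝔪 ⊗[Λ] J, μ O (ιJ.lTensor 𝔪 ξ) ∈ 𝔪.map (algebraMap Λ O) * J := by
    intro ξ
    induction ξ with
    | zero => simp
    | add x y hx hy =>
      rw [map_add, map_add]
      exact Ideal.add_mem _ hx hy
    | tmul a j =>
      rw [LinearMap.lTensor_tmul, hμ, Algebra.smul_def]
      exact Ideal.mul_mem_mul (Ideal.mem_map_of_mem _ a.2) j.2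
  rw [← hζ, ← hξ]
  exact hfin ξ

/-- A finitely generated ideal `J` of a local ring `O` over a local ring `Λ`, with `O/J` flat over
`Λ`, which is generated by `g ∈ J` modulo `𝔪_Λ O`, is generated by `g`. -/
theorem eq_span_of_le_sup {Λ O : Type*} [CommRing Λ] [IsLocalRing Λ] [CommRing O] [IsLocalRing O]
    [Algebra Λ O] [IsLocalHom (algebraMap Λ O)] (J : Ideal O) (hJ : J.FG)
    [Module.Flat Λ (O ⧸ J)] (g : O) (hg : g ∈ J)
    (h : J ≤ Ideal.span {g} ⊔ (IsLocalRing.maximalIdeal Λ).map (algebraMap Λ O)) :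
    J = Ideal.span {g} := by
  refine le_antisymm ?_ ((Ideal.span_singleton_le_iff_mem J).2 hg)
  have hmle : (IsLocalRing.maximalIdeal Λ).map (algebraMap Λ O) ≤ IsLocalRing.maximalIdeal O :=
    IsLocalRing.map_maximalIdeal_le (algebraMap Λ O)
  refine Submodule.le_of_le_smul_of_le_jacobson_bot (I := IsLocalRing.maximalIdeal O) hJ
    (IsLocalRing.maximalIdeal_le_jacobson ⊥) ?_
  intro y hy
  obtain ⟨a, ha, z, hz, rfl⟩ := Submodule.mem_sup.1 (h hy)
  have hzJ : z ∈ J := by
    have : z = (a + z) - a := by ring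
    rw [this]
    exact J.sub_mem hy ((Ideal.span_singleton_le_iff_mem J).2 hg ha)
  have hz2 := mem_mul_of_mem_inf (IsLocalRing.maximalIdeal Λ) J z hzJ hz
  refine Submodule.add_mem_sup ha ?_
  rw [smul_eq_mul]
  exact Ideal.mul_mono_left hmle hz2

/-- The quotient by an ideal commutes with localization. -/
theorem exists_isLocalizedModule_quot {B B' : Type*} [CommRing B] [CommRing B'] [Algebra B B']
    (W : Submonoid B) [IsLocalization W B'] (I : Ideal B) :
    ∃ ℓ : (B ⧸ I) →ₗ[B] (B' ⧸ I.map (algebraMap B B')), IsLocalizedModule W ℓ := by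
  let f : B →ₗ[B] B' := Algebra.linearMap B B'
  haveI : IsLocalizedModule W f := inferInstance
  have heq : Submodule.localized' B' W f I = I.map (algebraMap B B') :=
    Ideal.localized'_eq_map B' W I
  let e : (B' ⧸ Submodule.localized' B' W f I) ≃ₗ[B] (B' ⧸ I.map (algebraMap B B')) :=
    (Submodule.quotEquivOfEq _ _ heq).restrictScalars B
  exact ⟨e.toLinearMap ∘ₗ Submodule.toLocalizedQuotient' B' W f I,
    IsLocalizedModule.of_linearEquiv W _ e⟩

/-- spreading out membership in a principal ideal from a localization. -/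
theorem exists_mul_mem_span_of_map_mem {B B' : Type*} [CommRing B] [CommRing B'] [Algebra B B']
    (W : Submonoid B) [IsLocalization W B'] (g x : B)
    (h : algebraMap B B' x ∈ Ideal.span {algebraMap B B' g}) :
    ∃ t ∈ W, t * x ∈ Ideal.span {g} := by
  have h1 : algebraMap B B' x ∈ Ideal.map (algebraMap B B') (Ideal.span {g}) := by
    rw [Ideal.map_span, Set.image_singleton]
    exact h
  obtain ⟨⟨a, s⟩, has⟩ := (IsLocalization.mem_map_algebraMap_iff W B').1 h1
  simp only at has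
  have h2 : algebraMap B B' (x * s) = algebraMap B B' a := by rw [map_mul, has]
  obtain ⟨c, hc⟩ := (IsLocalization.eq_iff_exists W B').1 h2
  refine ⟨c * s, W.mul_mem c.2 s.2, ?_⟩
  have h3 : (c * s : B) * x = c * a := by
    rw [← hc]; ring
  rw [h3]
  exact Ideal.mul_mem_left _ _ a.2

end Groth.Agent.Lib.Helper35.FlatQuotNak
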