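import Mathlib.AlgebraicGeometry.AffineSpace
import Mathlib.AlgebraicGeometry.Morphisms.Etale
import Mathlib.AlgebraicGeometry.Morphisms.ClosedImmersion
import Mathlib.AlgebraicGeometry.IdealSheaf.Subscheme
import Mathlib.AlgebraicGeometry.Morphisms.Smooth

/-! Charts to affine space: étaleness of `homOfVector` from ring-level data and the pullback square
for a closed subscheme cut out by coordinates (helper35). -/

set_option autoImplicit false
set_option linter.style.haveILetI false
set_option maxHeartbeats 400000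
set_option backward.isDefEq.respectTransparency.types false
universe u

open CategoryTheory CategoryTheory.Limits AlgebraicGeometry

namespace Groth.Agent.Lib.Helper35.AffineChart

/-- The pullback square exhibiting a closed subscheme `i : Y → X` of an affine scheme, cut out by
the last `n` of `m + n` coordinate functions, as the preimage of the coordinate subspace. -/
theorem isPullback_chart {X Y S : Scheme.{u}} (f : X ⟶ S) (i : Y ⟶ X) [IsClosedImmersion i]
    [IsAffine X] {m n : ℕ} (a : Fin m → Γ(X, ⊤)) (b : Fin n → Γ(X, ⊤))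
    (hker : RingHom.ker i.appTop.hom = Ideal.span (Set.range b)) :
    IsPullback
      (AffineSpace.homOfVector (i ≫ f) (fun j : ULift.{u} (Fin m) => i.appTop (a j.down))) i
      (AffineSpace.homOfVector (𝔸(ULift.{u} (Fin m); S) ↘ S)
        (fun j : ULift.{u} (Fin m ⊕ Fin n) =>
          Sum.elim (fun a => AffineSpace.coord S (ULift.up a)) (fun _ => 0) j.down))
      (AffineSpace.homOfVector f (fun j : ULift.{u} (Fin m ⊕ Fin n) => Sum.elim a b j.down)) := by
  have hb : ∀ k, i.appTop (b k) = 0 := fun k => by
    have : b k ∈ RingHom.ker i.appTop.hom := hker ▸ Ideal.subset_span ⟨k, rfl⟩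
    exact this
  have hw : AffineSpace.homOfVector (i ≫ f) (fun j : ULift.{u} (Fin m) => i.appTop (a j.down)) ≫
      AffineSpace.homOfVector (𝔸(ULift.{u} (Fin m); S) ↘ S)
        (fun j : ULift.{u} (Fin m ⊕ Fin n) =>
          Sum.elim (fun a => AffineSpace.coord S (ULift.up a)) (fun _ => 0) j.down) =
      i ≫ AffineSpace.homOfVector f
        (fun j : ULift.{u} (Fin m ⊕ Fin n) => Sum.elim a b j.down) := by
    apply AffineSpace.hom_ext
    · simp
    · rintro ⟨j | j⟩
      · simp
      · simp [hb]
  have hH : ∀ s : PullbackCone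
      (AffineSpace.homOfVector (𝔸(ULift.{u} (Fin m); S) ↘ S)
        (fun j : ULift.{u} (Fin m ⊕ Fin n) =>
          Sum.elim (fun a => AffineSpace.coord S (ULift.up a)) (fun _ => 0) j.down))
      (AffineSpace.homOfVector f (fun j : ULift.{u} (Fin m ⊕ Fin n) => Sum.elim a b j.down)),
      i.ker ≤ s.snd.ker := by
    intro s
    rw [Scheme.ker_of_isAffine i, Scheme.ker_of_isAffine s.snd]
    apply Scheme.IdealSheafData.le_of_isAffine
    simp only [Scheme.IdealSheafData.ofIdealTop_ideal]
    apply Ideal.map_mono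
    rw [hker, Ideal.span_le]
    rintro _ ⟨k, rfl⟩
    have h1 := congr(Scheme.Hom.appTop $(s.condition) (AffineSpace.coord S (ULift.up (Sum.inr k))))
    simp only [Scheme.Hom.comp_appTop, CommRingCat.comp_apply,
      AffineSpace.homOfVector_appTop_coord, Sum.elim_inr, map_zero] at h1
    exact h1.symm
  refine ⟨⟨hw⟩, ⟨PullbackCone.IsLimit.mk _ (fun s => IsClosedImmersion.lift i s.snd (hH s))
    ?_ ?_ ?_⟩⟩
  · intro s
    apply AffineSpace.hom_ext
    · have h1 := congr($(s.condition) ≫ (𝔸(ULift.{u} (Fin m ⊕ Fin n); S) ↘ S))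
      simp only [Category.assoc, AffineSpace.homOfVector_over] at h1
      simp only [Category.assoc, AffineSpace.homOfVector_over,
        IsClosedImmersion.lift_fac_assoc]
      exact h1.symm
    · rintro ⟨k⟩
      have h1 := congr(Scheme.Hom.appTop $(s.condition)
        (AffineSpace.coord S (ULift.up (Sum.inl k))))
      simp only [Scheme.Hom.comp_appTop, CommRingCat.comp_apply,
        AffineSpace.homOfVector_appTop_coord, Sum.elim_inl] at h1
      simp only [Scheme.Hom.comp_appTop, CommRingCat.comp_apply,
        AffineSpace.homOfVector_appTop_coord]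
      refine Eq.trans ?_ h1.symm
      have h2 := congr(Scheme.Hom.appTop $(IsClosedImmersion.lift_fac i s.snd (hH s)) (a k))
      rw [Scheme.Hom.comp_appTop, CommRingCat.comp_apply] at h2
      exact h2
  · intro s
    exact IsClosedImmersion.lift_fac _ _ _
  · intro s l _ hl
    exact (cancel_mono i).mp (hl.trans (IsClosedImmersion.lift_fac _ _ _).symm)

/-- Étaleness of a chart `U → 𝔸(n; S)` given by sections `x` over an affine open `U` mapping into
an affine open `W` of `S`, from étaleness of the ring map `Γ(S, W)[n] → Γ(X, U)`. -/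
theorem etale_homOfVector {X S : Scheme.{u}} (f : X ⟶ S) (W : S.Opens) (hW : IsAffineOpen W)
    (U : X.Opens) (hU : IsAffineOpen U) (e : U ≤ f ⁻¹ᵁ W) {n : Type u} (x : n → Γ(X, U))
    (hét : (MvPolynomial.eval₂Hom (f.appLE W U e).hom x :
      MvPolynomial n Γ(S, W) →+* Γ(X, U)).Etale) :
    Etale (AffineSpace.homOfVector (U.ι ≫ f) (fun j => U.topIso.inv (x j))) := by
  haveI : IsAffine (W : Scheme.{u}) := hW
  haveI : IsAffine (U : Scheme.{u}) := hU
  have h1 : AffineSpace.homOfVector (U.ι ≫ f) (fun j => U.topIso.inv (x j)) =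
      AffineSpace.homOfVector (f.resLE W U e) (fun j => U.topIso.inv (x j)) ≫
        AffineSpace.map n W.ι := by
    apply AffineSpace.hom_ext
    · simp [Scheme.Hom.resLE_comp_ι]
    · intro j
      simp
  rw [h1]
  haveI : IsOpenImmersion (AffineSpace.map n W.ι) :=
    MorphismProperty.of_isPullback (P := @IsOpenImmersion)
      (AffineSpace.isPullback_map (n := n) W.ι).flip inferInstance
  suffices h : Etale (AffineSpace.homOfVector (f.resLE W U e) (fun j => U.topIso.inv (x j))) from
    inferInstance
  rw [HasRingHomProperty.iff_of_isAffine (P := @Etale)]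
  let Φ : CommRingCat.of (MvPolynomial n Γ((W : Scheme.{u}), ⊤)) ⟶ Γ(𝔸(n; (W : Scheme.{u})), ⊤) :=
    CommRingCat.ofHom (MvPolynomial.eval₂Hom ((𝔸(n; (W : Scheme.{u})) ↘ (W : Scheme.{u})).appTop).hom
      (AffineSpace.coord (W : Scheme.{u})))
  haveI : IsIso Φ := by
    have : Φ = (Scheme.ΓSpecIso _).inv ≫ (AffineSpace.isoOfIsAffine n (W : Scheme.{u})).hom.appTop := by
      rw [AffineSpace.isoOfIsAffine_hom_appTop, Iso.inv_hom_id_assoc]
    rw [this]
    haveI h0 : IsIso (AffineSpace.isoOfIsAffine n (W : Scheme.{u})).hom := Iso.isIso_hom _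
    haveI : IsIso (Scheme.Hom.appTop (AffineSpace.isoOfIsAffine n (W : Scheme.{u})).hom) :=
      inferInstanceAs (IsIso (Scheme.Hom.app (AffineSpace.isoOfIsAffine n (W : Scheme.{u})).hom ⊤))
    infer_instance
  rw [← RingHom.Etale.respectsIso.cancel_left_isIso Φ]
  let E : CommRingCat.of (MvPolynomial n Γ((W : Scheme.{u}), ⊤)) ⟶
      CommRingCat.of (MvPolynomial n Γ(S, W)) :=
    (MvPolynomial.mapEquiv n W.topIso.commRingCatIsoToRingEquiv).toCommRingCatIso.hom
  have h2 : ((AffineSpace.homOfVector (f.resLE W U e)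
      (fun j => U.topIso.inv (x j))).appTop).hom.comp Φ.hom =
      (U.topIso.inv).hom.comp ((E ≫ CommRingCat.ofHom (MvPolynomial.eval₂Hom (f.appLE W U e).hom x)).hom) := by
    have hE : ∀ p, E.hom p = MvPolynomial.map (W.topIso.hom.hom) p := fun p => rfl
    apply MvPolynomial.ringHom_ext
    · intro a
      have h3 : ((AffineSpace.homOfVector (f.resLE W U e)
          (fun j => U.topIso.inv (x j))).appTop).hom
          (((𝔸(n; (W : Scheme.{u})) ↘ (W : Scheme.{u})).appTop).hom a) =
          (f.resLE W U e).appTop a := by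
        rw [← CommRingCat.comp_apply, ← Scheme.Hom.comp_appTop, AffineSpace.homOfVector_over]
      have h4 : (f.resLE W U e).appTop a = U.topIso.inv (f.appLE W U e (W.topIso.hom a)) := by
        have := Scheme.Hom.resLE_app_top (f := f) (U := W) (V := U) e
        rw [Scheme.Hom.appTop, this]
        rfl
      rw [RingHom.comp_apply, RingHom.comp_apply, CommRingCat.hom_comp, RingHom.comp_apply, hE,
        MvPolynomial.map_C]
      simp only [Φ, CommRingCat.hom_ofHom, MvPolynomial.coe_eval₂Hom, MvPolynomial.eval₂_C]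
      rw [h3, h4]
    · intro j
      rw [RingHom.comp_apply, RingHom.comp_apply, CommRingCat.hom_comp, RingHom.comp_apply, hE,
        MvPolynomial.map_X]
      simp only [Φ, CommRingCat.hom_ofHom, MvPolynomial.coe_eval₂Hom, MvPolynomial.eval₂_X]
      exact AffineSpace.homOfVector_appTop_coord _ _ _
  rw [h2, RingHom.Etale.respectsIso.cancel_right_isIso, CommRingCat.hom_comp,
    RingHom.Etale.respectsIso.cancel_left_isIso]
  exact hét

local notation3 "ℤ[" n "]" => CommRingCat.of (MvPolynomial n (ULift ℤ))

/-- Affine space over `S` (finitely many coordinates) is smooth over `S`. -/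
instance smooth_over {n : Type u} [Finite n] (S : Scheme.{u}) : Smooth (𝔸(n; S) ↘ S) :=
  MorphismProperty.pullback_fst _ _ <| by
  have := isIso_of_isTerminal specULiftZIsTerminal.{u} terminalIsTerminal (terminal.from _)
  rw [← terminal.comp_from (Spec.map (CommRingCat.ofHom MvPolynomial.C)),
    MorphismProperty.cancel_right_of_respectsIso (P := @Smooth),
    HasRingHomProperty.Spec_iff (P := @Smooth), RingHom.Smooth]
  have hsm : Algebra.Smooth (ULift.{u} ℤ) (MvPolynomial n (ULift.{u} ℤ)) :=
    ⟨inferInstance, inferInstance⟩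
  convert! hsm
  exact Algebra.algebra_ext _ _ fun _ ↦ rfl

/-- On affine opens inside the smooth locus the ring map is smooth. -/
theorem smooth_appLE_of_le_smoothLocus {X Y : Scheme.{u}} (f : X ⟶ Y)
    [LocallyOfFinitePresentation f] {U : Y.Opens} (hU : IsAffineOpen U) {V : X.Opens}
    (hV : IsAffineOpen V) (e : V ≤ f ⁻¹ᵁ U) (hsm : V ≤ f.smoothLocus) :
    (f.appLE U V e).hom.Smooth := by
  have hfp := f.finitePresentation_appLE hU hV e
  algebraize [(f.appLE U V e).hom]
  have : Algebra.FormallySmooth Γ(Y, U) Γ(X, V) := by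
    rw [← Algebra.smoothLocus_eq_univ_iff, Set.eq_univ_iff_forall]
    intro p
    obtain ⟨x, rfl⟩ : ∃ x : V, hV.primeIdealOf x = p :=
      ⟨hV.isoSpec.inv p, by
        rw [IsAffineOpen.primeIdealOf]
        show (hV.isoSpec.inv ≫ hV.isoSpec.hom) p = p
        rw [Iso.inv_hom_id]
        rfl⟩
    exact (formallySmooth_stalkMap_iff U hU V hV e x.2).mp (hsm x.2)
  exact RingHom.smooth_algebraMap.mpr ⟨this, inferInstance⟩

end Groth.Agent.Lib.Helper35.AffineChart
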