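import Mathlib.RingTheory.DualNumber
import Mathlib.RingTheory.Kaehler.Basic
import Mathlib.RingTheory.Unramified.Basic
import Mathlib.RingTheory.Smooth.Basic
import Mathlib.RingTheory.LocalRing.Module
import Mathlib.RingTheory.LocalRing.Quotient
import Mathlib.RingTheory.HopkinsLevitzki
import Mathlib.RingTheory.Filtration
import Mathlib.RingTheory.Nakayama
import Mathlib.LinearAlgebra.Dual.Lemmas
import Mathlib.RingTheory.EssentialFiniteness
import Mathlib.RingTheory.RingHom.Unramified
import Mathlib.RingTheory.RingHom.Smooth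

set_option autoImplicit false
set_option maxHeartbeats 400000
universe u

namespace Groth.Agent.Lib.Helper35

open IsLocalRing TensorProduct

/-- The Artinian lifting property of S2794 for a ring hom into a local ring. -/
def ArtinLift {A B : Type u} [CommRing A] [CommRing B] [IsLocalRing B] (φ : A →+* B) : Prop :=
  ∀ (A' : Type u) [CommRing A'] [IsLocalRing A'] [IsArtinianRing A']
        (h : A →+* A') [IsLocalHom h]
        (I : Ideal A') (_ : I ≠ ⊤) (_ : I * IsLocalRing.maximalIdeal A' = ⊥)
        (g₀ : B →+* A' ⧸ I),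
        g₀.comp φ = (Ideal.Quotient.mk I).comp h →
        (∀ b ∈ IsLocalRing.maximalIdeal B,
          g₀ b ∈ (IsLocalRing.maximalIdeal A').map (Ideal.Quotient.mk I)) →
        (∀ a' : A', ∃ b : B,
          g₀ b - Ideal.Quotient.mk I a' ∈ (IsLocalRing.maximalIdeal A').map (Ideal.Quotient.mk I)) →
        ∃! g : B →+* A', g.comp φ = h ∧ (Ideal.Quotient.mk I).comp g = g₀

section U

variable {A B : Type u} [CommRing A] [CommRing B] [IsLocalRing A] [IsLocalRing B]

open TrivSqZeroExt in
/-- The ring hom `B → κ[ε]` attached to a derivation `B → κ`. -/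
noncomputable def derivToDual [Algebra A B] (D : Derivation A B (ResidueField B)) :
    B →+* DualNumber (ResidueField B) where
  toFun b := TrivSqZeroExt.inl (residue B b) + TrivSqZeroExt.inr (D b)
  map_one' := by simp
  map_zero' := by simp
  map_add' b b' := by
    ext <;> simp
  map_mul' b b' := by
    ext
    · simp
    · simp only [snd_add, snd_inl, snd_inr, zero_add, snd_mul, fst_add, fst_inl, fst_inr, add_zero,
        Derivation.leibniz]
      simp only [Algebra.smul_def, MulOpposite.smul_eq_mul_unop, MulOpposite.unop_op, smul_eq_mul]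
      rw [mul_comm (D b)]
      rfl


open TrivSqZeroExt in
theorem derivation_eq_zero_of_artinLift [Algebra A B] [IsLocalHom (algebraMap A B)]
    (H : ArtinLift (algebraMap A B)) (D : Derivation A B (ResidueField B)) : D = 0 := by
  haveI : Module.Finite (ResidueField B) (DualNumber (ResidueField B)) := inferInstanceAs (Module.Finite (ResidueField B) (ResidueField B × ResidueField B))
  haveI : IsArtinianRing (DualNumber (ResidueField B)) := IsArtinianRing.of_finite (ResidueField B) (DualNumber (ResidueField B))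
  let g₁ : B →+* (DualNumber (ResidueField B)) := (TrivSqZeroExt.inlHom (ResidueField B) (ResidueField B)).comp (residue B)
  let g₂ : B →+* (DualNumber (ResidueField B)) := derivToDual D
  let h : A →+* (DualNumber (ResidueField B)) := g₁.comp (algebraMap A B)
  haveI : IsLocalHom h := ⟨fun a ha => by
    rw [TrivSqZeroExt.isUnit_iff_isUnit_fst] at ha
    have h1 : IsUnit (residue B (algebraMap A B a)) := ha
    have h2 : IsUnit (algebraMap A B a) := by
      by_contra hcon
      exact h1.ne_zero ((residue_eq_zero_iff _).mpr ((mem_maximalIdeal _).mpr hcon))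
    exact IsLocalHom.map_nonunit _ h2⟩
  let I : Ideal (DualNumber (ResidueField B)) := Ideal.span {DualNumber.eps}
  have hI : maximalIdeal (DualNumber (ResidueField B)) = I := DualNumber.maximalIdeal_eq_span_singleton_eps
  have hI1 : I ≠ ⊤ := hI ▸ Ideal.IsPrime.ne_top'
  have hI2 : I * maximalIdeal (DualNumber (ResidueField B)) = ⊥ := by
    rw [hI]
    simp [I, Ideal.span_singleton_mul_span_singleton, DualNumber.eps_mul_eps]
  let g₀ : B →+* (DualNumber (ResidueField B)) ⧸ I := (Ideal.Quotient.mk I).comp g₁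
  have hinr : ∀ k : (ResidueField B), (TrivSqZeroExt.inr k : (DualNumber (ResidueField B))) ∈ I := by
    intro k
    rw [DualNumber.inr_eq_smul_eps]
    exact Submodule.smul_of_tower_mem _ _ (Ideal.subset_span rfl)
  obtain ⟨g, -, hg⟩ := H (DualNumber (ResidueField B)) h I hI1 hI2 g₀ rfl (by
      intro b hb
      have : g₁ b = 0 := by
        simp [g₁, (residue_eq_zero_iff b).mpr hb]
      simp [g₀, this]) (by
      intro a'
      obtain ⟨b, hb⟩ := residue_surjective (R := B) a'.fst
      refine ⟨b, ?_⟩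
      rw [hI]
      simp only [g₀, RingHom.comp_apply, ← map_sub]
      refine Ideal.mem_map_of_mem _ ?_
      have : g₁ b - a' = TrivSqZeroExt.inr (-a'.snd) := by
        ext <;> simp [g₁, hb, TrivSqZeroExt.fst_sub, TrivSqZeroExt.snd_sub]
      rw [this]
      exact hinr _)
  have e1 : g₁ = g := hg g₁ ⟨rfl, rfl⟩
  have e2 : g₂ = g := by
    refine hg g₂ ⟨?_, ?_⟩
    · ext a <;> simp [g₂, h, g₁, derivToDual]
    · ext b
      simp only [g₀, RingHom.comp_apply]
      rw [Ideal.Quotient.eq]
      have : g₂ b - g₁ b = TrivSqZeroExt.inr (D b) := by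
        ext <;> simp [g₁, g₂, derivToDual, TrivSqZeroExt.fst_sub, TrivSqZeroExt.snd_sub]
      rw [this]
      exact hinr _
  ext b
  have h3 := congr(TrivSqZeroExt.snd ($(e2.trans e1.symm) b))
  simpa [g₁, g₂, derivToDual] using h3


theorem formallyUnramified_of_artinLift [Algebra A B] [IsLocalHom (algebraMap A B)]
    [Algebra.EssFiniteType A B]
    (H : ArtinLift (algebraMap A B)) : Algebra.FormallyUnramified A B := by
  have hl : ∀ l : Ω[B⁄A] →ₗ[B] ResidueField B, l = 0 := by
    intro l
    apply (KaehlerDifferential.linearMapEquivDerivation A B).injective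
    rw [derivation_eq_zero_of_artinLift H (KaehlerDifferential.linearMapEquivDerivation A B l),
      map_zero]
  have hdual : ∀ ψ : Module.Dual (ResidueField B) (ResidueField B ⊗[B] Ω[B⁄A]), ψ = 0 := by
    intro ψ
    have h1 : ψ.restrictScalars B = 0 := by
      apply TensorProduct.ext'
      intro k ω
      have h2 : (ψ.restrictScalars B) ∘ₗ (TensorProduct.mk B (ResidueField B) Ω[B⁄A] 1) = 0 := hl _
      have h3 : ψ (1 ⊗ₜ ω) = 0 := congr($h2 ω)
      have h4 : k ⊗ₜ[B] ω = k • ((1 : ResidueField B) ⊗ₜ[B] ω) := by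
        rw [TensorProduct.smul_tmul', smul_eq_mul, mul_one]
      simp only [LinearMap.restrictScalars_apply, LinearMap.zero_apply]
      rw [h4, map_smul, h3, smul_zero]
    exact LinearMap.ext fun v => congr($h1 v)
  have hsub : Subsingleton (ResidueField B ⊗[B] Ω[B⁄A]) := by
    refine ⟨fun v w => ?_⟩
    have hv : ∀ v : ResidueField B ⊗[B] Ω[B⁄A], v = 0 := fun v =>
      (Module.forall_dual_apply_eq_zero_iff (ResidueField B) v).mp (fun ψ => by rw [hdual ψ]; rfl)
    rw [hv v, hv w]
  exact ⟨IsLocalRing.subsingleton_tensorProduct.mp hsub⟩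

end U


section T

theorem ArtinLift.comp_ringEquiv {A B B' : Type u} [CommRing A] [CommRing B] [CommRing B']
    [IsLocalRing B] [IsLocalRing B'] (φ : A →+* B) (β : B ≃+* B') (H : ArtinLift φ) :
    ArtinLift ((β : B →+* B').comp φ) := by
  intro A' _ _ _ h _ I hI1 hI2 g₀' hcomp hmax hsurj
  obtain ⟨g, ⟨hg1, hg2⟩, huniq⟩ := H A' h I hI1 hI2 (g₀'.comp (β : B →+* B'))
    (by rw [RingHom.comp_assoc, hcomp]) (by
      intro b hb
      refine hmax (β b) ((mem_maximalIdeal _).mpr (fun hu => (mem_maximalIdeal _).mp hb ?_))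
      simpa using hu.map β.symm) (by
      intro a'
      obtain ⟨b', hb'⟩ := hsurj a'
      exact ⟨β.symm b', by simpa using hb'⟩)
  refine ⟨g.comp (β.symm : B' →+* B), ⟨?_, ?_⟩, ?_⟩
  · ext a
    simp [← hg1]
  · ext b'
    have := congr($hg2 (β.symm b'))
    simpa using this
  · rintro g' ⟨hg'1, hg'2⟩
    have := huniq (g'.comp (β : B →+* B'))
      ⟨by rw [RingHom.comp_assoc, hg'1], by rw [← RingHom.comp_assoc, hg'2]⟩
    ext b'
    have := congr($this (β.symm b'))
    simpa using this

theorem artinLift_of_formallyEtale {A B : Type u} [CommRing A] [CommRing B] [IsLocalRing B]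
    (φ : A →+* B) (h1 : φ.FormallyUnramified) (h2 : φ.FormallySmooth) : ArtinLift φ := by
  intro A' _ _ _ h _ I hI1 hI2 g₀ hcomp _ _
  letI := φ.toAlgebra
  letI := h.toAlgebra
  haveI : Algebra.FormallyUnramified A B := h1
  haveI : Algebra.FormallySmooth A B := h2
  have hIm : I ≤ maximalIdeal A' := le_maximalIdeal hI1
  have hInil : IsNilpotent I := by
    refine ⟨2, ?_⟩
    rw [pow_two, Ideal.zero_eq_bot, ← le_bot_iff, ← hI2]
    exact Ideal.mul_mono_right hIm
  let G₀ : B →ₐ[A] A' ⧸ I := ⟨g₀, fun a => congr($hcomp a)⟩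
  let G : B →ₐ[A] A' := Algebra.FormallySmooth.lift I hInil G₀
  have hG : ∀ b, Ideal.Quotient.mk I (G b) = g₀ b := fun b =>
    Algebra.FormallySmooth.mk_lift I hInil G₀ b
  refine ⟨G, ⟨?_, ?_⟩, ?_⟩
  · ext a
    exact G.commutes a
  · ext b
    exact hG b
  · rintro g' ⟨hg'1, hg'2⟩
    let G' : B →ₐ[A] A' := ⟨g', fun a => congr($hg'1 a)⟩
    have : G' = G := Algebra.FormallyUnramified.ext I hInil (fun b => by
      rw [hG b]
      exact congr($hg'2 b))
    exact congr(($this : B →+* A'))

end T

section K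

open Ideal in
theorem injective_of_artinLift {A C B : Type u} [CommRing A] [CommRing C] [CommRing B]
    [IsLocalRing C] [IsLocalRing B] [IsNoetherianRing C]
    (α : A →+* C) [IsLocalHom α] (hα : α.FormallyUnramified) (σ : C →+* B)
    (hσ : Function.Surjective σ) (H : ArtinLift (σ.comp α)) : Function.Injective σ := by
  set m := maximalIdeal C with hm
  set J := RingHom.ker σ with hJdef
  have hJm : J ≤ m := le_maximalIdeal (RingHom.ker_ne_top σ)
  haveI := IsLocalHom.of_surjective σ hσ
  have key : ∀ n : ℕ, 0 < n → J ≤ m * J + m ^ n := by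
    intro n hn
    set K : Ideal C := m * J + m ^ n with hKdef
    have hKm : K ≤ m := sup_le Ideal.mul_le_left (Ideal.pow_le_self hn.ne')
    have hK : K ≠ ⊤ := fun h => (maximalIdeal.isMaximal C).ne_top (top_le_iff.mp (h ▸ hKm))
    haveI : Nontrivial (C ⧸ K) := Ideal.Quotient.nontrivial_iff.mpr hK
    haveI : IsLocalRing (C ⧸ K) :=
      IsLocalRing.of_surjective' (Ideal.Quotient.mk K) Ideal.Quotient.mk_surjective
    haveI hloc : IsLocalHom (Ideal.Quotient.mk K) :=
      IsLocalHom.of_surjective _ Ideal.Quotient.mk_surjective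
    have hmT : maximalIdeal (C ⧸ K) = m.map (Ideal.Quotient.mk K) :=
      (map_maximalIdeal_of_surjective _ Ideal.Quotient.mk_surjective).symm
    haveI : IsArtinianRing (C ⧸ K) := by
      rw [isArtinianRing_iff_isNilpotent_maximalIdeal]
      refine ⟨n, ?_⟩
      rw [hmT, ← Ideal.map_pow, Ideal.zero_eq_bot, Ideal.map_eq_bot_iff_le_ker, Ideal.mk_ker]
      exact le_sup_right
    let h : A →+* C ⧸ K := (Ideal.Quotient.mk K).comp α
    haveI : IsLocalHom h := RingHom.isLocalHom_comp _ _
    let I : Ideal (C ⧸ K) := J.map (Ideal.Quotient.mk K)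
    have hIm : I ≤ maximalIdeal (C ⧸ K) := hmT ▸ Ideal.map_mono hJm
    have hI1 : I ≠ ⊤ := fun h =>
      (maximalIdeal.isMaximal (C ⧸ K)).ne_top (top_le_iff.mp (h ▸ hIm))
    have hI2 : I * maximalIdeal (C ⧸ K) = ⊥ := by
      rw [hmT, ← Ideal.map_mul, Ideal.map_eq_bot_iff_le_ker, Ideal.mk_ker, mul_comm]
      exact le_sup_left
    have hInil : IsNilpotent I := by
      refine ⟨2, ?_⟩
      rw [pow_two, Ideal.zero_eq_bot, ← le_bot_iff, ← hI2]
      exact Ideal.mul_mono_right hIm
    let q : C →+* (C ⧸ K) ⧸ I := (Ideal.Quotient.mk I).comp (Ideal.Quotient.mk K)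
    have hq : RingHom.ker σ ≤ RingHom.ker q := by
      intro c hc
      rw [RingHom.mem_ker]
      simp only [q, RingHom.comp_apply]
      rw [Ideal.Quotient.eq_zero_iff_mem]
      exact Ideal.mem_map_of_mem _ hc
    let g₀ : B →+* (C ⧸ K) ⧸ I := σ.liftOfSurjective hσ ⟨q, hq⟩
    have hg₀ : g₀.comp σ = q := RingHom.liftOfSurjective_comp σ hσ ⟨q, hq⟩
    obtain ⟨g, ⟨hg1, hg2⟩, -⟩ := H (C ⧸ K) h I hI1 hI2 g₀ (by
        rw [← RingHom.comp_assoc, hg₀]
        rfl) (by
        intro b hb
        obtain ⟨c, rfl⟩ := hσ b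
        have hc : c ∈ m := by
          by_contra hcon
          have : IsUnit c := by
            rwa [hm, mem_maximalIdeal, mem_nonunits_iff, not_not] at hcon
          exact hb (this.map σ)
        have : g₀ (σ c) = q c := congr($hg₀ c)
        rw [this, hmT]
        exact Ideal.mem_map_of_mem _ (Ideal.mem_map_of_mem _ hc)) (by
        intro a'
        obtain ⟨c, rfl⟩ := Ideal.Quotient.mk_surjective a'
        refine ⟨σ c, ?_⟩
        have : g₀ (σ c) = q c := congr($hg₀ c)
        rw [this]
        simp [q])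
    have heq : g.comp σ = Ideal.Quotient.mk K := by
      letI := α.toAlgebra
      letI := h.toAlgebra
      haveI : Algebra.FormallyUnramified A C := hα
      let u₁ : C →ₐ[A] C ⧸ K := ⟨g.comp σ, fun a => congr($hg1 a)⟩
      let u₂ : C →ₐ[A] C ⧸ K := ⟨Ideal.Quotient.mk K, fun a => rfl⟩
      have hu : u₁ = u₂ := Algebra.FormallyUnramified.ext I hInil (fun c => by
        show Ideal.Quotient.mk I (g (σ c)) = Ideal.Quotient.mk I (Ideal.Quotient.mk K c)
        have h1 : Ideal.Quotient.mk I (g (σ c)) = g₀ (σ c) := congr($hg2 (σ c))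
        rw [h1]
        exact congr($hg₀ c))
      exact congr(($hu : C →+* C ⧸ K))
    intro c hc
    have : Ideal.Quotient.mk K c = 0 := by
      rw [← heq]
      simp [RingHom.mem_ker.mp hc]
    exact Ideal.Quotient.eq_zero_iff_mem.mp this
  have hJ : J ≤ m * J := by
    intro c hc
    set L : Ideal C := m * J with hLdef
    have hLm : L ≤ m := Ideal.mul_le_left
    have hL : L ≠ ⊤ := fun h => (maximalIdeal.isMaximal C).ne_top (top_le_iff.mp (h ▸ hLm))
    haveI : Nontrivial (C ⧸ L) := Ideal.Quotient.nontrivial_iff.mpr hL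
    haveI : IsLocalRing (C ⧸ L) :=
      IsLocalRing.of_surjective' (Ideal.Quotient.mk L) Ideal.Quotient.mk_surjective
    have hmL : maximalIdeal (C ⧸ L) = m.map (Ideal.Quotient.mk L) :=
      (map_maximalIdeal_of_surjective _ Ideal.Quotient.mk_surjective).symm
    have hmem : Ideal.Quotient.mk L c ∈ (⨅ n : ℕ, maximalIdeal (C ⧸ L) ^ n) := by
      rw [Ideal.mem_iInf]
      intro n
      rcases n with _ | n
      · simp
      · have h1 := key (n + 1) (Nat.succ_pos n) hc
        rw [hmL, ← Ideal.map_pow]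
        obtain ⟨a, ha, b, hb, rfl⟩ := Submodule.mem_sup.mp h1
        rw [map_add, Ideal.Quotient.eq_zero_iff_mem.mpr ha, zero_add]
        exact Ideal.mem_map_of_mem _ hb
    rw [Ideal.iInf_pow_eq_bot_of_isLocalRing _ (maximalIdeal.isMaximal _).ne_top] at hmem
    exact Ideal.Quotient.eq_zero_iff_mem.mp hmem
  have hJ0 : J = ⊥ :=
    Submodule.eq_bot_of_le_smul_of_le_jacobson_bot m J (IsNoetherian.noetherian J) hJ
      (le_of_eq (jacobson_eq_maximalIdeal ⊥ bot_ne_top).symm)
  exact (RingHom.injective_iff_ker_eq_bot σ).mpr hJ0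

end K

end Groth.Agent.Lib.Helper35
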