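import Groth.Agent.Lib.Helper35.ArtinLift
import Mathlib.RingTheory.Smooth.Local
import Mathlib.RingTheory.Derivation.ToSquareZero

set_option autoImplicit false
set_option maxHeartbeats 400000
universe u

namespace Groth.Agent.Lib.Helper35

open IsLocalRing TensorProduct

/-- The existence-only Artinian lifting property of S2793. -/
def ArtinLiftE {A B : Type u} [CommRing A] [CommRing B] [IsLocalRing B] (φ : A →+* B) : Prop :=
  ∀ (A' : Type u) [CommRing A'] [IsLocalRing A'] [IsArtinianRing A']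
        (h : A →+* A') [IsLocalHom h]
        (I : Ideal A') (_ : I ≠ ⊤) (_ : I * IsLocalRing.maximalIdeal A' = ⊥)
        (g₀ : B →+* A' ⧸ I),
        g₀.comp φ = (Ideal.Quotient.mk I).comp h →
        (∀ b ∈ IsLocalRing.maximalIdeal B,
          g₀ b ∈ (IsLocalRing.maximalIdeal A').map (Ideal.Quotient.mk I)) →
        (∀ a' : A', ∃ b : B,
          g₀ b - Ideal.Quotient.mk I a' ∈ (IsLocalRing.maximalIdeal A').map (Ideal.Quotient.mk I)) →
        ∃ g : B →+* A', g.comp φ = h ∧ (Ideal.Quotient.mk I).comp g = g₀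

theorem ArtinLift.artinLiftE {A B : Type u} [CommRing A] [CommRing B] [IsLocalRing B]
    {φ : A →+* B} (H : ArtinLift φ) : ArtinLiftE φ := by
  intro A' _ _ _ h _ I hI1 hI2 g₀ h1 h2 h3
  exact (H A' h I hI1 hI2 g₀ h1 h2 h3).exists

theorem ArtinLiftE.comp_ringEquiv {A B B' : Type u} [CommRing A] [CommRing B] [CommRing B']
    [IsLocalRing B] [IsLocalRing B'] (φ : A →+* B) (β : B ≃+* B') (H : ArtinLiftE φ) :
    ArtinLiftE ((β : B →+* B').comp φ) := by
  intro A' _ _ _ h _ I hI1 hI2 g₀' hcomp hmax hsurj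
  obtain ⟨g, hg1, hg2⟩ := H A' h I hI1 hI2 (g₀'.comp (β : B →+* B'))
    (by rw [RingHom.comp_assoc, hcomp]) (by
      intro b hb
      refine hmax (β b) ((mem_maximalIdeal _).mpr (fun hu => (mem_maximalIdeal _).mp hb ?_))
      simpa using hu.map β.symm) (by
      intro a'
      obtain ⟨b', hb'⟩ := hsurj a'
      exact ⟨β.symm b', by simpa using hb'⟩)
  refine ⟨g.comp (β.symm : B' →+* B), ?_, ?_⟩
  · ext a
    simp [← hg1]
  · ext b'
    have := congr($hg2 (β.symm b'))
    simpa using this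

theorem artinLiftE_of_formallySmooth {A B : Type u} [CommRing A] [CommRing B] [IsLocalRing B]
    (φ : A →+* B) (h2 : φ.FormallySmooth) : ArtinLiftE φ := by
  intro A' _ _ _ h _ I hI1 hI2 g₀ hcomp _ _
  letI := φ.toAlgebra
  letI := h.toAlgebra
  haveI : Algebra.FormallySmooth A B := h2
  have hIm : I ≤ maximalIdeal A' := le_maximalIdeal hI1
  have hInil : IsNilpotent I := by
    refine ⟨2, ?_⟩
    rw [pow_two, Ideal.zero_eq_bot, ← le_bot_iff, ← hI2]
    exact Ideal.mul_mono_right hIm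
  let G₀ : B →ₐ[A] A' ⧸ I := ⟨g₀, fun a => congr($hcomp a)⟩
  let G : B →ₐ[A] A' := Algebra.FormallySmooth.lift I hInil G₀
  have hG : ∀ b, Ideal.Quotient.mk I (G b) = g₀ b := fun b =>
    Algebra.FormallySmooth.mk_lift I hInil G₀ b
  refine ⟨G, ?_, ?_⟩
  · ext a
    exact G.commutes a
  · ext b
    exact hG b

section Pieces

variable {A C B : Type u} [CommRing A] [CommRing C] [CommRing B]
    [IsLocalRing C] [IsLocalRing B] [IsNoetherianRing C]

open Ideal in
/-- Test-ring construction: a lift `B → C ⧸ (m J + mⁿ)` of `B → B ⧸ mⁿ`. -/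
theorem exists_lift_quotient (α : A →+* C) [IsLocalHom α] (σ : C →+* B)
    (hσ : Function.Surjective σ) (H : ArtinLiftE (σ.comp α)) (n : ℕ) (hn : 0 < n) :
    ∃ g : B →+* C ⧸ (maximalIdeal C * RingHom.ker σ + maximalIdeal C ^ n),
      g.comp (σ.comp α) = (Ideal.Quotient.mk _).comp α ∧
      ∀ c, g (σ c) - Ideal.Quotient.mk _ c ∈ (RingHom.ker σ).map
        (Ideal.Quotient.mk (maximalIdeal C * RingHom.ker σ + maximalIdeal C ^ n)) := by
  set m := maximalIdeal C with hm
  set J := RingHom.ker σ with hJdef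
  have hJm : J ≤ m := le_maximalIdeal (RingHom.ker_ne_top σ)
  haveI := IsLocalHom.of_surjective σ hσ
  set K : Ideal C := m * J + m ^ n with hKdef
  have hKm : K ≤ m := sup_le Ideal.mul_le_left (Ideal.pow_le_self hn.ne')
  have hK : K ≠ ⊤ := fun h => (maximalIdeal.isMaximal C).ne_top (top_le_iff.mp (h ▸ hKm))
  haveI : Nontrivial (C ⧸ K) := Ideal.Quotient.nontrivial_iff.mpr hK
  haveI : IsLocalRing (C ⧸ K) :=
    IsLocalRing.of_surjective' (Ideal.Quotient.mk K) Ideal.Quotient.mk_surjective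
  haveI hloc : IsLocalHom (Ideal.Quotient.mk K) :=
    IsLocalHom.of_surjective _ Ideal.Quotient.mk_surjective
  have hmT : maximalIdeal (C ⧸ K) = m.map (Ideal.Quotient.mk K) :=
    (map_maximalIdeal_of_surjective _ Ideal.Quotient.mk_surjective).symm
  haveI : IsArtinianRing (C ⧸ K) := by
    rw [isArtinianRing_iff_isNilpotent_maximalIdeal]
    refine ⟨n, ?_⟩
    rw [hmT, ← Ideal.map_pow, Ideal.zero_eq_bot, Ideal.map_eq_bot_iff_le_ker, Ideal.mk_ker]
    exact le_sup_right
  let h : A →+* C ⧸ K := (Ideal.Quotient.mk K).comp α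
  haveI : IsLocalHom h := RingHom.isLocalHom_comp _ _
  let I : Ideal (C ⧸ K) := J.map (Ideal.Quotient.mk K)
  have hIm : I ≤ maximalIdeal (C ⧸ K) := hmT ▸ Ideal.map_mono hJm
  have hI1 : I ≠ ⊤ := fun h =>
    (maximalIdeal.isMaximal (C ⧸ K)).ne_top (top_le_iff.mp (h ▸ hIm))
  have hI2 : I * maximalIdeal (C ⧸ K) = ⊥ := by
    rw [hmT, ← Ideal.map_mul, Ideal.map_eq_bot_iff_le_ker, Ideal.mk_ker, mul_comm]
    exact le_sup_left
  let q : C →+* (C ⧸ K) ⧸ I := (Ideal.Quotient.mk I).comp (Ideal.Quotient.mk K)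
  have hq : RingHom.ker σ ≤ RingHom.ker q := by
    intro c hc
    rw [RingHom.mem_ker]
    simp only [q, RingHom.comp_apply]
    rw [Ideal.Quotient.eq_zero_iff_mem]
    exact Ideal.mem_map_of_mem _ hc
  let g₀ : B →+* (C ⧸ K) ⧸ I := σ.liftOfSurjective hσ ⟨q, hq⟩
  have hg₀ : g₀.comp σ = q := RingHom.liftOfSurjective_comp σ hσ ⟨q, hq⟩
  obtain ⟨g, hg1, hg2⟩ := H (C ⧸ K) h I hI1 hI2 g₀ (by
      rw [← RingHom.comp_assoc, hg₀]
      rfl) (by
      intro b hb
      obtain ⟨c, rfl⟩ := hσ b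
      have hc : c ∈ m := by
        by_contra hcon
        have : IsUnit c := by
          rwa [hm, mem_maximalIdeal, mem_nonunits_iff, not_not] at hcon
        exact hb (this.map σ)
      have : g₀ (σ c) = q c := congr($hg₀ c)
      rw [this, hmT]
      exact Ideal.mem_map_of_mem _ (Ideal.mem_map_of_mem _ hc)) (by
      intro a'
      obtain ⟨c, rfl⟩ := Ideal.Quotient.mk_surjective a'
      refine ⟨σ c, ?_⟩
      have : g₀ (σ c) = q c := congr($hg₀ c)
      rw [this]
      simp [q])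
  refine ⟨g, hg1, fun c => ?_⟩
  rw [← Ideal.Quotient.eq]
  have h1 : Ideal.Quotient.mk I (g (σ c)) = g₀ (σ c) := congr($hg2 (σ c))
  rw [h1]
  exact congr($hg₀ c)

theorem exists_lift_quotient' (α : A →+* C) [IsLocalHom α] (σ : C →+* B)
    (hσ : Function.Surjective σ) (H : ArtinLiftE (σ.comp α)) (n : ℕ) (hn : 0 < n) (K : Ideal C)
    (hK : K = maximalIdeal C * RingHom.ker σ + maximalIdeal C ^ n) :
    ∃ g : B →+* C ⧸ K,
      g.comp (σ.comp α) = (Ideal.Quotient.mk K).comp α ∧
      ∀ c, g (σ c) - Ideal.Quotient.mk K c ∈ (RingHom.ker σ).map (Ideal.Quotient.mk K) := by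
  subst hK
  exact exists_lift_quotient α σ hσ H n hn

/-- Krull intersection in the form used here. -/
theorem mem_mul_of_forall_mem_mul_add_pow (J : Ideal C) (c : C)
    (key : ∀ n : ℕ, 0 < n → c ∈ maximalIdeal C * J + maximalIdeal C ^ n) :
    c ∈ maximalIdeal C * J := by
  set m := maximalIdeal C with hm
  set L : Ideal C := m * J with hLdef
  have hLm : L ≤ m := Ideal.mul_le_left
  have hL : L ≠ ⊤ := fun h => (maximalIdeal.isMaximal C).ne_top (top_le_iff.mp (h ▸ hLm))
  haveI : Nontrivial (C ⧸ L) := Ideal.Quotient.nontrivial_iff.mpr hL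
  haveI : IsLocalRing (C ⧸ L) :=
    IsLocalRing.of_surjective' (Ideal.Quotient.mk L) Ideal.Quotient.mk_surjective
  have hmL : maximalIdeal (C ⧸ L) = m.map (Ideal.Quotient.mk L) :=
    (map_maximalIdeal_of_surjective _ Ideal.Quotient.mk_surjective).symm
  have hmem : Ideal.Quotient.mk L c ∈ (⨅ n : ℕ, maximalIdeal (C ⧸ L) ^ n) := by
    rw [Ideal.mem_iInf]
    intro n
    rcases n with _ | n
    · simp
    · have h1 := key (n + 1) (Nat.succ_pos n)
      rw [hmL, ← Ideal.map_pow]
      obtain ⟨a, ha, b, hb, rfl⟩ := Submodule.mem_sup.mp h1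
      rw [map_add, Ideal.Quotient.eq_zero_iff_mem.mpr ha, zero_add]
      exact Ideal.mem_map_of_mem _ hb
  rw [Ideal.iInf_pow_eq_bot_of_isLocalRing _ (maximalIdeal.isMaximal _).ne_top] at hmem
  exact Ideal.Quotient.eq_zero_iff_mem.mp hmem

end Pieces

/-- `1 ⊗ x = 0` in `K ⊗[P] M` for a quotient `K` of `P` iff `x ∈ ker • ⊤`. -/
theorem one_tmul_eq_zero_iff {P K M : Type*} [CommRing P] [CommRing K] [Algebra P K]
    [AddCommGroup M] [Module P M] (hK : Function.Surjective (algebraMap P K)) (x : M) :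
    (1 : K) ⊗ₜ[P] x = 0 ↔ x ∈ RingHom.ker (algebraMap P K) • (⊤ : Submodule P M) := by
  let e : (P ⧸ RingHom.ker (algebraMap P K)) ≃ₐ[P] K :=
    Ideal.quotientKerAlgEquivOfSurjective (f := Algebra.ofId P K) hK
  have h1 : (e.toLinearEquiv.rTensor M) ((1 : P ⧸ RingHom.ker (algebraMap P K)) ⊗ₜ[P] x) =
      (1 : K) ⊗ₜ[P] x := by
    simp
  rw [← h1, LinearEquiv.map_eq_zero_iff, ← LinearMap.ker_tensorProductMk]
  rfl


section S

open KaehlerDifferential

variable {A P B : Type u} [CommRing A] [CommRing P] [CommRing B]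
    [IsLocalRing P] [IsLocalRing B] [IsNoetherianRing P]
    [Algebra A P] [Algebra P B] [Algebra A B] [IsScalarTower A P B]

theorem formallySmooth_of_artinLiftE [IsLocalHom (algebraMap A P)]
    [Algebra.FormallySmooth A P] [Module.Free P Ω[P⁄A]] [Module.Finite P Ω[P⁄A]]
    (hσ : Function.Surjective (algebraMap P B)) (H : ArtinLiftE (algebraMap A B)) :
    Algebra.FormallySmooth A B := by
  rw [Algebra.FormallySmooth.iff_injective_cotangentComplexBaseChange_residueField P hσ
    (IsNoetherian.noetherian _)]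
  rw [injective_iff_map_eq_zero]
  intro t ht
  haveI := IsLocalHom.of_surjective (algebraMap P B) hσ
  have hκ : Function.Surjective (algebraMap P (ResidueField B)) := by
    rw [IsScalarTower.algebraMap_eq P B]
    exact residue_surjective.comp hσ
  have hker : RingHom.ker (algebraMap P (ResidueField B)) = maximalIdeal P := by
    ext p
    rw [RingHom.mem_ker, IsScalarTower.algebraMap_apply P B, ResidueField.algebraMap_eq,
      residue_eq_zero_iff, ← maximalIdeal_comap (algebraMap P B), Ideal.mem_comap]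
  have H' : ArtinLiftE ((algebraMap P B).comp (algebraMap A P)) := by
    rwa [← IsScalarTower.algebraMap_eq]
  obtain ⟨c, hc⟩ := TensorProduct.mk_surjective P (RingHom.ker (algebraMap P B))
    (ResidueField B) hκ t
  subst hc
  rw [TensorProduct.mk_apply] at ht ⊢
  rw [KaehlerDifferential.cotangentComplexBaseChange_tmul, one_smul,
    KaehlerDifferential.kerToTensor_apply] at ht
  have hD : D A P (c : P) ∈ maximalIdeal P • (⊤ : Submodule P Ω[P⁄A]) := by
    rw [← hker]
    exact (one_tmul_eq_zero_iff hκ _).mp ht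
  have key : ∀ n : ℕ, 0 < n →
      (c : P) ∈ maximalIdeal P * RingHom.ker (algebraMap P B) + maximalIdeal P ^ n := by
    intro n hn
    obtain ⟨K, hK⟩ : ∃ K : Ideal P,
      K = maximalIdeal P * RingHom.ker (algebraMap P B) + maximalIdeal P ^ n := ⟨_, rfl⟩
    obtain ⟨g, hg1, hg2⟩ :=
      exists_lift_quotient' (algebraMap A P) (algebraMap P B) hσ H' n hn K hK
    obtain ⟨I, hI⟩ : ∃ I : Ideal (P ⧸ K),
      I = (RingHom.ker (algebraMap P B)).map (Ideal.Quotient.mk K) := ⟨_, rfl⟩
    rw [← hI] at hg2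
    rw [← hK]
    have hIm : I * (maximalIdeal P).map (Ideal.Quotient.mk K) = ⊥ := by
      rw [hI, ← Ideal.map_mul, Ideal.map_eq_bot_iff_le_ker, Ideal.mk_ker, mul_comm, hK]
      exact le_sup_left
    have hI2 : I ^ 2 = ⊥ := by
      rw [pow_two, ← le_bot_iff, ← hIm]
      refine Ideal.mul_mono_right ?_
      rw [hI]
      exact Ideal.map_mono (le_maximalIdeal (RingHom.ker_ne_top _))
    let u₁ : P →ₐ[A] P ⧸ K := ⟨g.comp (algebraMap P B), fun a => by
        exact congr($hg1 a)⟩
    have e : (Ideal.Quotient.mkₐ A I).comp u₁ = IsScalarTower.toAlgHom A P ((P ⧸ K) ⧸ I) :=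
      AlgHom.ext fun p => Ideal.Quotient.eq.mpr (hg2 p)
    let Dn : Derivation A P I := derivationToSquareZeroOfLift I hI2 u₁ e
    let l : Ω[P⁄A] →ₗ[P] I := Dn.liftKaehlerDifferential
    have hl : l (D A P c) = Dn c := Derivation.liftKaehlerDifferential_comp_D Dn c
    have hl0 : ∀ y ∈ maximalIdeal P • (⊤ : Submodule P Ω[P⁄A]), l y = 0 := by
      intro y hy
      refine Submodule.smul_induction_on hy (fun p hp ω _ => ?_)
        (fun y z hy hz => by rw [map_add, hy, hz, add_zero])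
      rw [map_smul]
      apply Subtype.ext
      show (p • (l ω : P ⧸ K)) = 0
      rw [Algebra.smul_def, Ideal.Quotient.algebraMap_eq, mul_comm]
      have : (l ω : P ⧸ K) * Ideal.Quotient.mk K p ∈
          I * (maximalIdeal P).map (Ideal.Quotient.mk K) :=
        Ideal.mul_mem_mul (l ω).2 (Ideal.mem_map_of_mem _ hp)
      rwa [hIm, Ideal.mem_bot] at this
    have h0 : (Dn c : P ⧸ K) = 0 := by
      rw [← hl, hl0 _ hD]
      rfl
    rw [derivationToSquareZeroOfLift_apply] at h0
    have hc0 : u₁ c = 0 := by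
      show g (algebraMap P B c) = 0
      rw [(RingHom.mem_ker).mp c.2, map_zero]
    rw [hc0, zero_sub, neg_eq_zero] at h0
    exact Ideal.Quotient.eq_zero_iff_mem.mp h0
  have hcm := mem_mul_of_forall_mem_mul_add_pow _ (c : P) key
  rw [one_tmul_eq_zero_iff hκ, hker, Submodule.mem_smul_top_iff]
  simpa [smul_eq_mul] using hcm

end S

end Groth.Agent.Lib.Helper35
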