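import Mathlib.RingTheory.Flat.Localization
import Mathlib.RingTheory.Localization.BaseChange
import Mathlib.RingTheory.IsTensorProduct
import Mathlib.RingTheory.Ideal.GoingUp
import Mathlib.RingTheory.Unramified.Locus
import Mathlib.RingTheory.Etale.Kaehler
import Mathlib.RingTheory.Kaehler.TensorProduct
import Mathlib.RingTheory.Flat.FaithfullyFlat.Algebra
import Groth.Agent.Lib.Helper6.FlatCancel

set_option autoImplicit false
set_option linter.style.haveILetI false
universe u

namespace Groth.Agent.Lib.Helper35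

open TensorProduct Algebra

section

variable {R S R' S' : Type u} [CommRing R] [CommRing S] [CommRing R'] [CommRing S']
  [Algebra R S] [Algebra R R'] [Algebra S S'] [Algebra R' S'] [Algebra R S']
  [IsScalarTower R S S'] [IsScalarTower R R' S'] [Algebra.IsPushout R S R' S']

/-- **pointwise base change of flatness**: in a pushout square `S' = S ⊗[R] R'`, if `R'` is flat over
`R` at the prime `p'`, then `S'` is flat over `S` at every prime `q'` over `p'`. -/
lemma flat_atPrime_of_isPushout (p' : Ideal R') [p'.IsPrime] (q' : Ideal S') [q'.IsPrime]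
    [q'.LiesOver p'] [Module.Flat R (Localization.AtPrime p')] :
    Module.Flat S (Localization.AtPrime q') := by
  let Rp' := Localization.AtPrime p'
  let Sp' := Localization (algebraMapSubmonoid S' p'.primeCompl)
  let Sq' := Localization.AtPrime q'
  let := Localization.AtPrime.algebraOfLiesOver p' q'
  let f : Sp' →ₐ[S'] Sq' := IsLocalization.liftAlgHom (M := algebraMapSubmonoid S' p'.primeCompl)
        (f := Algebra.ofId _ _) (by
      rintro ⟨_, x, hx, rfl⟩
      simpa using! IsLocalization.map_units (M := q'.primeCompl) Sq' ⟨algebraMap _ _ x,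
        by simp_all [q'.over_def p']⟩)
  algebraize [f.toRingHom]
  have : IsLocalization (algebraMapSubmonoid Sp' q'.primeCompl) Sq' :=
    .isLocalization_of_submonoid_le _ _ (algebraMapSubmonoid S' p'.primeCompl) _
    (by rintro _ ⟨x, hx, rfl⟩; simp_all [q'.over_def p'])
  have h1 : Algebra.IsPushout R' S' Rp' Sp' :=
    Algebra.isPushout_of_isLocalization p'.primeCompl _ _ _
  have hL : Algebra.IsPushout R R' S S' := .symm inferInstance
  have : IsScalarTower R Rp' Sp' := .to₁₃₄ R R' Rp' Sp'
  have hBig : Algebra.IsPushout R Rp' S Sp' :=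
    (Algebra.IsPushout.comp_iff R R' S (S' := S') (T := Rp') (T' := Sp')).mpr h1.symm
  have hBig' : Algebra.IsPushout R S Rp' Sp' := hBig.symm
  have hfl1 : Module.Flat S Sp' :=
    Module.Flat.of_linearEquiv (Algebra.IsPushout.equiv R S Rp' Sp').symm.toLinearEquiv
  have hfl2 : Module.Flat Sp' Sq' := IsLocalization.flat _ (algebraMapSubmonoid Sp' q'.primeCompl)
  have : IsScalarTower S Sp' Sq' := .to₁₃₄ _ S' _ _
  exact Module.Flat.trans S Sp' Sq'

/-- **pointwise descent of unramifiedness along a flat base change**: in a pushout square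
`S' = S ⊗[R] R'`, if `S'_{q'}` is flat over `S` and formally unramified over `R'`, then `S_q` is
formally unramified over `R`, `q = q' ∩ S`. -/
lemma formallyUnramified_atPrime_of_isPushout (q : Ideal S) [q.IsPrime] (q' : Ideal S') [q'.IsPrime]
    [q'.LiesOver q] [Module.Flat S (Localization.AtPrime q')]
    [Algebra.FormallyUnramified R' (Localization.AtPrime q')] :
    Algebra.FormallyUnramified R (Localization.AtPrime q) := by
  let Sq := Localization.AtPrime q
  let Sq' := Localization.AtPrime q'
  let := Localization.AtPrime.algebraOfLiesOver q q'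
  have hfl : Module.Flat Sq Sq' :=
    (Module.flat_iff_of_isLocalization Sq q.primeCompl Sq').mpr inferInstance
  have hloc : IsLocalHom (algebraMap Sq Sq') := by
    change IsLocalHom (Localization.localRingHom q q' (algebraMap S S') Ideal.LiesOver.over)
    infer_instance
  have hff : Module.FaithfullyFlat Sq Sq' := Module.FaithfullyFlat.of_flat_of_isLocalHom
  have hP : Algebra.IsPushout R R' S S' := .symm inferInstance
  -- the chain of isomorphisms
  have e1 : Sq' ⊗[S'] Ω[S'⁄R'] ≃ₗ[Sq'] Ω[Sq'⁄R'] :=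
    KaehlerDifferential.tensorKaehlerEquivOfFormallyEtale R' S' Sq'
  have e2 : S' ⊗[S] Ω[S⁄R] ≃ₗ[S'] Ω[S'⁄R'] := KaehlerDifferential.tensorKaehlerEquiv R R' S S'
  have e3 : Sq' ⊗[S'] (S' ⊗[S] Ω[S⁄R]) ≃ₗ[Sq'] Sq' ⊗[S] Ω[S⁄R] :=
    AlgebraTensorModule.cancelBaseChange S S' Sq' Sq' Ω[S⁄R]
  have e4 : Sq' ⊗[Sq] (Sq ⊗[S] Ω[S⁄R]) ≃ₗ[Sq'] Sq' ⊗[S] Ω[S⁄R] :=
    AlgebraTensorModule.cancelBaseChange S Sq Sq' Sq' Ω[S⁄R]
  have e5 : Sq ⊗[S] Ω[S⁄R] ≃ₗ[Sq] Ω[Sq⁄R] :=
    KaehlerDifferential.tensorKaehlerEquivOfFormallyEtale R S Sq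
  have h0 : Subsingleton Ω[Sq'⁄R'] := inferInstance
  have h1 : Subsingleton (Sq' ⊗[S'] Ω[S'⁄R']) := e1.toEquiv.subsingleton
  have h2 : Subsingleton (Sq' ⊗[S'] (S' ⊗[S] Ω[S⁄R])) :=
    (TensorProduct.congr (LinearEquiv.refl S' Sq') e2).toEquiv.subsingleton
  have h3 : Subsingleton (Sq' ⊗[S] Ω[S⁄R]) := e3.symm.toEquiv.subsingleton
  have h4 : Subsingleton (Sq' ⊗[Sq] (Sq ⊗[S] Ω[S⁄R])) := e4.toEquiv.subsingleton
  have h5 : Subsingleton (Sq' ⊗[Sq] Ω[Sq⁄R]) :=
    (TensorProduct.congr (LinearEquiv.refl Sq Sq') e5).symm.toEquiv.subsingleton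
  have h6 : Subsingleton Ω[Sq⁄R] := Module.FaithfullyFlat.lTensor_reflects_triviality Sq Sq' _
  exact ⟨h6⟩

/-- **pointwise descent of flat + unramified (= étale) along a base change flat at the point**. -/
lemma flat_and_formallyUnramified_atPrime_of_isPushout (p' : Ideal R') [p'.IsPrime]
    (q : Ideal S) [q.IsPrime] (q' : Ideal S') [q'.IsPrime] [q'.LiesOver p'] [q'.LiesOver q]
    [Module.Flat R (Localization.AtPrime p')] [Module.Flat R' (Localization.AtPrime q')]
    [Algebra.FormallyUnramified R' (Localization.AtPrime q')] :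
    Module.Flat R (Localization.AtPrime q) ∧
      Algebra.FormallyUnramified R (Localization.AtPrime q) := by
  have hS : Module.Flat S (Localization.AtPrime q') := flat_atPrime_of_isPushout (R := R) p' q'
  refine ⟨?_, formallyUnramified_atPrime_of_isPushout (R := R) (R' := R') q q'⟩
  let Rp' := Localization.AtPrime p'
  let Sq := Localization.AtPrime q
  let Sq' := Localization.AtPrime q'
  let := Localization.AtPrime.algebraOfLiesOver p' q'
  let := Localization.AtPrime.algebraOfLiesOver q q'
  have h1 : Module.Flat Rp' Sq' :=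
    (Module.flat_iff_of_isLocalization Rp' p'.primeCompl Sq').mpr inferInstance
  have h2 : Module.Flat R Sq' := Module.Flat.trans R Rp' Sq'
  have hfl : Module.Flat Sq Sq' :=
    (Module.flat_iff_of_isLocalization Sq q.primeCompl Sq').mpr inferInstance
  have hloc : IsLocalHom (algebraMap Sq Sq') := by
    change IsLocalHom (Localization.localRingHom q q' (algebraMap S S') Ideal.LiesOver.over)
    infer_instance
  have hff : Module.FaithfullyFlat Sq Sq' := Module.FaithfullyFlat.of_flat_of_isLocalHom
  exact Groth.Agent.Lib.Helper6.flat_of_flat_of_factor_faithfullyFlat (A := R) (B := Sq) (C := Sq')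
    (D := Sq')

end

end Groth.Agent.Lib.Helper35
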