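import Mathlib
import Groth.Prelude.Def_RegImm
import Groth.Agent.Lib.Helper35.RegSlice8
import Groth.Agent.Lib.Helper67.FibLoc
import Groth.Agent.Lib.Helper65.CIPres3
import Groth.Agent.Lib.Helper65.CIPres6
import Groth.Agent.Lib.Helper15.FlatEquidim
import Groth.Agent.Lib.Helper77.QuasiRegCot
import Groth.Agent.Lib.Helper62.GCIField6

/-!
# Relative global complete intersections (helper35)

For `S = R[x_1..x_n]/(F_1..F_c)` with all nonempty fibres of dimension `n - c`:
`F` is a regular sequence in `R[x]_{q'}` with `R`-flat successive quotients (`main`),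
`S` is flat over `R` (`flat`), the conormal module is free on the classes of the `F_i`
(`cotangent`), and `S` is syntomic over `R` (`isSyntomic`).
-/

set_option autoImplicit false
set_option linter.style.haveILetI false
set_option maxHeartbeats 800000
universe u

open TensorProduct RingTheory.Sequence

namespace Groth.Agent.Lib.Helper35.RelGCI

theorem arith (x y z : WithBot ℕ∞) (n c : ℕ) (hc : c ≤ n) (h1 : x + z = n)
    (h2 : y + z ≤ ((n - c : ℕ) : WithBot ℕ∞)) (hx : 0 ≤ x) (hz : 0 ≤ z) : y + c ≤ x := by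
  have hzn : z ≤ n := by
    calc z = 0 + z := by simp
      _ ≤ x + z := by gcongr
      _ = n := h1
  obtain ⟨m, rfl⟩ : ∃ m : ℕ, z = m := by
    have hz' : z ≠ ⊥ := fun h => by simp [h] at hz
    obtain ⟨z', rfl⟩ := WithBot.ne_bot_iff_exists.1 hz'
    have : z' ≤ (n : ℕ∞) := by exact_mod_cast hzn
    obtain ⟨m, rfl⟩ := ENat.ne_top_iff_exists.1 (ne_top_of_le_ne_top (ENat.natCast_ne_top n) this)
    exact ⟨m, rfl⟩
  have hmn : m ≤ n := by exact_mod_cast hzn
  have hx' : x ≠ ⊥ := fun h => by simp [h] at hx
  obtain ⟨x', rfl⟩ := WithBot.ne_bot_iff_exists.1 hx'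
  have hx'' : x' ≠ ⊤ := by
    rintro rfl
    have : ((⊤ : ℕ∞) : WithBot ℕ∞) + (m : WithBot ℕ∞) = ((⊤ : ℕ∞) : WithBot ℕ∞) := by
      rw [← WithBot.coe_natCast, ← WithBot.coe_add]; simp
    rw [this] at h1
    have h3 : ((⊤ : ℕ∞) : WithBot ℕ∞) = ((n : ℕ∞) : WithBot ℕ∞) := h1
    exact ENat.top_ne_natCast n (WithBot.coe_injective h3)
  obtain ⟨a, rfl⟩ := ENat.ne_top_iff_exists.1 hx''
  have ha : a + m = n := by
    have : (((a + m : ℕ) : ℕ∞) : WithBot ℕ∞) = ((n : ℕ∞) : WithBot ℕ∞) := by
      push_cast
      exact h1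
    exact_mod_cast this
  rcases eq_or_ne y ⊥ with rfl | hy
  · simp
  obtain ⟨y', rfl⟩ := WithBot.ne_bot_iff_exists.1 hy
  have hy' : y' ≠ ⊤ := by
    rintro rfl
    have : ((⊤ : ℕ∞) : WithBot ℕ∞) + (m : WithBot ℕ∞) = ((⊤ : ℕ∞) : WithBot ℕ∞) := by
      rw [← WithBot.coe_natCast, ← WithBot.coe_add]; simp
    rw [this] at h2
    have h3 : ((⊤ : ℕ∞) : WithBot ℕ∞) ≤ (((n - c : ℕ) : ℕ∞) : WithBot ℕ∞) := h2
    have h4 : (⊤ : ℕ∞) ≤ ((n - c : ℕ) : ℕ∞) := WithBot.coe_le_coe.1 h3
    exact absurd (top_le_iff.1 h4) (ENat.natCast_ne_top _)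
  obtain ⟨b, rfl⟩ := ENat.ne_top_iff_exists.1 hy'
  have hb : b + m ≤ n - c := by
    have : (((b + m : ℕ) : ℕ∞) : WithBot ℕ∞) ≤ (((n - c : ℕ) : ℕ∞) : WithBot ℕ∞) := by
      push_cast
      exact h2
    exact_mod_cast this
  have : b + c ≤ a := by omega
  have h4 : (((b + c : ℕ) : ℕ∞) : WithBot ℕ∞) ≤ ((a : ℕ∞) : WithBot ℕ∞) := by exact_mod_cast this
  push_cast at h4
  exact h4

theorem exists_fibre_prime {R S : Type u} [CommRing R] [CommRing S] [Algebra R S] (p : Ideal R)
    [p.IsPrime] (q : Ideal S) [hqp : q.IsPrime] (hq : q.comap (algebraMap R S) = p) :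
    ∃ Q : Ideal (p.Fiber S), Q.IsPrime ∧
      Q.comap (Algebra.TensorProduct.includeRight : S →ₐ[R] p.Fiber S) = q := by
  let P : PrimeSpectrum R := ⟨p, inferInstance⟩
  let x : (PrimeSpectrum.comap (algebraMap R S)) ⁻¹' {P} :=
    ⟨⟨q, hqp⟩, by
      apply PrimeSpectrum.ext
      exact hq⟩
  have h := (PrimeSpectrum.preimageEquivFiber R S P).symm_apply_apply x
  refine ⟨((PrimeSpectrum.preimageEquivFiber R S P) x).asIdeal, inferInstance, ?_⟩
  have h2 := congrArg (fun y => y.1.asIdeal) h
  exact h2

theorem ofList_ofFn {A : Type*} [CommRing A] {c : ℕ} (F : Fin c → A) :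
    Ideal.ofList (List.ofFn F) = Ideal.span (Set.range F) := by
  unfold Ideal.ofList
  congr 1
  ext x
  simp [List.mem_ofFn]

theorem ofList_map {A B : Type*} [CommRing A] [CommRing B] (f : A →+* B) (l : List A) :
    Ideal.ofList (l.map f) = (Ideal.ofList l).map f := by
  unfold Ideal.ofList
  rw [Ideal.map_span]
  congr 1
  ext x
  simp

/-- the fibre ring of a polynomial ring is a regular ring, a domain of dimension `n`. -/
theorem fibre_poly (R : Type u) [CommRing R] (n : ℕ) (p : Ideal R) [p.IsPrime] :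
    IsRegularRing (p.Fiber (MvPolynomial (Fin n) R)) ∧ IsDomain (p.Fiber (MvPolynomial (Fin n) R)) ∧
      ringKrullDim (p.Fiber (MvPolynomial (Fin n) R)) = n ∧
      Algebra.FiniteType p.ResidueField (p.Fiber (MvPolynomial (Fin n) R)) := by
  let e : p.Fiber (MvPolynomial (Fin n) R) ≃ₐ[p.ResidueField] MvPolynomial (Fin n) p.ResidueField :=
    MvPolynomial.algebraTensorAlgEquiv R p.ResidueField
  haveI : IsRegularRing (MvPolynomial (Fin n) p.ResidueField) := inferInstance
  refine ⟨IsRegularRing.of_ringEquiv e.symm.toRingEquiv, ?_, ?_, ?_⟩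
  · exact e.toRingEquiv.isDomain_iff.2 inferInstance
  · rw [ringKrullDim_eq_of_ringEquiv e.toRingEquiv, MvPolynomial.ringKrullDim_of_isNoetherianRing,
      ringKrullDim_eq_zero_of_field]
    simp
  · exact Algebra.FiniteType.equiv inferInstance e.symm

section
variable {R P : Type u} [CommRing R] [CommRing P] [Algebra R P]

/-- primes of the fibre of a quotient. -/
theorem exists_fibre_primes (I : Ideal P) (q' : Ideal P) [q'.IsPrime] (hq' : I ≤ q')
    (p : Ideal R) [p.IsPrime] (hp : q'.comap (algebraMap R P) = p) :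
    ∃ (qb : Ideal (P ⧸ I)) (_ : qb.IsPrime) (Qb : Ideal (p.Fiber (P ⧸ I))) (_ : Qb.IsPrime)
      (Q : Ideal (p.Fiber P)) (_ : Q.IsPrime),
      qb.comap (Ideal.Quotient.mk I) = q' ∧
      Qb.comap (Algebra.TensorProduct.includeRight : (P ⧸ I) →ₐ[R] p.Fiber (P ⧸ I)) = qb ∧
      Q.comap (Algebra.TensorProduct.includeRight : P →ₐ[R] p.Fiber P) = q' ∧
      ringKrullDim (p.Fiber P ⧸ Q) = ringKrullDim (p.Fiber (P ⧸ I) ⧸ Qb) := by
  have hker : RingHom.ker (Ideal.Quotient.mk I) ≤ q' := by rw [Ideal.mk_ker]; exact hq'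
  haveI hqbar : (q'.map (Ideal.Quotient.mk I)).IsPrime :=
    Ideal.map_isPrime_of_surjective Ideal.Quotient.mk_surjective hker
  have hqbc : (q'.map (Ideal.Quotient.mk I)).comap (Ideal.Quotient.mk I) = q' := by
    rw [Ideal.comap_map_of_surjective _ Ideal.Quotient.mk_surjective, sup_eq_left,
      ← RingHom.ker_eq_comap_bot]
    exact hker
  have hqbp : (q'.map (Ideal.Quotient.mk I)).comap (algebraMap R (P ⧸ I)) = p := by
    rw [← hp]
    conv_rhs => rw [← hqbc]
    rw [Ideal.comap_comap]
    rfl
  obtain ⟨Qb, hQbprime, hQb⟩ := exists_fibre_prime p (q'.map (Ideal.Quotient.mk I)) hqbp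
  let φ : p.Fiber P →ₐ[p.ResidueField] p.Fiber (P ⧸ I) :=
    Algebra.TensorProduct.map (AlgHom.id _ _) (Ideal.Quotient.mkₐ R I)
  have hφ : Function.Surjective φ.toRingHom := by
    intro y
    induction y using TensorProduct.induction_on with
    | zero => exact ⟨0, map_zero _⟩
    | tmul a b =>
      obtain ⟨b', rfl⟩ := Ideal.Quotient.mk_surjective b
      exact ⟨a ⊗ₜ b', by simp [φ]⟩
    | add x y hx hy =>
      obtain ⟨x', rfl⟩ := hx
      obtain ⟨y', rfl⟩ := hy
      exact ⟨x' + y', map_add _ _ _⟩
  haveI : (Qb.comap φ.toRingHom).IsPrime := Ideal.comap_isPrime _ _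
  refine ⟨_, hqbar, Qb, hQbprime, Qb.comap φ.toRingHom, inferInstance, hqbc, hQb, ?_, ?_⟩
  · conv_rhs => rw [← hqbc, ← hQb]
    ext x
    simp only [Ideal.mem_comap]
    have : φ.toRingHom ((Algebra.TensorProduct.includeRight : P →ₐ[R] p.Fiber P) x) =
        (Algebra.TensorProduct.includeRight : (P ⧸ I) →ₐ[R] p.Fiber (P ⧸ I))
          (Ideal.Quotient.mk I x) := by
      simp [φ]
    rw [this]
  · exact Groth.Agent.Lib.Helper67.FibLoc.ringKrullDim_quotient_comap_of_surjective _ hφ Qb

end

open Groth.Agent.Lib.Helper67 in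
theorem fibre_regular (R : Type u) [CommRing R] (n c : ℕ) (hcn : c ≤ n)
    (F : Fin c → MvPolynomial (Fin n) R)
    (q' : Ideal (MvPolynomial (Fin n) R)) [q'.IsPrime] (hq' : Ideal.span (Set.range F) ≤ q')
    (hdim : ringKrullDim ((q'.comap (algebraMap R (MvPolynomial (Fin n) R))).Fiber
      (MvPolynomial (Fin n) R ⧸ Ideal.span (Set.range F))) = ((n - c : ℕ) : WithBot ℕ∞)) :
    IsRegular (EGA4.FibLocRing R (MvPolynomial (Fin n) R) q')
      ((List.ofFn F).map (algebraMap (MvPolynomial (Fin n) R)
        (EGA4.FibLocRing R (MvPolynomial (Fin n) R) q'))) := by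
  obtain ⟨qb, hqbP, Qb, hQbP, Q, hQP, hqbc, hQb, hQ, hdq⟩ :=
    exists_fibre_primes (R := R) (Ideal.span (Set.range F)) q' hq'
      (q'.comap (algebraMap R (MvPolynomial (Fin n) R))) rfl
  obtain ⟨e1⟩ := FibLoc.nonempty_ringEquiv _ Q q' hQ
  obtain ⟨e2⟩ := FibLoc.nonempty_ringEquiv_quotient (R := R) (Ideal.span (Set.range F)) qb q' hqbc
  obtain ⟨e3⟩ := FibLoc.nonempty_ringEquiv _ Qb qb hQb
  obtain ⟨hreg, hdom, hdimT, hft⟩ :=
    fibre_poly R n (q'.comap (algebraMap R (MvPolynomial (Fin n) R)))
  haveI := hreg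
  haveI := hdom
  haveI := hft
  haveI : IsRegularLocalRing (Localization.AtPrime Q) := inferInstance
  haveI : IsLocalRing (EGA4.FibLocRing R (MvPolynomial (Fin n) R) q') := e1.isLocalRing
  haveI : IsRegularLocalRing (EGA4.FibLocRing R (MvPolynomial (Fin n) R) q') :=
    IsRegularLocalRing.of_ringEquiv (R := Localization.AtPrime Q) e1
  haveI hCM := Groth.Agent.Lib.Helper65.CIPres.isCM_of_isRegularLocalRing
    (EGA4.FibLocRing R (MvPolynomial (Fin n) R) q')
  -- dimensions
  have hd1 : ringKrullDim (EGA4.FibLocRing R (MvPolynomial (Fin n) R) q') =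
      ringKrullDim (Localization.AtPrime Q) := (ringKrullDim_eq_of_ringEquiv e1).symm
  have heq : ∀ Pm ∈ minimalPrimes
      ((q'.comap (algebraMap R (MvPolynomial (Fin n) R))).Fiber (MvPolynomial (Fin n) R)),
      ringKrullDim (((q'.comap (algebraMap R (MvPolynomial (Fin n) R))).Fiber
        (MvPolynomial (Fin n) R)) ⧸ Pm) = (n : WithBot ℕ∞) := by
    intro Pm hPm
    rw [IsDomain.minimalPrimes_eq_singleton_bot, Set.mem_singleton_iff] at hPm
    subst hPm
    rw [ringKrullDim_eq_of_ringEquiv (RingEquiv.quotientBot _), hdimT]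
  have hd2 := FibLoc.localDim_eq_of_equidim
    (q'.comap (algebraMap R (MvPolynomial (Fin n) R))).ResidueField _ n heq Q
  have hd3 : ringKrullDim (EGA4.FibLocRing R (MvPolynomial (Fin n) R) q' ⧸
      (Ideal.span (Set.range F)).map (algebraMap (MvPolynomial (Fin n) R)
        (EGA4.FibLocRing R (MvPolynomial (Fin n) R) q'))) = Qb.height := by
    rw [ringKrullDim_eq_of_ringEquiv e2, ← ringKrullDim_eq_of_ringEquiv e3]
    exact IsLocalization.AtPrime.ringKrullDim_eq_height Qb (Localization.AtPrime Qb)
  have hd4 := Groth.Agent.Lib.Helper15.FlatEquidim.height_add_dim_quotient_le _ Qb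
  rw [hdim] at hd4
  have hxs : Ideal.ofList ((List.ofFn F).map (algebraMap (MvPolynomial (Fin n) R)
      (EGA4.FibLocRing R (MvPolynomial (Fin n) R) q'))) =
      (Ideal.span (Set.range F)).map (algebraMap (MvPolynomial (Fin n) R)
        (EGA4.FibLocRing R (MvPolynomial (Fin n) R) q')) := by
    rw [ofList_map, ofList_ofFn]
  have hmem : ∀ x ∈ (List.ofFn F).map (algebraMap (MvPolynomial (Fin n) R)
      (EGA4.FibLocRing R (MvPolynomial (Fin n) R) q')),
      x ∈ IsLocalRing.maximalIdeal (EGA4.FibLocRing R (MvPolynomial (Fin n) R) q') := by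
    intro x hx
    rw [List.mem_map] at hx
    obtain ⟨f, hf, rfl⟩ := hx
    rw [List.mem_ofFn] at hf
    obtain ⟨i, rfl⟩ := hf
    have hFq : F i ∈ q' := hq' (Ideal.subset_span ⟨i, rfl⟩)
    have h1 : algebraMap (MvPolynomial (Fin n) R) (Localization.AtPrime q') (F i) ∈
        IsLocalRing.maximalIdeal (Localization.AtPrime q') :=
      (IsLocalization.AtPrime.to_map_mem_maximal_iff _ q' _).2 hFq
    haveI : IsLocalHom (Ideal.Quotient.mk
        ((q'.comap (algebraMap R (MvPolynomial (Fin n) R))).map
          (algebraMap R (Localization.AtPrime q')))) :=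
      IsLocalHom.of_surjective _ Ideal.Quotient.mk_surjective
    rw [IsLocalRing.mem_maximalIdeal, mem_nonunits_iff] at h1 ⊢
    intro hu
    apply h1
    have h2 : algebraMap (MvPolynomial (Fin n) R)
        (EGA4.FibLocRing R (MvPolynomial (Fin n) R) q') (F i) =
        Ideal.Quotient.mk _ (algebraMap (MvPolynomial (Fin n) R) (Localization.AtPrime q') (F i)) :=
      rfl
    rw [h2] at hu
    exact isUnit_of_map_unit _ _ hu
  have key := FibLoc.isRegular_iff_of_isCM (EGA4.FibLocRing R (MvPolynomial (Fin n) R) q') _ hmem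
  refine key.1.2 (le_antisymm ?_ key.2)
  rw [hxs, List.length_map, List.length_ofFn, hd3, hd1]
  refine arith _ _ _ n c hcn hd2 ?_ ?_ ?_
  · rw [hdq]; exact hd4
  · exact ringKrullDim_nonneg_of_nontrivial
  · exact ringKrullDim_nonneg_of_nontrivial

theorem wreg_module_of_ring {B : Type*} [CommRing B] (J J' : Ideal B) (hJ : J' = J) (xs : List B)
    (h : IsWeaklyRegular (B ⧸ J) (xs.map (Ideal.Quotient.mk J))) : IsWeaklyRegular (B ⧸ J') xs := by
  subst hJ
  exact (isWeaklyRegular_map_algebraMap_iff (B ⧸ J') (B ⧸ J') xs).1 h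

open Groth.Agent.Lib.Helper35 in
theorem good (R : Type u) [CommRing R] (n c : ℕ) (hcn : c ≤ n)
    (F : Fin c → MvPolynomial (Fin n) R)
    (q' : Ideal (MvPolynomial (Fin n) R)) [q'.IsPrime] (hq' : Ideal.span (Set.range F) ≤ q')
    (hdim : ringKrullDim ((q'.comap (algebraMap R (MvPolynomial (Fin n) R))).Fiber
      (MvPolynomial (Fin n) R ⧸ Ideal.span (Set.range F))) = ((n - c : ℕ) : WithBot ℕ∞)) :
    RegSlice8.Good R (MvPolynomial (Fin n) R) q' (List.ofFn F) := by
  haveI : q'.LiesOver (q'.comap (algebraMap R (MvPolynomial (Fin n) R))) := ⟨rfl⟩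
  have hreg := fibre_regular R n c hcn F q' hq' hdim
  refine RegSlice8.iter_slice (q'.comap (algebraMap R (MvPolynomial (Fin n) R)))
    (Localization.AtPrime (q'.comap (algebraMap R (MvPolynomial (Fin n) R)))) c
    (MvPolynomial (Fin n) R) q' (Localization.AtPrime q')
    (Localization.localRingHom _ q' (algebraMap R (MvPolynomial (Fin n) R)) rfl) ?_ ?_
    (List.ofFn F) (List.length_ofFn) ?_ ?_
  · ext x
    exact Localization.localRingHom_to_map _ _ _ rfl x
  · exact RingHom.Flat.localRingHom (RingHom.flat_algebraMap_iff.2 inferInstance) q' _ rfl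
  · intro g hg
    rw [List.mem_ofFn] at hg
    obtain ⟨i, rfl⟩ := hg
    exact hq' (Ideal.subset_span ⟨i, rfl⟩)
  · refine wreg_module_of_ring ((q'.comap (algebraMap R (MvPolynomial (Fin n) R))).map
      (algebraMap R (Localization.AtPrime q'))) _ ?_ _ ?_
    · rw [← Localization.AtPrime.map_eq_maximalIdeal, Ideal.map_map]
      congr 1
      ext x
      rw [RingHom.comp_apply, Localization.localRingHom_to_map _ _ _ rfl x]
      exact (IsScalarTower.algebraMap_apply R (MvPolynomial (Fin n) R) (Localization.AtPrime q') x).symm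
    · have := hreg.toIsWeaklyRegular
      rw [List.map_map]
      exact this

/-- The quotient by an ideal commutes with localization. -/
theorem exists_isLocalizedModule_quot_ideal {B B' : Type*} [CommRing B] [CommRing B'] [Algebra B B']
    (W : Submonoid B) [IsLocalization W B'] (J : Ideal B) :
    ∃ ℓ : (B ⧸ J) →ₗ[B] (B' ⧸ J.map (algebraMap B B')), IsLocalizedModule W ℓ := by
  let f : B →ₗ[B] B' := Algebra.linearMap B B'
  haveI : IsLocalizedModule W f := inferInstance
  have heq : Submodule.localized' B' W f J = J.map (algebraMap B B') :=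
    Ideal.localized'_eq_map B' W J
  let e : (B' ⧸ Submodule.localized' B' W f J) ≃ₗ[B] (B' ⧸ J.map (algebraMap B B')) :=
    (Submodule.quotEquivOfEq _ _ heq).restrictScalars B
  exact ⟨e.toLinearMap ∘ₗ Submodule.toLocalizedQuotient' B' W f J,
    IsLocalizedModule.of_linearEquiv W _ e⟩

open Groth.Agent.Lib.Helper35 in
theorem local_of_good {A B : Type u} [CommRing A] [CommRing B] [Algebra A B]
    (q : Ideal B) [q.IsPrime] (gs : List B) (hgs : ∀ g ∈ gs, g ∈ q)
    (hg : RegSlice8.Good A B q gs) :
    IsRegular (Localization.AtPrime q) (gs.map (algebraMap B (Localization.AtPrime q))) ∧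
      ∀ j : ℕ, Module.Flat A (Localization.AtPrime q ⧸
        Ideal.ofList ((gs.take j).map (algebraMap B (Localization.AtPrime q)))) := by
  obtain ⟨w, hwq, H⟩ := hg
  obtain ⟨hwr, hfl⟩ := H w (dvd_refl w) (Localization.Away w)
  have hle : Submonoid.powers w ≤ q.primeCompl := by
    rintro _ ⟨k, rfl⟩
    exact fun h => hwq (Ideal.IsPrime.mem_of_pow_mem inferInstance k h)
  constructor
  · have hunit : IsUnit (algebraMap B (Localization.AtPrime q) w) :=
      IsLocalization.map_units _ (⟨w, hwq⟩ : q.primeCompl)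
    letI : Algebra (Localization.Away w) (Localization.AtPrime q) :=
      (IsLocalization.Away.lift w hunit).toAlgebra
    haveI : IsScalarTower B (Localization.Away w) (Localization.AtPrime q) :=
      IsScalarTower.of_algebraMap_eq (fun x => (IsLocalization.Away.lift_eq w hunit x).symm)
    haveI : IsLocalization (q.primeCompl.map (algebraMap B (Localization.Away w)))
        (Localization.AtPrime q) :=
      IsLocalization.isLocalization_of_submonoid_le _ _ (Submonoid.powers w) q.primeCompl hle
    haveI : Module.Flat (Localization.Away w) (Localization.AtPrime q) :=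
      IsLocalization.flat _ (q.primeCompl.map (algebraMap B (Localization.Away w)))
    have h3 := hwr.of_flat (S := Localization.AtPrime q)
    rw [List.map_map] at h3
    have hcomp : (algebraMap (Localization.Away w) (Localization.AtPrime q)) ∘
        (algebraMap B (Localization.Away w)) = algebraMap B (Localization.AtPrime q) := by
      ext x
      exact (IsScalarTower.algebraMap_apply B (Localization.Away w) (Localization.AtPrime q) x).symm
    rw [hcomp] at h3
    refine ⟨h3, ?_⟩
    intro htop
    have hle' : Ideal.ofList (gs.map (algebraMap B (Localization.AtPrime q))) ≤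
        IsLocalRing.maximalIdeal (Localization.AtPrime q) := by
      unfold Ideal.ofList
      rw [Ideal.span_le]
      intro x hx
      obtain ⟨g, hg, rfl⟩ := List.mem_map.1 hx
      exact (IsLocalization.AtPrime.to_map_mem_maximal_iff _ q _).2 (hgs g hg)
    rw [smul_eq_mul, Ideal.mul_top] at htop
    exact (IsLocalRing.maximalIdeal.isMaximal (Localization.AtPrime q)).ne_top
      (top_le_iff.1 (htop ▸ hle'))
  · intro j
    obtain ⟨ℓ1, hℓ1⟩ := exists_isLocalizedModule_quot_ideal (B' := Localization.Away w)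
      (Submonoid.powers w) (Ideal.ofList (gs.take j))
    obtain ⟨ℓ2, hℓ2⟩ := exists_isLocalizedModule_quot_ideal (B' := Localization.AtPrime q)
      q.primeCompl (Ideal.ofList (gs.take j))
    have h1 : Module.Flat A (Localization.Away w ⧸
        (Ideal.ofList (gs.take j)).map (algebraMap B (Localization.Away w))) := by
      have := hfl j
      rw [← List.map_take, ofList_map] at this
      exact this
    have h2 : Module.Flat A (Localization.AtPrime q ⧸
        (Ideal.ofList (gs.take j)).map (algebraMap B (Localization.AtPrime q))) :=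
      Groth.Agent.Lib.Helper54.FlatOpenA.flat_of_isLocalizedModule B q.primeCompl
        (IsLocalizedModule.liftOfLE (Submonoid.powers w) q.primeCompl hle ℓ1 ℓ2)
    rw [ofList_map]
    exact h2

/-- nonempty fibre at the contraction of a prime containing the relations. -/
theorem nontrivial_fibre (R : Type u) [CommRing R] (n c : ℕ) (F : Fin c → MvPolynomial (Fin n) R)
    (q' : Ideal (MvPolynomial (Fin n) R)) [q'.IsPrime] (hq' : Ideal.span (Set.range F) ≤ q') :
    Nontrivial ((q'.comap (algebraMap R (MvPolynomial (Fin n) R))).Fiber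
      (MvPolynomial (Fin n) R ⧸ Ideal.span (Set.range F))) := by
  obtain ⟨qb, hqbP, Qb, hQbP, Q, hQP, hqbc, hQb, hQ, hdq⟩ :=
    exists_fibre_primes (R := R) (Ideal.span (Set.range F)) q' hq'
      (q'.comap (algebraMap R (MvPolynomial (Fin n) R))) rfl
  by_contra hnt
  rw [not_nontrivial_iff_subsingleton] at hnt
  exact hQbP.ne_top ((Ideal.eq_top_iff_one _).2 (by rw [Subsingleton.elim (1 : _) 0]; exact zero_mem _))

/-- Stacks 00SV: in a relative global complete intersection the relations form a regular sequence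
in `R[x]_{q'}` with `R`-flat successive quotients. -/
theorem main (R : Type u) [CommRing R] (n c : ℕ) (F : Fin c → MvPolynomial (Fin n) R)
    (h : Synt.IsRelGCI R n c F)
    (q' : Ideal (MvPolynomial (Fin n) R)) [q'.IsPrime] (hq' : Ideal.span (Set.range F) ≤ q') :
    IsRegular (Localization.AtPrime q')
        ((List.ofFn F).map (algebraMap (MvPolynomial (Fin n) R) (Localization.AtPrime q'))) ∧
      ∀ j : ℕ, Module.Flat R (Localization.AtPrime q' ⧸ Ideal.ofList
        (((List.ofFn F).take j).map (algebraMap (MvPolynomial (Fin n) R) (Localization.AtPrime q')))) := by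
  have hnt := nontrivial_fibre R n c F q' hq'
  obtain ⟨hcn, hdim⟩ := h ⟨q'.comap (algebraMap R (MvPolynomial (Fin n) R)), inferInstance⟩ hnt
  have hg := good R n c hcn F q' hq' hdim
  refine local_of_good q' (List.ofFn F) ?_ hg
  intro g hg
  rw [List.mem_ofFn] at hg
  obtain ⟨i, rfl⟩ := hg
  exact hq' (Ideal.subset_span ⟨i, rfl⟩)

/-- a relative global complete intersection is flat. -/
theorem flat (R : Type u) [CommRing R] (n c : ℕ) (F : Fin c → MvPolynomial (Fin n) R)
    (h : Synt.IsRelGCI R n c F) : Module.Flat R (Synt.RelGCIRing R n c F) := by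
  have hex : ∀ (m : Ideal (MvPolynomial (Fin n) R)) [m.IsMaximal],
      ∃ ℓ : (MvPolynomial (Fin n) R ⧸ Ideal.span (Set.range F)) →ₗ[MvPolynomial (Fin n) R]
        (Localization.AtPrime m ⧸ (Ideal.span (Set.range F)).map
          (algebraMap (MvPolynomial (Fin n) R) (Localization.AtPrime m))),
        IsLocalizedModule m.primeCompl ℓ := fun m _ =>
    exists_isLocalizedModule_quot_ideal (B' := Localization.AtPrime m) m.primeCompl _
  choose ℓ hℓ using hex
  refine @Module.flat_of_isLocalized_maximal R (MvPolynomial (Fin n) R) _ _ _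
    (MvPolynomial (Fin n) R ⧸ Ideal.span (Set.range F)) _ _ _ _
    (fun m _ => Localization.AtPrime m ⧸ (Ideal.span (Set.range F)).map
      (algebraMap (MvPolynomial (Fin n) R) (Localization.AtPrime m))) _ _ _ _
    (fun m _ => ℓ m) (fun m _ => hℓ m) ?_
  intro m hm
  by_cases hle : Ideal.span (Set.range F) ≤ m
  · have := (main R n c F h m hle).2 c
    rw [List.take_of_length_le (by simp), ofList_map, ofList_ofFn] at this
    exact this
  · obtain ⟨x, hxI, hxm⟩ := SetLike.not_le_iff_exists.1 hle
    have htop : (Ideal.span (Set.range F)).map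
        (algebraMap (MvPolynomial (Fin n) R) (Localization.AtPrime m)) = ⊤ :=
      Ideal.eq_top_of_isUnit_mem _ (Ideal.mem_map_of_mem _ hxI)
        (IsLocalization.map_units _ (⟨x, hxm⟩ : m.primeCompl))
    haveI : Subsingleton (Localization.AtPrime m ⧸ (Ideal.span (Set.range F)).map
        (algebraMap (MvPolynomial (Fin n) R) (Localization.AtPrime m))) :=
      Ideal.Quotient.subsingleton_iff.2 htop
    haveI : Module.Free R (Localization.AtPrime m ⧸ (Ideal.span (Set.range F)).map
        (algebraMap (MvPolynomial (Fin n) R) (Localization.AtPrime m))) :=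
      Module.Free.of_subsingleton R _
    exact Module.Flat.of_free

open Groth.Agent.Lib.Helper77 in
/-- coefficients of a linear relation modulo `I²` lie in `I`, if the generators form a regular
sequence locally at every maximal ideal containing `I`. -/
theorem mem_of_local_regular {A : Type u} [CommRing A] {m : ℕ} (f : Fin m → A)
    (hreg : ∀ (M : Ideal A) [M.IsMaximal], Ideal.span (Set.range f) ≤ M →
      IsWeaklyRegular (Localization.AtPrime M)
        ((List.ofFn f).map (algebraMap A (Localization.AtPrime M))))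
    (a : Fin m → A) (h : ∑ k, a k * f k ∈ Ideal.span (Set.range f) ^ 2) (k : Fin m) :
    a k ∈ Ideal.span (Set.range f) := by
  apply Ideal.mem_of_localization_maximal
  intro M hM
  by_cases hle : Ideal.span (Set.range f) ≤ M
  · have hwr := hreg M hle
    rw [List.map_ofFn] at hwr
    have hq := QuasiReg.isQuasiRegular_of_isWeaklyRegular m _ hwr
    have hspan : Ideal.span (Set.range ((algebraMap A (Localization.AtPrime M)) ∘ f)) =
        (Ideal.span (Set.range f)).map (algebraMap A (Localization.AtPrime M)) := by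
      rw [Ideal.map_span, Set.range_comp]
    have h2 : ∑ j, (algebraMap A (Localization.AtPrime M) (a j)) *
        ((algebraMap A (Localization.AtPrime M)) ∘ f) j ∈
        Ideal.span (Set.range ((algebraMap A (Localization.AtPrime M)) ∘ f)) ^ 2 := by
      rw [hspan, ← Ideal.map_pow]
      have : ∑ j, (algebraMap A (Localization.AtPrime M) (a j)) *
          ((algebraMap A (Localization.AtPrime M)) ∘ f) j =
          algebraMap A (Localization.AtPrime M) (∑ j, a j * f j) := by
        rw [map_sum]
        refine Finset.sum_congr rfl fun j _ => ?_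
        rw [map_mul]
        rfl
      rw [this]
      exact Ideal.mem_map_of_mem _ h
    have h3 := QuasiReg.mem_of_sum_mul_mem_sq _ hq
      (fun j => algebraMap A (Localization.AtPrime M) (a j)) h2 k
    rw [hspan] at h3
    exact h3
  · obtain ⟨x, hxI, hxm⟩ := SetLike.not_le_iff_exists.1 hle
    have htop : (Ideal.span (Set.range f)).map
        (algebraMap A (Localization.AtPrime M)) = ⊤ :=
      Ideal.eq_top_of_isUnit_mem _ (Ideal.mem_map_of_mem _ hxI)
        (IsLocalization.map_units _ (⟨x, hxm⟩ : M.primeCompl))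
    rw [htop]
    trivial

/-- generators whose linear relations modulo `I²` have coefficients in `I` give a basis of the
conormal module. -/
theorem cotangent_basis_of_mem {A : Type u} [CommRing A] (I : Ideal A) {m : ℕ} (f : Fin m → I)
    (hs : Ideal.span (Set.range fun i => (f i : A)) = I)
    (hloc : ∀ (a : Fin m → A), ∑ k, a k * (f k : A) ∈ I ^ 2 → ∀ k, a k ∈ I) :
    LinearIndependent (A ⧸ I) (fun i => I.toCotangent (f i)) ∧
      Submodule.span (A ⧸ I) (Set.range fun i => I.toCotangent (f i)) = ⊤ := by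
  constructor
  · rw [Fintype.linearIndependent_iff]
    intro g hg i
    choose a ha using fun i => Ideal.Quotient.mk_surjective (g i)
    have h1 : I.toCotangent (∑ i, a i • f i) = 0 := by
      rw [map_sum, ← hg]
      refine Finset.sum_congr rfl fun i _ => ?_
      rw [map_smul, ← ha i]
      exact (algebraMap_smul (A ⧸ I) (a i) _).symm
    rw [Ideal.toCotangent_eq_zero] at h1
    have h2 : ∑ k, a k * (f k : A) ∈ I ^ 2 := by
      have : ((∑ i, a i • f i : I) : A) = ∑ k, a k * (f k : A) := by
        rw [Submodule.coe_sum]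
        rfl
      rw [← this]
      exact h1
    have h3 := hloc a h2 i
    rw [← ha i]
    exact Ideal.Quotient.eq_zero_iff_mem.2 h3
  · rw [eq_top_iff]
    rintro x -
    obtain ⟨y, rfl⟩ := I.toCotangent_surjective x
    have hy : (y : A) ∈ Ideal.span (Set.range fun i => (f i : A)) := by rw [hs]; exact y.2
    obtain ⟨c, hc⟩ := Ideal.mem_span_range_iff_exists_fun.1 hy
    have hy' : y = ∑ i, c i • f i := by
      apply Subtype.ext
      rw [Submodule.coe_sum, ← hc]
      rfl
    rw [hy', map_sum]
    refine Submodule.sum_mem _ fun i _ => ?_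
    rw [map_smul, ← algebraMap_smul (A ⧸ I) (c i)]
    exact Submodule.smul_mem _ _ (Submodule.subset_span ⟨i, rfl⟩)

/-- the conormal module of a relative global complete intersection is free on the classes of
the relations. -/
theorem cotangent (R : Type u) [CommRing R] (n c : ℕ) (F : Fin c → MvPolynomial (Fin n) R)
    (h : Synt.IsRelGCI R n c F) :
    LinearIndependent (Synt.RelGCIRing R n c F)
        (fun i : Fin c => (Ideal.span (Set.range F)).toCotangent
          ⟨F i, Ideal.subset_span (Set.mem_range_self i)⟩) ∧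
      Submodule.span (Synt.RelGCIRing R n c F) (Set.range
        (fun i : Fin c => (Ideal.span (Set.range F)).toCotangent
          ⟨F i, Ideal.subset_span (Set.mem_range_self i)⟩)) = ⊤ := by
  refine cotangent_basis_of_mem (Ideal.span (Set.range F))
    (fun i => ⟨F i, Ideal.subset_span (Set.mem_range_self i)⟩) rfl ?_
  intro a ha k
  refine mem_of_local_regular F ?_ a ha k
  intro M hM hle
  exact (main R n c F h M hle).1.toIsWeaklyRegular

open Groth.Agent.Lib.Helper62.GCIField Groth.Agent.Lib.Helper65.CIPres in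
/-- Stacks 00SW: a relative global complete intersection is syntomic. -/
theorem isSyntomic (R : Type u) [CommRing R] (n c : ℕ) (F : Fin c → MvPolynomial (Fin n) R)
    (h : Synt.IsRelGCI R n c F) : Synt.IsSyntomic R (Synt.RelGCIRing R n c F) := by
  have hfp : Algebra.FinitePresentation R (Synt.RelGCIRing R n c F) :=
    Algebra.FinitePresentation.quotient (Submodule.fg_span (Set.finite_range F))
  refine ⟨flat R n c F h, hfp, fun p => ?_⟩
  haveI : Algebra.FiniteType p.asIdeal.ResidueField
      (p.asIdeal.Fiber (Synt.RelGCIRing R n c F)) := inferInstance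
  by_cases hs : Subsingleton (p.asIdeal.Fiber (Synt.RelGCIRing R n c F))
  · exact isLCIOver_of_isGlobalCI _ (Or.inl hs)
  · rw [not_subsingleton_iff_nontrivial] at hs
    obtain ⟨hcn, hdim⟩ := h p hs
    have hp : HasPres R (Synt.RelGCIRing R n c F) (n - c) :=
      ⟨Fin n, Fin c, inferInstance, inferInstance, Algebra.Presentation.naive (v := F), by
        simp only [Nat.card_eq_fintype_card, Fintype.card_fin]; omega⟩
    have hp' := hp.baseChange p.asIdeal.ResidueField
    exact isLCIOver_of_isGlobalCI _ (hp'.isGlobalCI hdim)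

end Groth.Agent.Lib.Helper35.RelGCI
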