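import Groth.Agent.Lib.Helper35.RelGCIShrink

set_option autoImplicit false
set_option linter.style.haveILetI false
set_option maxHeartbeats 800000
universe u

open TensorProduct MvPolynomial CategoryTheory AlgebraicGeometry

namespace Groth.Agent.Lib.Helper35.RelGCIShrink

section Iso2

variable (R : Type u) [CommRing R] (n c : ℕ) (F : Fin c → MvPolynomial (Fin n) R)
  (h : MvPolynomial (Fin n) R)

open Groth.Agent.Lib.Helper48.RelGCIDescent in
/-- variant of `ptOK'` where `c ≤ n` is only known on `D(g)`. -/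
theorem ptOK'' 
    (hU : ∀ q : PrimeSpectrum (Synt.RelGCIRing R n c F), gbar R n c F h ∉ q.asIdeal →
      c ≤ n ∧ FlatMor.fibreDimAt (Spec.map (CommRingCat.ofHom (algebraMap R (Synt.RelGCIRing R n c F))))
        (show ↥(Spec (CommRingCat.of (Synt.RelGCIRing R n c F))) from q) ≤
        ((n - c : ℕ) : WithBot ℕ∞)) :
    PtOK R (n + 1) (c + 1) (Ideal.span (Set.range (F' R n c F h))) := by
  intro q'
  have hu : IsUnit (θ R n c F h (gbar R n c F h)) := IsUnit.of_mul_eq_one _ (θ_mul_y R n c F h)
  have hnot : gbar R n c F h ∉ (PrimeSpectrum.comap (θ R n c F h).toRingHom q').asIdeal := by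
    intro hmem
    exact q'.2.ne_top (Ideal.eq_top_of_isUnit_mem _ hmem hu)
  have hcn := (hU _ hnot).1
  exact ptOK' R n c F h hcn (fun q hq => (hU q hq).2) q'

end Iso2

section Ideal

attribute [local instance] MvPolynomial.algebraMvPolynomial

variable (R : Type u) [CommRing R] (n c : ℕ) (F : Fin c → MvPolynomial (Fin n) R)

/-- the closed set of bad points (including the case `n < c`) is cut out by an ideal. -/
theorem exists_ideal' :
    ∃ J : Ideal (Synt.RelGCIRing R n c F),
      (∀ q : PrimeSpectrum (Synt.RelGCIRing R n c F), J ≤ q.asIdeal →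
        ¬ (c ≤ n ∧ FlatMor.fibreDimAt
          (Spec.map (CommRingCat.ofHom (algebraMap R (Synt.RelGCIRing R n c F))))
          (show ↥(Spec (CommRingCat.of (Synt.RelGCIRing R n c F))) from q) ≤
          ((n - c : ℕ) : WithBot ℕ∞))) ∧
      (∀ q : PrimeSpectrum (Synt.RelGCIRing R n c F), ¬ J ≤ q.asIdeal →
        c ≤ n ∧ FlatMor.fibreDimAt
          (Spec.map (CommRingCat.ofHom (algebraMap R (Synt.RelGCIRing R n c F))))
          (show ↥(Spec (CommRingCat.of (Synt.RelGCIRing R n c F))) from q) ≤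
          ((n - c : ℕ) : WithBot ℕ∞)) := by
  by_cases hcn : c ≤ n
  · obtain ⟨J, h1, h2⟩ := exists_ideal R n c F
    exact ⟨J, fun q hq hcon => h1 q hq hcon.2, fun q hq => ⟨hcn, h2 q hq⟩⟩
  · exact ⟨⊥, fun q _ hcon => hcn hcon.1, fun q hq => absurd bot_le hq⟩

open Groth.Agent.Lib.Helper48.RelGCIDescent in
theorem exists_h_ideal (I : Ideal R)
    (hI : Synt.IsRelGCI (R ⧸ I) n c (fun i => MvPolynomial.map (Ideal.Quotient.mk I) (F i))) :
    ∃ h : MvPolynomial (Fin n) R,
      Ideal.Quotient.mk (I.map (algebraMap R (Synt.RelGCIRing R n c F)))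
        (Ideal.Quotient.mk (Ideal.span (Set.range F)) h) = 1 ∧
      ∀ q : PrimeSpectrum (Synt.RelGCIRing R n c F), gbar R n c F h ∉ q.asIdeal →
        c ≤ n ∧ FlatMor.fibreDimAt
          (Spec.map (CommRingCat.ofHom (algebraMap R (Synt.RelGCIRing R n c F))))
          (show ↥(Spec (CommRingCat.of (Synt.RelGCIRing R n c F))) from q) ≤
          ((n - c : ℕ) : WithBot ℕ∞) := by
  obtain ⟨J, hJ1, hJ2⟩ := exists_ideal' R n c F
  have hK : (Ideal.span (Set.range F)).map
      (algebraMap (MvPolynomial (Fin n) R) (MvPolynomial (Fin n) (R ⧸ I))) =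
      Ideal.span (Set.range (fun i => MvPolynomial.map (Ideal.Quotient.mk I) (F i))) := by
    rw [Ideal.map_span, ← Set.range_comp]
    rfl
  have hpt : PtOK (R ⧸ I) n c ((Ideal.span (Set.range F)).map
      (algebraMap (MvPolynomial (Fin n) R) (MvPolynomial (Fin n) (R ⧸ I)))) := by
    rw [hK]
    exact ptOK_of_fibOK (R ⧸ I) n c _ hI
  have hsup : J ⊔ I.map (algebraMap R (Synt.RelGCIRing R n c F)) = ⊤ := by
    by_contra hne
    obtain ⟨q, hq⟩ := exists_prime_of_ne_top _ hne
    have hJq : J ≤ q.asIdeal := le_sup_left.trans hq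
    have hIq : I.map (algebraMap R (Synt.RelGCIRing R n c F)) ≤ q.asIdeal := le_sup_right.trans hq
    apply hJ1 q hJq
    have hρmk : ∀ x : MvPolynomial (Fin n) R,
        algebraMap (MvPolynomial (Fin n) R ⧸ Ideal.span (Set.range F))
          (MvPolynomial (Fin n) (R ⧸ I) ⧸ (Ideal.span (Set.range F)).map
            (algebraMap (MvPolynomial (Fin n) R) (MvPolynomial (Fin n) (R ⧸ I))))
          (Ideal.Quotient.mk _ x) =
        Ideal.Quotient.mk _ (algebraMap (MvPolynomial (Fin n) R) (MvPolynomial (Fin n) (R ⧸ I)) x) :=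
      fun x => rfl
    have hmapsurj : Function.Surjective
        (algebraMap (MvPolynomial (Fin n) R) (MvPolynomial (Fin n) (R ⧸ I))) :=
      MvPolynomial.map_surjective (Ideal.Quotient.mk I) Ideal.Quotient.mk_surjective
    have hsurj : Function.Surjective
        (algebraMap (MvPolynomial (Fin n) R ⧸ Ideal.span (Set.range F))
          (MvPolynomial (Fin n) (R ⧸ I) ⧸ (Ideal.span (Set.range F)).map
            (algebraMap (MvPolynomial (Fin n) R) (MvPolynomial (Fin n) (R ⧸ I))))) := by
      intro y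
      obtain ⟨y', rfl⟩ := Ideal.Quotient.mk_surjective y
      obtain ⟨x, rfl⟩ := hmapsurj y'
      exact ⟨Ideal.Quotient.mk _ x, rfl⟩
    have hker : RingHom.ker
        (algebraMap (MvPolynomial (Fin n) R ⧸ Ideal.span (Set.range F))
          (MvPolynomial (Fin n) (R ⧸ I) ⧸ (Ideal.span (Set.range F)).map
            (algebraMap (MvPolynomial (Fin n) R) (MvPolynomial (Fin n) (R ⧸ I))))) ≤ q.asIdeal := by
      intro z hz
      obtain ⟨x, rfl⟩ := Ideal.Quotient.mk_surjective z
      rw [RingHom.mem_ker, hρmk, Ideal.Quotient.eq_zero_iff_mem] at hz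
      obtain ⟨k, hk, hkx⟩ := (Ideal.mem_map_iff_of_surjective _ hmapsurj).1 hz
      have hxk : x - k ∈ RingHom.ker (MvPolynomial.map (σ := Fin n) (Ideal.Quotient.mk I)) := by
        rw [RingHom.mem_ker, map_sub, sub_eq_zero]
        exact hkx.symm
      rw [MvPolynomial.ker_map, Ideal.mk_ker] at hxk
      have h3 : Ideal.Quotient.mk (Ideal.span (Set.range F)) x =
          Ideal.Quotient.mk (Ideal.span (Set.range F)) (x - k) := by
        rw [map_sub, Ideal.Quotient.eq_zero_iff_mem.2 hk, sub_zero]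
      rw [h3]
      apply hIq
      have h4 : I.map (algebraMap R (Synt.RelGCIRing R n c F)) =
          (I.map (C : R →+* MvPolynomial (Fin n) R)).map
            (Ideal.Quotient.mk (Ideal.span (Set.range F))) := by
        rw [Ideal.map_map]
        rfl
      rw [h4]
      exact Ideal.mem_map_of_mem _ hxk
    haveI : (q.asIdeal.map (algebraMap (MvPolynomial (Fin n) R ⧸ Ideal.span (Set.range F))
          (MvPolynomial (Fin n) (R ⧸ I) ⧸ (Ideal.span (Set.range F)).map
            (algebraMap (MvPolynomial (Fin n) R) (MvPolynomial (Fin n) (R ⧸ I)))))).IsPrime :=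
      Ideal.map_isPrime_of_surjective hsurj hker
    have hcomap : (q.asIdeal.map (algebraMap (MvPolynomial (Fin n) R ⧸ Ideal.span (Set.range F))
          (MvPolynomial (Fin n) (R ⧸ I) ⧸ (Ideal.span (Set.range F)).map
            (algebraMap (MvPolynomial (Fin n) R) (MvPolynomial (Fin n) (R ⧸ I)))))).comap
        (algebraMap (MvPolynomial (Fin n) R ⧸ Ideal.span (Set.range F))
          (MvPolynomial (Fin n) (R ⧸ I) ⧸ (Ideal.span (Set.range F)).map
            (algebraMap (MvPolynomial (Fin n) R) (MvPolynomial (Fin n) (R ⧸ I))))) = q.asIdeal := by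
      rw [Ideal.comap_map_of_surjective _ hsurj, sup_eq_left, ← RingHom.ker_eq_comap_bot]
      exact hker
    obtain ⟨hcn, hle⟩ := hpt ⟨q.asIdeal.map (algebraMap
      (MvPolynomial (Fin n) R ⧸ Ideal.span (Set.range F))
      (MvPolynomial (Fin n) (R ⧸ I) ⧸ (Ideal.span (Set.range F)).map
        (algebraMap (MvPolynomial (Fin n) R) (MvPolynomial (Fin n) (R ⧸ I))))), inferInstance⟩
    rw [fibreDimAt_bc R (R ⧸ I) n (Ideal.span (Set.range F))] at hle
    refine ⟨hcn, ?_⟩
    have hq' : PrimeSpectrum.comap (algebraMap (MvPolynomial (Fin n) R ⧸ Ideal.span (Set.range F))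
          (MvPolynomial (Fin n) (R ⧸ I) ⧸ (Ideal.span (Set.range F)).map
            (algebraMap (MvPolynomial (Fin n) R) (MvPolynomial (Fin n) (R ⧸ I)))))
        ⟨q.asIdeal.map (algebraMap (MvPolynomial (Fin n) R ⧸ Ideal.span (Set.range F))
          (MvPolynomial (Fin n) (R ⧸ I) ⧸ (Ideal.span (Set.range F)).map
            (algebraMap (MvPolynomial (Fin n) R) (MvPolynomial (Fin n) (R ⧸ I))))),
          inferInstance⟩ = q := PrimeSpectrum.ext hcomap
    rw [hq'] at hle
    exact hle
  have h1 : (1 : Synt.RelGCIRing R n c F) ∈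
      J ⊔ I.map (algebraMap R (Synt.RelGCIRing R n c F)) := by
    rw [hsup]
    exact Submodule.mem_top
  obtain ⟨j, hj, i, hi, hji⟩ := Submodule.mem_sup.1 h1
  obtain ⟨h, rfl⟩ := Ideal.Quotient.mk_surjective j
  refine ⟨h, ?_, ?_⟩
  · have h2 : Ideal.Quotient.mk (I.map (algebraMap R (Synt.RelGCIRing R n c F)))
        (Ideal.Quotient.mk (Ideal.span (Set.range F)) h) =
        Ideal.Quotient.mk (I.map (algebraMap R (Synt.RelGCIRing R n c F)))
          (Ideal.Quotient.mk (Ideal.span (Set.range F)) h + i) := by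
      rw [map_add, Ideal.Quotient.eq_zero_iff_mem.2 hi, add_zero]
    rw [h2, hji, map_one]
  · intro q hq
    apply hJ2
    intro hle
    exact hq (hle hj)

end Ideal

end Groth.Agent.Lib.Helper35.RelGCIShrink
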