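import Mathlib
import Groth.Prelude.Def_RegImm
import Groth.Agent.Lib.Helper48.RelGCIDescent
import Groth.Agent.Lib.Helper73.FibreDimRetro
import Groth.Agent.Lib.Helper67.FibLoc

set_option autoImplicit false
set_option linter.style.haveILetI false
set_option maxHeartbeats 800000
universe u

open TensorProduct MvPolynomial CategoryTheory AlgebraicGeometry

namespace Groth.Agent.Lib.Helper35.RelGCIShrink

section Iso

variable (R : Type u) [CommRing R] (n c : ℕ) (F : Fin c → MvPolynomial (Fin n) R)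
  (h : MvPolynomial (Fin n) R)

/-- the extended system of relations `(F_1, …, F_c, h·x_{n+1} − 1)`. -/
noncomputable abbrev F' : Fin (c + 1) → MvPolynomial (Fin (n + 1)) R :=
  Fin.snoc (fun i => rename Fin.castSucc (F i)) (rename Fin.castSucc h * X (Fin.last n) - 1)

theorem F'_castSucc (i : Fin c) : F' R n c F h i.castSucc = rename Fin.castSucc (F i) := by
  simp [F']

theorem F'_last : F' R n c F h (Fin.last c) = rename Fin.castSucc h * X (Fin.last n) - 1 := by
  simp [F']

/-- the map `S → S'`. -/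
noncomputable def θ : Synt.RelGCIRing R n c F →ₐ[R] Synt.RelGCIRing R (n + 1) (c + 1) (F' R n c F h) :=
  Ideal.Quotient.liftₐ (Ideal.span (Set.range F))
    ((Ideal.Quotient.mkₐ R (Ideal.span (Set.range (F' R n c F h)))).comp (rename Fin.castSucc))
    (by
      intro a ha
      have hle : Ideal.span (Set.range F) ≤ RingHom.ker
          (((Ideal.Quotient.mkₐ R (Ideal.span (Set.range (F' R n c F h)))).comp
            (rename Fin.castSucc : MvPolynomial (Fin n) R →ₐ[R] _)).toRingHom) := by
        rw [Ideal.span_le]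
        rintro _ ⟨i, rfl⟩
        rw [SetLike.mem_coe, RingHom.mem_ker]
        show Ideal.Quotient.mk _ (rename Fin.castSucc (F i)) = 0
        rw [Ideal.Quotient.eq_zero_iff_mem, ← F'_castSucc R n c F h i]
        exact Ideal.subset_span ⟨_, rfl⟩
      exact hle ha)

theorem θ_mk (a : MvPolynomial (Fin n) R) :
    θ R n c F h (Ideal.Quotient.mk _ a) = Ideal.Quotient.mk _ (rename Fin.castSucc a) := rfl

theorem θ_mul_y : θ R n c F h (Ideal.Quotient.mk _ h) *
    Ideal.Quotient.mk (Ideal.span (Set.range (F' R n c F h))) (X (Fin.last n)) = 1 := by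
  rw [θ_mk, ← map_mul, ← sub_eq_zero, ← map_one (Ideal.Quotient.mk _), ← map_sub,
    Ideal.Quotient.eq_zero_iff_mem, ← F'_last R n c F h]
  exact Ideal.subset_span ⟨_, rfl⟩

/-- `g = h mod (F)`. -/
noncomputable abbrev gbar : Synt.RelGCIRing R n c F := Ideal.Quotient.mk _ h

/-- the map from the polynomial ring in `n+1` variables to `S_g`. -/
noncomputable def φ0 : MvPolynomial (Fin (n + 1)) R →ₐ[R] Localization.Away (gbar R n c F h) :=
  aeval (Fin.snoc (fun i => algebraMap (Synt.RelGCIRing R n c F) _ (Ideal.Quotient.mk _ (X i)))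
    (IsLocalization.Away.invSelf (gbar R n c F h)))

theorem φ0_rename (a : MvPolynomial (Fin n) R) :
    φ0 R n c F h (rename Fin.castSucc a) =
      algebraMap (Synt.RelGCIRing R n c F) _ (Ideal.Quotient.mk _ a) := by
  have : (φ0 R n c F h).comp (rename Fin.castSucc) =
      ((IsScalarTower.toAlgHom R (Synt.RelGCIRing R n c F) (Localization.Away (gbar R n c F h))).comp
        (Ideal.Quotient.mkₐ R (Ideal.span (Set.range F)))) := by
    apply MvPolynomial.algHom_ext
    intro i
    simp [φ0]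
  exact congr($this a)

theorem φ0_y : φ0 R n c F h (X (Fin.last n)) = IsLocalization.Away.invSelf (gbar R n c F h) := by
  simp [φ0]

theorem φ0_ker : ∀ a ∈ Ideal.span (Set.range (F' R n c F h)), φ0 R n c F h a = 0 := by
  intro a ha
  have hle : Ideal.span (Set.range (F' R n c F h)) ≤ RingHom.ker (φ0 R n c F h).toRingHom := by
    rw [Ideal.span_le]
    rintro _ ⟨j, rfl⟩
    rw [SetLike.mem_coe, RingHom.mem_ker]
    show φ0 R n c F h (F' R n c F h j) = 0
    refine Fin.lastCases ?_ (fun i => ?_) j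
    · rw [F'_last, map_sub, map_mul, φ0_rename, φ0_y, map_one, sub_eq_zero]
      exact IsLocalization.Away.mul_invSelf _
    · rw [F'_castSucc, φ0_rename]
      have : Ideal.Quotient.mk (Ideal.span (Set.range F)) (F i) = 0 :=
        Ideal.Quotient.eq_zero_iff_mem.2 (Ideal.subset_span ⟨i, rfl⟩)
      rw [this, map_zero]
  exact hle ha

/-- the map `S' → S_g`. -/
noncomputable def φ : Synt.RelGCIRing R (n + 1) (c + 1) (F' R n c F h) →ₐ[R]
    Localization.Away (gbar R n c F h) :=
  Ideal.Quotient.liftₐ _ (φ0 R n c F h) (φ0_ker R n c F h)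

theorem φ_mk (a : MvPolynomial (Fin (n + 1)) R) :
    φ R n c F h (Ideal.Quotient.mk _ a) = φ0 R n c F h a := rfl

theorem isUnit_θ (y : Submonoid.powers (gbar R n c F h)) : IsUnit (θ R n c F h y) := by
  obtain ⟨_, k, rfl⟩ := y
  rw [map_pow]
  exact (IsUnit.of_mul_eq_one _ (θ_mul_y R n c F h)).pow k

/-- the map `S_g → S'`. -/
noncomputable def ψ : Localization.Away (gbar R n c F h) →ₐ[R]
    Synt.RelGCIRing R (n + 1) (c + 1) (F' R n c F h) :=
  IsLocalization.liftAlgHom (M := Submonoid.powers (gbar R n c F h)) (f := θ R n c F h)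
    (isUnit_θ R n c F h)

theorem ψ_algebraMap (s : Synt.RelGCIRing R n c F) :
    ψ R n c F h (algebraMap _ _ s) = θ R n c F h s := by
  simp [ψ]

theorem ψ_invSelf : ψ R n c F h (IsLocalization.Away.invSelf (gbar R n c F h)) =
    Ideal.Quotient.mk _ (X (Fin.last n)) := by
  have h1 : ψ R n c F h (IsLocalization.Away.invSelf (gbar R n c F h)) *
      θ R n c F h (gbar R n c F h) = 1 := by
    rw [← ψ_algebraMap, ← map_mul, mul_comm, IsLocalization.Away.mul_invSelf, map_one]
  have h2 := θ_mul_y R n c F h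
  calc ψ R n c F h (IsLocalization.Away.invSelf (gbar R n c F h))
      = ψ R n c F h (IsLocalization.Away.invSelf (gbar R n c F h)) *
        (θ R n c F h (gbar R n c F h) * Ideal.Quotient.mk _ (X (Fin.last n))) := by
          rw [h2, mul_one]
    _ = _ := by rw [← mul_assoc, h1, one_mul]

/-- `S_g ≃ S'` over `R`. -/
noncomputable def e : Localization.Away (gbar R n c F h) ≃ₐ[R]
    Synt.RelGCIRing R (n + 1) (c + 1) (F' R n c F h) :=
  AlgEquiv.ofAlgHom (ψ R n c F h) (φ R n c F h)
    (by
      apply Ideal.Quotient.algHom_ext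
      apply MvPolynomial.algHom_ext
      intro j
      refine Fin.lastCases ?_ (fun i => ?_) j
      · simp only [AlgHom.coe_comp, Function.comp_apply, Ideal.Quotient.mkₐ_eq_mk, AlgHom.coe_id,
          id_eq]
        rw [φ_mk, φ0_y, ψ_invSelf]
      · simp only [AlgHom.coe_comp, Function.comp_apply, Ideal.Quotient.mkₐ_eq_mk, AlgHom.coe_id,
          id_eq]
        have : (X i.castSucc : MvPolynomial (Fin (n + 1)) R) = rename Fin.castSucc (X i) := by
          simp
        rw [φ_mk, this, φ0_rename, ψ_algebraMap, θ_mk])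
    (by
      apply IsLocalization.algHom_ext (Submonoid.powers (gbar R n c F h))
      apply Ideal.Quotient.algHom_ext
      apply MvPolynomial.algHom_ext
      intro i
      simp only [AlgHom.coe_comp, Function.comp_apply, Ideal.Quotient.mkₐ_eq_mk, AlgHom.coe_id,
        id_eq]
      change φ R n c F h (ψ R n c F h (algebraMap _ _ (Ideal.Quotient.mk _ (X i)))) =
        algebraMap _ _ (Ideal.Quotient.mk _ (X i))
      rw [ψ_algebraMap, θ_mk, φ_mk, φ0_rename])

open Groth.Agent.Lib.Helper48.RelGCIDescent in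
/-- if the local fibre dimension of `S` is at most `n - c` on `D(g)`, then `S'` satisfies the
pointwise relative global complete intersection condition. -/
theorem ptOK' (hcn : c ≤ n)
    (hU : ∀ q : PrimeSpectrum (Synt.RelGCIRing R n c F), gbar R n c F h ∉ q.asIdeal →
      FlatMor.fibreDimAt (Spec.map (CommRingCat.ofHom (algebraMap R (Synt.RelGCIRing R n c F))))
        (show ↥(Spec (CommRingCat.of (Synt.RelGCIRing R n c F))) from q) ≤
        ((n - c : ℕ) : WithBot ℕ∞)) :
    PtOK R (n + 1) (c + 1) (Ideal.span (Set.range (F' R n c F h))) := by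
  intro q'
  refine ⟨by omega, ?_⟩
  have hθ : (θ R n c F h).toRingHom = ((ψ R n c F h).toRingHom).comp
      (algebraMap (Synt.RelGCIRing R n c F) (Localization.Away (gbar R n c F h))) :=
    RingHom.ext fun s => (ψ_algebraMap R n c F h s).symm
  haveI : IsIso (CommRingCat.ofHom (ψ R n c F h).toRingHom) := by
    have : CommRingCat.ofHom (ψ R n c F h).toRingHom =
        ((e R n c F h).toRingEquiv.toCommRingCatIso).hom := rfl
    rw [this]
    infer_instance
  haveI : IsOpenImmersion (Spec.map (CommRingCat.ofHom (θ R n c F h).toRingHom)) := by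
    rw [hθ, CommRingCat.ofHom_comp, Spec.map_comp]
    infer_instance
  have hcomp : Spec.map (CommRingCat.ofHom (algebraMap R
      (Synt.RelGCIRing R (n + 1) (c + 1) (F' R n c F h)))) =
      Spec.map (CommRingCat.ofHom (θ R n c F h).toRingHom) ≫
        Spec.map (CommRingCat.ofHom (algebraMap R (Synt.RelGCIRing R n c F))) := by
    rw [← Spec.map_comp, ← CommRingCat.ofHom_comp]
    congr 2
    exact RingHom.ext fun r => ((θ R n c F h).commutes r).symm
  rw [hcomp, Groth.Agent.Lib.Helper73.FibreDimRetro.fibreDimAt_comp_openImmersion,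
    Nat.add_sub_add_right]
  apply hU
  intro hmem
  have hu : IsUnit (θ R n c F h (gbar R n c F h)) := IsUnit.of_mul_eq_one _ (θ_mul_y R n c F h)
  exact q'.2.ne_top (Ideal.eq_top_of_isUnit_mem _ hmem hu)

end Iso

section Exists

variable (R : Type u) [CommRing R] (n c : ℕ) (F : Fin c → MvPolynomial (Fin n) R)

/-- the closed set of points of large local fibre dimension is cut out by an ideal `J`;
every `g ∈ J` has `D(g)` inside the good locus. -/
theorem exists_ideal :
    ∃ J : Ideal (Synt.RelGCIRing R n c F),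
      (∀ q : PrimeSpectrum (Synt.RelGCIRing R n c F), J ≤ q.asIdeal →
        ¬ FlatMor.fibreDimAt (Spec.map (CommRingCat.ofHom (algebraMap R (Synt.RelGCIRing R n c F))))
          (show ↥(Spec (CommRingCat.of (Synt.RelGCIRing R n c F))) from q) ≤
          ((n - c : ℕ) : WithBot ℕ∞)) ∧
      (∀ q : PrimeSpectrum (Synt.RelGCIRing R n c F), ¬ J ≤ q.asIdeal →
        FlatMor.fibreDimAt (Spec.map (CommRingCat.ofHom (algebraMap R (Synt.RelGCIRing R n c F))))
          (show ↥(Spec (CommRingCat.of (Synt.RelGCIRing R n c F))) from q) ≤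
          ((n - c : ℕ) : WithBot ℕ∞)) := by
  have hopen := Groth.Agent.S0402.result
    (Spec.map (CommRingCat.ofHom (algebraMap R (Synt.RelGCIRing R n c F)))) (n - c)
  set Z : Set (PrimeSpectrum (Synt.RelGCIRing R n c F)) :=
    ({x : ↥(Spec (CommRingCat.of (Synt.RelGCIRing R n c F))) |
      FlatMor.fibreDimAt
        (Spec.map (CommRingCat.ofHom (algebraMap R (Synt.RelGCIRing R n c F)))) x ≤
        ((n - c : ℕ) : WithBot ℕ∞)})ᶜ with hZdef
  have hZ : IsClosed Z := hopen.isClosed_compl
  have hZI : PrimeSpectrum.zeroLocus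
      ((PrimeSpectrum.vanishingIdeal Z : Ideal (Synt.RelGCIRing R n c F)) : Set _) = Z := by
    rw [PrimeSpectrum.zeroLocus_vanishingIdeal_eq_closure, hZ.closure_eq]
  refine ⟨PrimeSpectrum.vanishingIdeal Z, ?_, ?_⟩
  · intro q hq
    have : q ∈ Z := by
      rw [← hZI, PrimeSpectrum.mem_zeroLocus]
      exact hq
    exact this
  · intro q hq
    by_contra hcon
    apply hq
    have : q ∈ Z := hcon
    rw [← hZI, PrimeSpectrum.mem_zeroLocus] at this
    exact this

theorem fibreDimAt_le_of_dim (p : Ideal R) [p.IsPrime]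
    (hp : ringKrullDim (p.Fiber (Synt.RelGCIRing R n c F)) = ((n - c : ℕ) : WithBot ℕ∞))
    (q : PrimeSpectrum (Synt.RelGCIRing R n c F))
    (hq : q.asIdeal.comap (algebraMap R (Synt.RelGCIRing R n c F)) = p) :
    FlatMor.fibreDimAt (Spec.map (CommRingCat.ofHom (algebraMap R (Synt.RelGCIRing R n c F))))
      (show ↥(Spec (CommRingCat.of (Synt.RelGCIRing R n c F))) from q) ≤
      ((n - c : ℕ) : WithBot ℕ∞) := by
  subst hq
  rw [Groth.Agent.Lib.Helper73.FibreDimRing.fibreDimAt_Spec_eq]
  refine (Groth.Agent.Lib.Helper29.localDim_le_dim _).trans ?_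
  rw [PrimeSpectrum.topologicalKrullDim_eq_ringKrullDim]
  exact hp.le

/-- elements of the extension of `J` to the fibre ring are, up to a unit from the base, of the
form `1 ⊗ g` with `g ∈ J`. -/
theorem exists_of_mem_map {S : Type u} [CommRing S] [Algebra R S] (p : Ideal R) [p.IsPrime]
    (J : Ideal S) (x : p.Fiber S)
    (hx : x ∈ J.map (Algebra.TensorProduct.includeRight : S →ₐ[R] p.Fiber S)) :
    ∃ r : R, r ∉ p ∧ ∃ g ∈ J, r • x = (1 : p.ResidueField) ⊗ₜ[R] g := by
  unfold Ideal.map at hx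
  induction hx using Submodule.span_induction with
  | mem x hx =>
    obtain ⟨g, hg, rfl⟩ := hx
    exact ⟨1, fun h1 => (inferInstance : p.IsPrime).ne_top ((Ideal.eq_top_iff_one _).2 h1), g, hg,
      by rw [one_smul]; rfl⟩
  | zero =>
    exact ⟨1, fun h1 => (inferInstance : p.IsPrime).ne_top ((Ideal.eq_top_iff_one _).2 h1), 0,
      zero_mem _, by rw [smul_zero, TensorProduct.tmul_zero]⟩
  | add x y _ _ hx hy =>
    obtain ⟨r1, hr1, g1, hg1, e1⟩ := hx
    obtain ⟨r2, hr2, g2, hg2, e2⟩ := hy
    refine ⟨r1 * r2, fun hmem => ((inferInstance : p.IsPrime).mem_or_mem hmem).elim hr1 hr2,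
      r2 • g1 + r1 • g2, J.add_mem (Submodule.smul_of_tower_mem J r2 hg1)
        (Submodule.smul_of_tower_mem J r1 hg2), ?_⟩
    rw [smul_add, mul_comm r1 r2, mul_smul, e1, mul_comm r2 r1, mul_smul, e2,
      TensorProduct.tmul_add, TensorProduct.tmul_smul, TensorProduct.tmul_smul]
  | smul t x _ hx =>
    obtain ⟨r, hr, g, hg, e⟩ := hx
    obtain ⟨r', hr', s, es⟩ := Ideal.Fiber.exists_smul_eq_one_tmul p t
    refine ⟨r' * r, fun hmem => ((inferInstance : p.IsPrime).mem_or_mem hmem).elim hr' hr,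
      s * g, J.mul_mem_left s hg, ?_⟩
    rw [smul_eq_mul, ← smul_mul_smul_comm, es, e, Algebra.TensorProduct.tmul_mul_tmul, one_mul]

theorem isUnit_smul_one {K T : Type*} [Field K] [CommRing T] [Algebra K T] (u : K) (hu : u ≠ 0) :
    IsUnit (u • (1 : T)) := by
  have hmul : (u • (1 : T)) * (u⁻¹ • (1 : T)) = 1 := by
    rw [smul_mul_smul_comm, mul_one, mul_inv_cancel₀ hu, one_smul]
  exact ⟨⟨_, _, hmul, by rw [mul_comm]; exact hmul⟩, rfl⟩

theorem exists_prime_of_ne_top {T : Type*} [CommRing T] (I : Ideal T) (h : I ≠ ⊤) :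
    ∃ Q : PrimeSpectrum T, I ≤ Q.asIdeal := by
  obtain ⟨M, hM, hle⟩ := Ideal.exists_le_maximal _ h
  exact ⟨⟨M, hM.isPrime⟩, hle⟩

open Groth.Agent.Lib.Helper67 in
theorem exists_h_fibre (p : Ideal R) [p.IsPrime]
    (hp : ringKrullDim (p.Fiber (Synt.RelGCIRing R n c F)) = ((n - c : ℕ) : WithBot ℕ∞)) :
    ∃ h : MvPolynomial (Fin n) R,
      IsUnit ((1 : p.ResidueField) ⊗ₜ[R] (Ideal.Quotient.mk (Ideal.span (Set.range F)) h) :
        p.Fiber (Synt.RelGCIRing R n c F)) ∧
      ∀ q : PrimeSpectrum (Synt.RelGCIRing R n c F), gbar R n c F h ∉ q.asIdeal →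
        FlatMor.fibreDimAt (Spec.map (CommRingCat.ofHom (algebraMap R (Synt.RelGCIRing R n c F))))
          (show ↥(Spec (CommRingCat.of (Synt.RelGCIRing R n c F))) from q) ≤
          ((n - c : ℕ) : WithBot ℕ∞) := by
  obtain ⟨J, hJ1, hJ2⟩ := exists_ideal R n c F
  have htop : J.map (Algebra.TensorProduct.includeRight :
      Synt.RelGCIRing R n c F →ₐ[R] p.Fiber (Synt.RelGCIRing R n c F)) = ⊤ := by
    by_contra hne
    obtain ⟨Q, hQ⟩ := exists_prime_of_ne_top (T := p.Fiber (Synt.RelGCIRing R n c F)) _ hne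
    have hJq : J ≤ Q.asIdeal.comap (Algebra.TensorProduct.includeRight :
        Synt.RelGCIRing R n c F →ₐ[R] p.Fiber (Synt.RelGCIRing R n c F)) :=
      fun x hx => hQ (Ideal.mem_map_of_mem _ hx)
    have hqp := FibLoc.comap_includeRight_under p Q.asIdeal
    exact hJ1 ⟨Q.asIdeal.comap (Algebra.TensorProduct.includeRight :
        Synt.RelGCIRing R n c F →ₐ[R] p.Fiber (Synt.RelGCIRing R n c F)), inferInstance⟩ hJq
      (fibreDimAt_le_of_dim R n c F p hp _ hqp)
  obtain ⟨r, hr, g, hg, e⟩ := exists_of_mem_map R p J 1 (htop ▸ Submodule.mem_top)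
  obtain ⟨h, rfl⟩ := Ideal.Quotient.mk_surjective g
  refine ⟨h, ?_, ?_⟩
  · have hu : algebraMap R p.ResidueField r ≠ 0 := by
      rw [Ne, Ideal.algebraMap_residueField_eq_zero]
      exact hr
    rw [← e, ← algebraMap_smul p.ResidueField r (1 : p.Fiber (Synt.RelGCIRing R n c F))]
    exact isUnit_smul_one (T := p.Fiber (Synt.RelGCIRing R n c F)) _ hu
  · intro q hq
    apply hJ2
    intro hle
    exact hq (hle hg)

end Exists

end Groth.Agent.Lib.Helper35.RelGCIShrink
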