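import Mathlib

/-!
# Lifting standard étale algebras along ring maps which are "surjective up to units" (helper35)

`SurjUpToUnits φ` : every `b` can be written `b * φ t = φ a` with `φ t` a unit.  Examples: surjections,
localizations, `A → A ⊗[R] κ(𝔭)`.

`exists_pair_lift` : for such `φ : A →+* B` and a standard étale pair `P₀` over `B` there is a standard
étale pair `P` over `A` with `P₀.Ring ≃ₐ[B] (P.map φ).Ring` (rescale the variable by the unit `φ t` to
clear denominators: `Polynomial.scaleRoots`).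
-/

set_option autoImplicit false
set_option linter.style.haveILetI false
set_option maxHeartbeats 400000
set_option backward.isDefEq.respectTransparency.types false

universe u

open Polynomial

namespace Groth.Agent.Lib.Helper35.EtLiftUnits

/-- `φ` is surjective up to units coming from the source. -/
def SurjUpToUnits {A B : Type*} [CommRing A] [CommRing B] (φ : A →+* B) : Prop :=
  ∀ b : B, ∃ a t : A, IsUnit (φ t) ∧ b * φ t = φ a

variable {A B : Type u} [CommRing A] [CommRing B] {φ : A →+* B}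

/-- common denominator for the coefficients of a polynomial -/
theorem SurjUpToUnits.exists_denom (h : SurjUpToUnits φ) (p : B[X]) :
    ∃ t : A, IsUnit (φ t) ∧ ∀ j, ∃ a : A, p.coeff j * φ t = φ a := by
  induction p using Polynomial.induction_on' with
  | add p q hp hq =>
    obtain ⟨t₁, ht₁, h₁⟩ := hp
    obtain ⟨t₂, ht₂, h₂⟩ := hq
    refine ⟨t₁ * t₂, by rw [map_mul]; exact ht₁.mul ht₂, fun j => ?_⟩
    obtain ⟨a₁, ha₁⟩ := h₁ j
    obtain ⟨a₂, ha₂⟩ := h₂ j
    refine ⟨a₁ * t₂ + a₂ * t₁, ?_⟩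
    rw [coeff_add, map_mul, map_add, map_mul, map_mul, ← ha₁, ← ha₂]
    ring
  | monomial n b =>
    obtain ⟨a, t, ht, hab⟩ := h b
    refine ⟨t, ht, fun j => ?_⟩
    rw [coeff_monomial]
    split_ifs
    · exact ⟨a, hab⟩
    · exact ⟨0, by simp⟩

theorem scaleRoots_comp {R : Type*} [CommRing R] (p : R[X]) (s : R) :
    (scaleRoots p s).comp (C s * X) = C (s ^ p.natDegree) * p := by
  have := scaleRoots_eval₂_mul (p := p) (C : R →+* R[X]) (X : R[X]) s
  rw [eval₂_C_X] at this
  rw [Polynomial.comp, this, map_pow]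

theorem aeval_mul_scaleRoots {R S : Type*} [CommRing R] [CommRing S] [Algebra R S]
    (p : R[X]) (s : R) (x : S) :
    aeval (algebraMap R S s * x) (scaleRoots p s) = algebraMap R S s ^ p.natDegree * aeval x p := by
  rw [aeval_def, aeval_def]
  exact scaleRoots_eval₂_mul _ _ _

theorem aeval_mul_derivative_scaleRoots {R S : Type*} [CommRing R] [CommRing S] [Algebra R S]
    (p : R[X]) (s : R) (x : S) :
    aeval (algebraMap R S s * x) (derivative (scaleRoots p s)) * algebraMap R S s =
      algebraMap R S s ^ p.natDegree * aeval x (derivative p) := by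
  have h := congr(aeval x (derivative $(scaleRoots_comp p s)))
  rw [derivative_comp, derivative_mul, derivative_C, zero_mul, zero_add, derivative_mul,
    derivative_C, zero_mul, zero_add, derivative_X, mul_one] at h
  simp only [map_mul, aeval_comp, aeval_C, aeval_X, map_pow] at h
  rw [mul_comm] at h
  exact h

/-- Lifting a standard étale pair, up to isomorphism of the standard étale algebra, along a ring map
which is surjective up to units. -/
theorem exists_pair_lift (h : SurjUpToUnits φ) (P₀ : StandardEtalePair B) :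
    ∃ P : StandardEtalePair A, Nonempty (P₀.Ring ≃ₐ[B] (P.map φ).Ring) := by
  obtain ⟨t₁, ht₁, h₁⟩ := h.exists_denom P₀.f
  obtain ⟨t₂, ht₂, h₂⟩ := h.exists_denom P₀.g
  set t := t₁ * t₂ with htdef
  have ht : IsUnit (φ t) := by rw [htdef, map_mul]; exact ht₁.mul ht₂
  have h₁' : ∀ j, ∃ a : A, P₀.f.coeff j * φ t = φ a := fun j => by
    obtain ⟨a, ha⟩ := h₁ j
    exact ⟨a * t₂, by rw [htdef, map_mul, map_mul, ← ha]; ring⟩
  have h₂' : ∀ j, ∃ a : A, P₀.g.coeff j * φ t = φ a := fun j => by
    obtain ⟨a, ha⟩ := h₂ j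
    exact ⟨a * t₁, by rw [htdef, map_mul, map_mul, ← ha]; ring⟩
  obtain ⟨τ, hτ⟩ : ∃ τ : B, τ = φ t := ⟨_, rfl⟩
  rw [← hτ] at ht
  simp only [← hτ] at h₁' h₂'
  -- the rescaled polynomials
  set f₀' : B[X] := scaleRoots P₀.f τ with hf₀'
  set g₀' : B[X] := C τ * scaleRoots P₀.g τ with hg₀'
  have hf₀'m : f₀'.Monic := (monic_scaleRoots_iff τ).mpr P₀.monic_f
  have hf₀'l : f₀' ∈ lifts φ := by
    rw [lifts_iff_coeff_lifts]
    intro j
    rw [hf₀', coeff_scaleRoots]
    rcases lt_trichotomy j P₀.f.natDegree with hj | hj | hj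
    · obtain ⟨a, ha⟩ := h₁' j
      obtain ⟨n, hn⟩ : ∃ n, P₀.f.natDegree - j = n + 1 := ⟨P₀.f.natDegree - j - 1, by omega⟩
      refine ⟨a * t ^ n, ?_⟩
      rw [hn, pow_succ, map_mul, map_pow, ← ha, ← hτ]
      ring
    · refine ⟨1, ?_⟩
      rw [hj, Nat.sub_self, pow_zero, mul_one, map_one]
      exact P₀.monic_f.symm
    · refine ⟨0, ?_⟩
      rw [coeff_eq_zero_of_natDegree_lt hj, zero_mul, map_zero]
  have hg₀'l : g₀' ∈ lifts φ := by
    rw [lifts_iff_coeff_lifts]
    intro j
    rw [hg₀', coeff_C_mul, coeff_scaleRoots]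
    obtain ⟨a, ha⟩ := h₂' j
    refine ⟨a * t ^ (P₀.g.natDegree - j), ?_⟩
    rw [map_mul, map_pow, ← ha, ← hτ]
    ring
  obtain ⟨f, hf, -, hfm⟩ := lifts_and_natDegree_eq_and_monic hf₀'l hf₀'m
  obtain ⟨g, hg⟩ := (mem_lifts _).mp hg₀'l
  let P : StandardEtalePair A := ⟨f, hfm, g * derivative f, ⟨g, 0, 1, by ring⟩⟩
  refine ⟨P, ?_⟩
  set Q := P.map φ with hQ
  have hQf : Q.f = f₀' := by rw [hQ, StandardEtalePair.map_f]; exact hf
  have hQg : Q.g = g₀' * derivative f₀' := by
    rw [hQ, StandardEtalePair.map_g]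
    show (g * derivative f).map φ = _
    rw [Polynomial.map_mul, hg, ← derivative_map, hf]
  -- unit as element of rings
  obtain ⟨τu, hτu⟩ := ht
  -- forward map
  have hτQ : IsUnit (algebraMap B Q.Ring τ) := ⟨Units.map (algebraMap B Q.Ring).toMonoidHom τu, by
    simp [← hτu]⟩
  have hτP : IsUnit (algebraMap B P₀.Ring τ) := ⟨Units.map (algebraMap B P₀.Ring).toMonoidHom τu, by
    simp [← hτu]⟩
  obtain ⟨y, hy⟩ : ∃ y : Q.Ring, algebraMap B Q.Ring τ * y = Q.X :=
    ⟨↑hτQ.unit⁻¹ * Q.X, by rw [← mul_assoc, IsUnit.mul_val_inv, one_mul]⟩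
  have hQX := StandardEtalePair.hasMap_X (P := Q)
  have hmapy : P₀.HasMap y := by
    constructor
    · have h1 : aeval Q.X f₀' = 0 := by rw [← hQf]; exact hQX.1
      rw [← hy, hf₀', aeval_mul_scaleRoots] at h1
      exact (hτQ.pow _).mul_right_eq_zero.mp h1
    · have h1 : IsUnit (aeval Q.X (g₀' * derivative f₀')) := by rw [← hQg]; exact hQX.2
      rw [map_mul] at h1
      have h2 : IsUnit (aeval Q.X g₀') := isUnit_of_mul_isUnit_left h1
      rw [hg₀', map_mul, aeval_C, ← hy, aeval_mul_scaleRoots] at h2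
      exact isUnit_of_mul_isUnit_right (isUnit_of_mul_isUnit_right h2)
  have hmapx : Q.HasMap (algebraMap B P₀.Ring τ * P₀.X) := by
    have hPX := StandardEtalePair.hasMap_X (P := P₀)
    constructor
    · rw [hQf, hf₀', aeval_mul_scaleRoots, hPX.1, mul_zero]
    · rw [hQg, map_mul]
      refine IsUnit.mul ?_ ?_
      · rw [hg₀', map_mul, aeval_C, aeval_mul_scaleRoots]
        exact hτP.mul ((hτP.pow _).mul hPX.2)
      · have h3 := aeval_mul_derivative_scaleRoots (S := P₀.Ring) P₀.f τ P₀.X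
        have h4 : IsUnit (aeval (algebraMap B P₀.Ring τ * P₀.X) (derivative (scaleRoots P₀.f τ)) *
            algebraMap B P₀.Ring τ) := by
          rw [h3]
          exact (hτP.pow _).mul hPX.isUnit_derivative_f
        rw [hf₀']
        exact isUnit_of_mul_isUnit_left h4
  let F : P₀.Ring →ₐ[B] Q.Ring := P₀.lift y hmapy
  let G : Q.Ring →ₐ[B] P₀.Ring := Q.lift _ hmapx
  have hGF : G.comp F = AlgHom.id B P₀.Ring := by
    apply StandardEtalePair.hom_ext
    have h5 : algebraMap B P₀.Ring τ * G y = algebraMap B P₀.Ring τ * P₀.X := by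
      have := congr(G $hy)
      rw [map_mul, AlgHom.commutes] at this
      rw [this]
      exact Q.lift_X _ hmapx
    have h6 : G y = P₀.X := hτP.mul_left_cancel h5
    simp only [AlgHom.comp_apply, AlgHom.id_apply, F, StandardEtalePair.lift_X]
    exact h6
  have hFG : F.comp G = AlgHom.id B Q.Ring := by
    apply StandardEtalePair.hom_ext
    simp only [AlgHom.comp_apply, AlgHom.id_apply, G, StandardEtalePair.lift_X, map_mul,
      AlgHom.commutes, F]
    exact hy
  exact ⟨AlgEquiv.ofAlgHom F G hFG hGF⟩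

end Groth.Agent.Lib.Helper35.EtLiftUnits
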