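import Mathlib
import Groth.Agent.Lib.Helper35.EtLiftUnits

/-!
# `A → A ⊗[R] κ` is surjective up to units (helper35)
-/

set_option autoImplicit false
set_option linter.style.haveILetI false
set_option maxHeartbeats 400000
set_option backward.isDefEq.respectTransparency.types false

universe u

open TensorProduct CategoryTheory CategoryTheory.Limits AlgebraicGeometry

namespace Groth.Agent.Lib.Helper35.EtLiftUnits

theorem surjUpToUnits_includeLeft {R A K : Type u} [CommRing R] [CommRing A] [Field K]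
    [Algebra R A] [Algebra R K]
    (hK : ∀ k : K, ∃ r₁ r₂ : R, algebraMap R K r₂ ≠ 0 ∧
      k * algebraMap R K r₂ = algebraMap R K r₁) :
    SurjUpToUnits (Algebra.TensorProduct.includeLeftRingHom : A →+* A ⊗[R] K) := by
  have key : ∀ r : R, (algebraMap R A r) ⊗ₜ[R] (1 : K) = (1 : A) ⊗ₜ[R] (algebraMap R K r) := by
    intro r
    rw [Algebra.algebraMap_eq_smul_one, Algebra.algebraMap_eq_smul_one, TensorProduct.smul_tmul]
  intro b
  induction b using TensorProduct.induction_on with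
  | zero => exact ⟨0, 1, by rw [map_one]; exact isUnit_one, by simp⟩
  | tmul a k =>
    obtain ⟨r₁, r₂, hr₂, hk⟩ := hK k
    refine ⟨r₁ • a, algebraMap R A r₂, ?_, ?_⟩
    · show IsUnit ((algebraMap R A r₂) ⊗ₜ[R] (1 : K))
      rw [key]
      exact (IsUnit.mk0 _ hr₂).map (Algebra.TensorProduct.includeRight : K →ₐ[R] A ⊗[R] K)
    · show a ⊗ₜ[R] k * ((algebraMap R A r₂) ⊗ₜ[R] (1 : K)) = (r₁ • a) ⊗ₜ[R] (1 : K)
      rw [key, Algebra.TensorProduct.tmul_mul_tmul, mul_one, hk, Algebra.algebraMap_eq_smul_one,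
        TensorProduct.smul_tmul]
  | add b₁ b₂ h₁ h₂ =>
    obtain ⟨a₁, t₁, ht₁, hb₁⟩ := h₁
    obtain ⟨a₂, t₂, ht₂, hb₂⟩ := h₂
    refine ⟨a₁ * t₂ + a₂ * t₁, t₁ * t₂, by rw [map_mul]; exact ht₁.mul ht₂, ?_⟩
    rw [map_mul, map_add, map_mul, map_mul, ← hb₁, ← hb₂]
    ring

/-- every element of the residue field at a point of an affine open is a ratio of values of
sections. -/
theorem exists_ratio_evaluation {S : Scheme.{u}} {S' : S.Opens} (hS' : IsAffineOpen S') (s : S)
    (hs : s ∈ S') (k : S.residueField s) :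
    ∃ r₁ r₂ : Γ(S, S'), (S.evaluation S' s hs).hom r₂ ≠ 0 ∧
      k * (S.evaluation S' s hs).hom r₂ = (S.evaluation S' s hs).hom r₁ := by
  obtain ⟨ℓ, rfl⟩ := S.residue_surjective s k
  letI := S.presheaf.algebra_section_stalk ⟨s, hs⟩
  haveI := hS'.isLocalization_stalk ⟨s, hs⟩
  obtain ⟨⟨r₁, r₂⟩, h⟩ := IsLocalization.surj (hS'.primeIdealOf ⟨s, hs⟩).asIdeal.primeCompl ℓ
  have hu : IsUnit (S.presheaf.germ S' s hs r₂.1) :=
    IsLocalization.map_units (M := (hS'.primeIdealOf ⟨s, hs⟩).asIdeal.primeCompl)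
      (S.presheaf.stalk s) r₂
  refine ⟨r₁, r₂.1, ?_, ?_⟩
  · have : IsUnit ((S.residue s).hom (S.presheaf.germ S' s hs r₂.1)) := hu.map _
    exact this.ne_zero
  · have h' : ℓ * (S.presheaf.germ S' s hs).hom r₂.1 = (S.presheaf.germ S' s hs).hom r₁ := h
    have := congr((S.residue s).hom $h')
    rw [map_mul] at this
    exact this

/-- the tensor product pushout square, with `A → A ⊗[R] K` surjective up to units -/
theorem exists_pushout_surjUpToUnits {R A K : Type u} [CommRing R] [CommRing A] [Field K]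
    (pA : R →+* A) (ev : R →+* K)
    (hK : ∀ k : K, ∃ r₁ r₂ : R, ev r₂ ≠ 0 ∧ k * ev r₂ = ev r₁) :
    ∃ (B₀ : Type u) (_ : CommRing B₀) (φ : A →+* B₀) (inR : K →+* B₀),
      SurjUpToUnits φ ∧ IsPushout (CommRingCat.ofHom pA) (CommRingCat.ofHom ev)
        (CommRingCat.ofHom φ) (CommRingCat.ofHom inR) := by
  letI : Algebra R A := pA.toAlgebra
  letI : Algebra R K := ev.toAlgebra
  exact ⟨A ⊗[R] K, inferInstance, Algebra.TensorProduct.includeLeftRingHom,
    Algebra.TensorProduct.includeRight.toRingHom, surjUpToUnits_includeLeft hK,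
    CommRingCat.isPushout_tensorProduct R A K⟩

/-- an affine chart of the fibre `f.fiber s`: the open subscheme over an affine open `X'` of `X`
(mapping into an affine open `S'` of `S`) is `Spec (Γ(X, X') ⊗ κ(s))`, and `Γ(X, X') → Γ(X, X') ⊗ κ(s)`
is surjective up to units. -/
theorem exists_fiber_chart {X S : Scheme.{u}} (f : X ⟶ S) (s : S) {S' : S.Opens}
    (hS' : IsAffineOpen S') (hs : s ∈ S') {X' : X.Opens} (hX' : IsAffineOpen X')
    (hX'S : X' ≤ f ⁻¹ᵁ S') :
    ∃ (B₀ : Type u) (_ : CommRing B₀) (φ : Γ(X, X') →+* B₀)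
      (j : Spec (CommRingCat.of B₀) ⟶ f.fiber s),
      SurjUpToUnits φ ∧ IsOpenImmersion j ∧
      j ≫ f.fiberι s = Spec.map (CommRingCat.ofHom φ) ≫ hX'.fromSpec ∧
      Set.range j = (f.fiberι s) ⁻¹' (X' : Set X) := by
  let pA : Γ(S, S') ⟶ Γ(X, X') := f.appLE S' X' hX'S
  let ev : Γ(S, S') ⟶ S.residueField s := S.evaluation S' s hs
  obtain ⟨B₀, _, φ, inR', hφ, hpush'⟩ := exists_pushout_surjUpToUnits pA.hom ev.hom
    (exists_ratio_evaluation hS' s hs)
  let inL : Γ(X, X') ⟶ CommRingCat.of B₀ := CommRingCat.ofHom φ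
  let inR : S.residueField s ⟶ CommRingCat.of B₀ := CommRingCat.ofHom inR'
  have hpush : IsPushout pA ev inL inR := hpush'
  have hT : IsPullback (Spec.map inL) (Spec.map inR) (Spec.map pA) (Spec.map ev) :=
    isPullback_SpecMap_of_isPushout _ _ _ _ hpush
  let jX := hX'.fromSpec
  let jS := hS'.fromSpec
  haveI : IsOpenImmersion jX := hX'.isOpenImmersion_fromSpec
  haveI : IsOpenImmersion jS := hS'.isOpenImmersion_fromSpec
  have e₁ : Spec.map pA ≫ jS = jX ≫ f := IsAffineOpen.SpecMap_appLE_fromSpec f hS' hX' hX'S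
  have e₂ : Spec.map ev ≫ jS = 𝟙 _ ≫ S.fromSpecResidueField s := by
    rw [Category.id_comp]
    show Spec.map (S.presheaf.germ S' s hs ≫ S.residue s) ≫ hS'.fromSpec = _
    rw [Spec.map_comp, Category.assoc]
    have := hS'.fromSpecStalk_eq_fromSpecStalk hs
    unfold IsAffineOpen.fromSpecStalk at this
    rw [this]
    rfl
  let ρ : pullback (Spec.map pA) (Spec.map ev) ⟶ pullback f (S.fromSpecResidueField s) :=
    pullback.map (Spec.map pA) (Spec.map ev) f (S.fromSpecResidueField s) jX (𝟙 _) jS e₁ e₂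
  haveI : IsOpenImmersion ρ := inferInstance
  let j : Spec (CommRingCat.of B₀) ⟶ f.fiber s := hT.isoPullback.hom ≫ ρ
  haveI : IsOpenImmersion j := inferInstanceAs (IsOpenImmersion (hT.isoPullback.hom ≫ ρ))
  refine ⟨B₀, inferInstance, φ, j, hφ, inferInstance, ?_, ?_⟩
  · show (hT.isoPullback.hom ≫ ρ) ≫ pullback.fst f (S.fromSpecResidueField s) = _
    rw [Category.assoc, pullback.lift_fst, ← Category.assoc, IsPullback.isoPullback_hom_fst]
  · show Set.range (hT.isoPullback.hom ≫ ρ) = _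
    rw [Scheme.Hom.comp_base, TopCat.coe_comp, Set.range_comp,
      Set.range_eq_univ.mpr hT.isoPullback.hom.surjective, Set.image_univ,
      Scheme.Pullback.range_map]
    simp only [Scheme.Hom.id_base, TopCat.hom_id, ContinuousMap.coe_id, Set.range_id,
      Set.preimage_univ, Set.inter_univ]
    rw [hX'.range_fromSpec]
    rfl

end Groth.Agent.Lib.Helper35.EtLiftUnits
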