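import Mathlib
import Groth.Agent.Lib.Helper35.EtLiftUnits

/-!
# Local lifting of étale schemes along `Spec` of a ring map surjective up to units (helper35)

Adapted from helper78's `EtLift` (square-zero case).
-/

set_option autoImplicit false
set_option linter.style.haveILetI false
set_option maxHeartbeats 400000
set_option backward.isDefEq.respectTransparency.types false

universe u

open Polynomial TensorProduct CategoryTheory CategoryTheory.Limits AlgebraicGeometry

namespace Groth.Agent.Lib.Helper35.EtLiftUnits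

/-- Local lifting of étale algebras along a ring map surjective up to units. -/
theorem exists_etale_lift {A B₀ : Type u} [CommRing A] [CommRing B₀] [Algebra A B₀]
    (h : SurjUpToUnits (algebraMap A B₀))
    (C₀ : Type u) [CommRing C₀] [Algebra B₀ C₀] [Algebra.Etale B₀ C₀]
    (Q : Ideal C₀) [Q.IsPrime] :
    ∃ f : C₀, f ∉ Q ∧ ∃ (C : Type u) (_ : CommRing C) (_ : Algebra A C) (_ : Algebra.Etale A C),
      Nonempty (B₀ ⊗[A] C ≃ₐ[B₀] Localization.Away f) := by
  obtain ⟨f, hfQ, hstd⟩ := Algebra.IsEtaleAt.exists_isStandardEtale (R := B₀) Q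
  refine ⟨f, hfQ, ?_⟩
  let Pres : StandardEtalePresentation B₀ (Localization.Away f) :=
    hstd.nonempty_standardEtalePresentation.some
  obtain ⟨P, ⟨eP⟩⟩ := exists_pair_lift h Pres.P
  let presP : StandardEtalePresentation A P.Ring :=
    ⟨P, P.X, P.hasMap_X, by simpa [StandardEtalePair.lift_X_left] using Function.bijective_id⟩
  let e1 : B₀ ⊗[A] P.Ring ≃ₐ[B₀] (P.map (algebraMap A B₀)).Ring :=
    (presP.baseChange (T := B₀)).equivRing
  exact ⟨P.Ring, inferInstance, inferInstance, inferInstance,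
    ⟨(e1.trans eP.symm).trans Pres.equivRing.symm⟩⟩

/-- **Local lifting of étale schemes along `Spec φ`, `φ` surjective up to units.** -/
theorem exists_etale_lift_scheme {A B₀ : Type u} [CommRing A] [CommRing B₀] (φ : A →+* B₀)
    (h : SurjUpToUnits φ)
    {E : Scheme.{u}} (s : E ⟶ Spec (CommRingCat.of B₀)) [Etale s] (e : E) :
    ∃ (W' W : Scheme.{u}) (π : W' ⟶ Spec (CommRingCat.of A)) (ι : W ⟶ E) (k : W ⟶ W'),
      IsAffine W' ∧ Etale π ∧ IsOpenImmersion ι ∧ e ∈ Set.range ι ∧
      IsPullback k (ι ≫ s) π (Spec.map (CommRingCat.ofHom φ)) := by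
  letI := φ.toAlgebra
  obtain ⟨_, ⟨V, hV, rfl⟩, heV, -⟩ :=
    E.isBasis_affineOpens.exists_subset_of_mem_open (Set.mem_univ e) isOpen_univ
  let m := hV.fromSpec
  let ψ : CommRingCat.of B₀ ⟶ Γ(E, V) := Spec.preimage (m ≫ s)
  have hψ : Spec.map ψ = m ≫ s := Spec.map_preimage _
  have hψe : ψ.hom.Etale := by
    rw [← HasRingHomProperty.Spec_iff (P := @Etale), hψ]
    infer_instance
  algebraize [ψ.hom]
  have hq : e ∈ Set.range m := by
    rw [hV.range_fromSpec]; exact heV
  obtain ⟨q, rfl⟩ := hq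
  obtain ⟨f, hfQ, C, _, _, _, ⟨θ⟩⟩ := exists_etale_lift (A := A) (B₀ := B₀) h Γ(E, V) q.asIdeal
  let loc : Γ(E, V) ⟶ CommRingCat.of (Localization.Away f) :=
    CommRingCat.ofHom (algebraMap Γ(E, V) (Localization.Away f))
  let inR : CommRingCat.of C ⟶ CommRingCat.of (B₀ ⊗[A] C) :=
    CommRingCat.ofHom (Algebra.TensorProduct.includeRight.toRingHom)
  let inL : CommRingCat.of B₀ ⟶ CommRingCat.of (B₀ ⊗[A] C) :=
    CommRingCat.ofHom (Algebra.TensorProduct.includeLeftRingHom)
  let θc : CommRingCat.of (B₀ ⊗[A] C) ≅ CommRingCat.of (Localization.Away f) :=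
    θ.toRingEquiv.toCommRingCatIso
  refine ⟨Spec (CommRingCat.of C), Spec (CommRingCat.of (Localization.Away f)),
    Spec.map (CommRingCat.ofHom (algebraMap A C)), Spec.map loc ≫ m,
    Spec.map θc.hom ≫ Spec.map inR, inferInstance, ?_, ?_, ?_, ?_⟩
  · rw [HasRingHomProperty.Spec_iff (P := @Etale)]
    exact RingHom.etale_algebraMap.2 inferInstance
  · infer_instance
  · have hq : q ∈ (Spec.map loc).opensRange := by
      rw [Scheme.Hom.opensRange_localizationAway]
      exact hfQ
    obtain ⟨q', rfl⟩ := hq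
    exact ⟨q', rfl⟩
  · have base := (isPullback_SpecMap_of_isPushout _ _ _ _
      (CommRingCat.isPushout_tensorProduct A B₀ C)).flip
    refine IsPullback.of_iso base (Scheme.Spec.mapIso θc.symm.op) (Iso.refl _) (Iso.refl _) (Iso.refl _)
      ?_ ?_ ?_ ?_
    · simp only [Iso.refl_hom, Category.comp_id, Functor.mapIso_hom, Iso.op_hom, Iso.symm_hom,
        Scheme.Spec_map, Quiver.Hom.unop_op]
      rw [← Category.assoc, ← Spec.map_comp, Iso.hom_inv_id, Spec.map_id, Category.id_comp]
    · simp only [Iso.refl_hom, Category.comp_id, Functor.mapIso_hom, Iso.op_hom, Iso.symm_hom,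
        Scheme.Spec_map, Quiver.Hom.unop_op, Category.assoc]
      rw [← hψ, ← Spec.map_comp, ← Spec.map_comp]
      congr 1
      apply CommRingCat.hom_ext
      apply RingHom.ext
      intro x
      change Algebra.TensorProduct.includeLeftRingHom x =
        θ.symm (algebraMap Γ(E, V) (Localization.Away f) (algebraMap B₀ Γ(E, V) x))
      rw [← IsScalarTower.algebraMap_apply, θ.symm.commutes]
      rfl
    · simp
    · simp

end Groth.Agent.Lib.Helper35.EtLiftUnits
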