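import Mathlib.RingTheory.Etale.Field
import Mathlib.RingTheory.Etale.StandardEtale
import Mathlib.RingTheory.LocalRing.Etale
import Mathlib.RingTheory.Adjoin.PowerBasis
import Mathlib.GroupTheory.CosetCover
import Mathlib.FieldTheory.IsAlgClosed.AlgebraicClosure
import Mathlib.FieldTheory.Separable
import Mathlib.RingTheory.AdjoinRoot
import Mathlib.Algebra.Polynomial.Lifts

/-!
# Monogenic finite étale / unramified algebras (helper35)

* `exists_points`: a finite étale algebra `C` over a field `k` has `finrank k C` many distinct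
  `k`-algebra maps to the algebraic closure.
* `exists_separating`, `adjoin_eq_top_of_separating`: primitive element for finite étale algebras
  over an infinite field.
* `minpoly_separable_of_adjoin_eq_top`: the minimal polynomial of a generator is separable.
* `separable_of_map_residue`: separability of monic polynomials over a local ring is detected on
  the residue field.
* `exists_monic_of_adjoin_eq_top`: Nakayama lifting of a generator of the closed fibre.
* `etale_quotient_of_separable`: `R[X]/(F)` is étale for `F` monic separable.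
-/

set_option autoImplicit false
set_option linter.style.haveILetI false
universe u

namespace Groth.Agent.Lib.Helper35.EtaleMonogenic

open TensorProduct Polynomial IsLocalRing


section Field

variable (k C : Type u) [Field k] [CommRing C] [Algebra k C] [Module.Finite k C]
  [Algebra.Etale k C]

/-- geometric points of a finite étale algebra over a field -/
lemma exists_points :
    ∃ (I : Type u) (_ : Fintype I) (σ : I → (C →ₐ[k] AlgebraicClosure k)),
      Function.Injective σ ∧ Fintype.card I = Module.finrank k C := by
  classical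
  let K := AlgebraicClosure k
  let CK := K ⊗[k] C
  haveI : Algebra.Etale K CK := inferInstance
  haveI : Module.Finite K CK := inferInstance
  haveI : IsArtinianRing CK := IsArtinianRing.of_finite K CK
  let e : CK ≃ₐ[K] (PrimeSpectrum CK → K) := Algebra.FormallyEtale.equivPiOfIsSepClosed K CK
  haveI : Finite (PrimeSpectrum CK) := inferInstance
  letI : Fintype (PrimeSpectrum CK) := Fintype.ofFinite _
  let σ : PrimeSpectrum CK → (C →ₐ[k] K) := fun i =>
    ((Pi.evalAlgHom K (fun _ : PrimeSpectrum CK => K) i).restrictScalars k).comp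
      ((e.toAlgHom.restrictScalars k).comp (Algebra.TensorProduct.includeRight))
  have hσ : ∀ i c, σ i c = e (1 ⊗ₜ c) i := fun i c => rfl
  refine ⟨PrimeSpectrum CK, inferInstance, σ, ?_, ?_⟩
  · intro i j hij
    have h1 : ∀ x : CK, e x i = e x j := by
      intro x
      induction x using TensorProduct.induction_on with
      | zero => simp
      | add x y hx hy => simp only [map_add, Pi.add_apply, hx, hy]
      | tmul a c =>
        have : (a ⊗ₜ[k] c : CK) = a • (1 ⊗ₜ[k] c) := by simp [TensorProduct.smul_tmul']
        rw [this, map_smul, Pi.smul_apply, Pi.smul_apply, ← hσ, ← hσ, hij]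
    have h2 := h1 (e.symm (Pi.single i 1))
    rw [AlgEquiv.apply_symm_apply, Pi.single_eq_same] at h2
    by_contra hne
    rw [Pi.single_eq_of_ne (Ne.symm hne)] at h2
    exact one_ne_zero h2
  · rw [← Module.finrank_baseChange (R := K) (S := k) (M' := C), e.toLinearEquiv.finrank_eq,
      Module.finrank_fintype_fun_eq_card]

end Field


section Field

variable {k C : Type u} [Field k] [CommRing C] [Algebra k C] [Module.Finite k C]
  {K : Type u} [Field K] [Algebra k K]
  {I : Type u} [Fintype I] (σ : I → (C →ₐ[k] K))

/-- over an infinite field, some element separates finitely many distinct points -/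
lemma exists_separating [Infinite k] (hσ : Function.Injective σ) :
    ∃ θ : C, Function.Injective (fun i => σ i θ) := by
  classical
  by_contra hcon
  push Not at hcon
  let ι := {ij : I × I // ij.1 ≠ ij.2}
  let p : ι → Subspace k C := fun ij =>
    LinearMap.ker ((σ ij.1.1).toLinearMap - (σ ij.1.2).toLinearMap)
  have hcov : ⋃ ij, (p ij : Set C) = Set.univ := by
    rw [Set.eq_univ_iff_forall]
    intro θ
    have := hcon θ
    rw [Function.Injective] at this
    push Not at this
    obtain ⟨i, j, hij, hne⟩ := this
    refine Set.mem_iUnion.mpr ⟨⟨(i, j), hne⟩, ?_⟩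
    simp only [p, SetLike.mem_coe, LinearMap.mem_ker, LinearMap.sub_apply, AlgHom.toLinearMap_apply]
    exact sub_eq_zero.mpr hij
  obtain ⟨⟨⟨i, j⟩, hne⟩, htop⟩ := Subspace.exists_eq_top_of_iUnion_eq_univ hcov
  apply hne
  apply hσ
  ext c
  have : c ∈ p ⟨(i, j), hne⟩ := by rw [htop]; trivial
  simp only [p, LinearMap.mem_ker, LinearMap.sub_apply, AlgHom.toLinearMap_apply] at this
  exact sub_eq_zero.mp this

/-- an element separating `finrank` many points generates -/
lemma adjoin_eq_top_of_separating (hcard : Fintype.card I = Module.finrank k C) (θ : C)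
    (hθ : Function.Injective (fun i => σ i θ)) : Algebra.adjoin k {θ} = ⊤ := by
  classical
  have hint : IsIntegral k θ := Algebra.IsIntegral.isIntegral θ
  set m := minpoly k θ with hm
  have hroot : ∀ i, (m.map (algebraMap k K)).IsRoot (σ i θ) := by
    intro i
    rw [IsRoot, eval_map_algebraMap, aeval_algHom_apply, minpoly.aeval, map_zero]
  have hne : m.map (algebraMap k K) ≠ 0 := Polynomial.map_ne_zero (minpoly.ne_zero hint)
  let Z : Finset K := Finset.univ.image (fun i => σ i θ)
  have hZ : Z.val ⊆ (m.map (algebraMap k K)).roots := by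
    intro z hz
    rw [Finset.mem_val, Finset.mem_image] at hz
    obtain ⟨i, _, rfl⟩ := hz
    exact (mem_roots hne).mpr (hroot i)
  have h1 : Fintype.card I ≤ m.natDegree := by
    have := card_le_degree_of_subset_roots hZ
    rwa [Finset.card_image_of_injective _ hθ, Finset.card_univ, natDegree_map] at this
  have h2 : Module.finrank k (Algebra.adjoin k {θ}) = m.natDegree :=
    (Algebra.adjoin.powerBasis hint).finrank
  apply Subalgebra.toSubmodule_injective
  rw [Algebra.top_toSubmodule]
  apply Submodule.eq_top_of_finrank_eq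
  apply le_antisymm (Submodule.finrank_le _)
  rw [← hcard]
  exact h1.trans (le_of_eq h2.symm)

/-- the minimal polynomial of a generator of a finite étale algebra with `finrank` many points
is separable of degree `finrank`. -/
lemma minpoly_separable_of_adjoin_eq_top [IsAlgClosed K] (hσ : Function.Injective σ)
    (hcard : Fintype.card I = Module.finrank k C) (θ : C)
    (hθ : Algebra.adjoin k {θ} = ⊤) :
    (minpoly k θ).Separable ∧ (minpoly k θ).natDegree = Module.finrank k C := by
  classical
  have hint : IsIntegral k θ := Algebra.IsIntegral.isIntegral θ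
  set m := minpoly k θ with hm
  have hdeg : m.natDegree = Module.finrank k C := by
    have h2 : Module.finrank k (Algebra.adjoin k {θ}) = m.natDegree :=
      (Algebra.adjoin.powerBasis hint).finrank
    rw [← h2, hθ]
    exact (Subalgebra.topEquiv (R := k) (A := C)).toLinearEquiv.finrank_eq
  refine ⟨?_, hdeg⟩
  have hinj : Function.Injective (fun i => σ i θ) := by
    intro i j hij
    apply hσ
    exact AlgHom.ext_of_adjoin_eq_top hθ (by
      intro x hx
      rw [Set.mem_singleton_iff] at hx
      rw [hx]; exact hij)
  have hroot : ∀ i, (m.map (algebraMap k K)).IsRoot (σ i θ) := by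
    intro i
    rw [IsRoot, eval_map_algebraMap, aeval_algHom_apply, minpoly.aeval, map_zero]
  have hne0 : m ≠ 0 := minpoly.ne_zero hint
  have hne : m.map (algebraMap k K) ≠ 0 := Polynomial.map_ne_zero hne0
  let Z : Finset K := Finset.univ.image (fun i => σ i θ)
  have hZ : Z.val ≤ (m.map (algebraMap k K)).roots := by
    rw [Finset.val_le_iff_val_subset]
    intro z hz
    rw [Finset.mem_val, Finset.mem_image] at hz
    obtain ⟨i, _, rfl⟩ := hz
    exact (mem_roots hne).mpr (hroot i)
  have hZcard : Z.card = m.natDegree := by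
    rw [Finset.card_image_of_injective _ hinj, Finset.card_univ, hcard, hdeg]
  have hcr : Multiset.card (m.map (algebraMap k K)).roots ≤ Multiset.card Z.val := by
    have := card_roots' (m.map (algebraMap k K))
    rw [natDegree_map] at this
    rw [Finset.card_val, hZcard]
    exact this
  have heq : Z.val = (m.map (algebraMap k K)).roots := Multiset.eq_of_le_of_card_le hZ hcr
  rw [← nodup_aroots_iff_of_splits (K := K) hne0 (IsAlgClosed.splits _)]
  change (m.map (algebraMap k K)).roots.Nodup
  rw [← heq]
  exact Z.nodup

end Field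


section LocalRing

variable (A : Type u) [CommRing A] [IsLocalRing A]

/-- separability of a monic polynomial over a local ring can be checked on the residue field -/
lemma separable_of_map_residue (F : A[X]) (hF : F.Monic) (hs : (F.map (residue A)).Separable) :
    F.Separable := by
  obtain ⟨a', b', hab⟩ := hs
  obtain ⟨a, rfl⟩ := Polynomial.map_surjective (residue A) residue_surjective a'
  obtain ⟨b, rfl⟩ := Polynomial.map_surjective (residue A) residue_surjective b'
  set u := a * F + b * derivative F with hu
  have hu1 : (u - 1).map (residue A) = 0 := by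
    rw [Polynomial.map_sub, Polynomial.map_one, hu, Polynomial.map_add, Polynomial.map_mul,
      Polynomial.map_mul, ← derivative_map, hab, sub_self]
  have hu2 : u - 1 ∈ (maximalIdeal A).map (C : A →+* A[X]) := by
    rw [Ideal.mem_map_C_iff]
    intro n
    have := congrArg (fun p => p.coeff n) hu1
    simp only [coeff_map, coeff_zero] at this
    exact (residue_eq_zero_iff _).mp this
  let J : Ideal A[X] := Ideal.span {F, derivative F}
  have huJ : u ∈ J := by
    rw [hu]
    exact J.add_mem (J.mul_mem_left _ (Ideal.subset_span (by simp)))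
      (J.mul_mem_left _ (Ideal.subset_span (by simp)))
  suffices hJ : J = ⊤ by
    have h1 : (1 : A[X]) ∈ J := by rw [hJ]; trivial
    obtain ⟨c, d, hcd⟩ := Ideal.mem_span_pair.mp h1
    exact ⟨c, d, hcd⟩
  -- Nakayama on the finite module A[X]/J
  haveI : Module.Finite A (A[X] ⧸ Ideal.span {F}) := hF.finite_adjoinRoot
  have hle : Ideal.span {F} ≤ J := Ideal.span_mono (by simp)
  haveI : Module.Finite A (A[X] ⧸ J) :=
    Module.Finite.of_surjective ((Ideal.Quotient.factorₐ A hle).toLinearMap)
      (Ideal.Quotient.factor_surjective hle)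
  have htop : (⊤ : Submodule A (A[X] ⧸ J)) ≤ maximalIdeal A • ⊤ := by
    intro q _
    obtain ⟨g, rfl⟩ := Ideal.Quotient.mk_surjective q
    have h1 : Ideal.Quotient.mk J g = Ideal.Quotient.mk J (g * (1 - u)) := by
      rw [Ideal.Quotient.eq]
      have : g - g * (1 - u) = g * u := by ring
      rw [this]
      exact J.mul_mem_left _ huJ
    rw [h1, Ideal.smul_top_eq_map, Submodule.restrictScalars_mem]
    have h2 : g * (1 - u) ∈ (maximalIdeal A).map (C : A →+* A[X]) := by
      have : g * (1 - u) = - (g * (u - 1)) := by ring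
      rw [this]
      exact Ideal.neg_mem_iff _ |>.mpr (Ideal.mul_mem_left _ _ hu2)
    have h3 : algebraMap A (A[X] ⧸ J) = (Ideal.Quotient.mk J).comp (C : A →+* A[X]) := rfl
    rw [h3, ← Ideal.map_map]
    exact Ideal.mem_map_of_mem _ h2
  have hbot := Submodule.eq_bot_of_le_smul_of_le_jacobson_bot (maximalIdeal A)
    (⊤ : Submodule A (A[X] ⧸ J)) Module.Finite.fg_top htop (maximalIdeal_le_jacobson ⊥)
  have hsub : Subsingleton (A[X] ⧸ J) := by
    have := Submodule.subsingleton_iff A |>.mp (subsingleton_of_bot_eq_top hbot.symm)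
    exact this
  exact Ideal.Quotient.subsingleton_iff.mp hsub

end LocalRing


section LocalRing

variable (A B : Type u) [CommRing A] [IsLocalRing A] [CommRing B] [Algebra A B] [Module.Finite A B]

lemma exists_monic_of_adjoin_eq_top (θ : B)
    (hθ : Algebra.adjoin (ResidueField A) {(1 : ResidueField A) ⊗ₜ[A] θ} = ⊤) :
    ∃ F : A[X], F.Monic ∧
      F.natDegree = Module.finrank (ResidueField A) (ResidueField A ⊗[A] B) ∧
      aeval θ F = 0 ∧ Function.Surjective (aeval (R := A) θ) ∧
      F.map (residue A) = minpoly (ResidueField A) ((1 : ResidueField A) ⊗ₜ[A] θ) := by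
  classical
  let k := ResidueField A
  let C := k ⊗[A] B
  set θ' : C := (1 : k) ⊗ₜ[A] θ with hθ'
  have hint : IsIntegral k θ' := Algebra.IsIntegral.isIntegral θ'
  set m := minpoly k θ' with hm
  have hmm : m.Monic := minpoly.monic hint
  have hdeg : m.natDegree = Module.finrank k C := by
    have h2 : Module.finrank k (Algebra.adjoin k {θ'}) = m.natDegree :=
      (Algebra.adjoin.powerBasis hint).finrank
    rw [← h2, hθ]
    exact (Subalgebra.topEquiv (R := k) (A := C)).toLinearEquiv.finrank_eq
  set n := m.natDegree with hn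
  let π : B →ₐ[A] C := Algebra.TensorProduct.includeRight
  have hπ : ∀ b, π b = (1 : k) ⊗ₜ[A] b := fun b => rfl
  have key0 : ∀ P : A[X], π (aeval θ P) = aeval θ' (P.map (residue A)) := by
    intro P
    have h : (algebraMap k C).comp (residue A) = (π : B →+* C).comp (algebraMap A B) := by
      ext a
      simp only [RingHom.coe_comp, Function.comp_apply, RingHom.coe_coe, AlgHom.commutes]
      rw [← ResidueField.algebraMap_eq, ← IsScalarTower.algebraMap_apply]
    exact Polynomial.map_aeval_eq_aeval_map h P θ
  have hker : ∀ b : B, π b = 0 → b ∈ (maximalIdeal A • ⊤ : Submodule A B) := by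
    intro b hb
    rw [← LinearMap.ker_tensorProductMk (I := maximalIdeal A) (Q := B)]
    exact hb
  have key1 : ∀ b : B, ∃ P : A[X], P.degree < n ∧
      b - aeval θ P ∈ (maximalIdeal A • ⊤ : Submodule A B) := by
    intro b
    have hb : π b ∈ Algebra.adjoin k {θ'} := by rw [hθ]; trivial
    rw [Algebra.adjoin_singleton_eq_range_aeval] at hb
    obtain ⟨Q, hQ⟩ := hb
    have h1 : aeval θ' (Q %ₘ m) = aeval θ' Q :=
      aeval_modByMonic_eq_self_of_root (minpoly.aeval k θ')
    have h2 : (Q %ₘ m).degree < n := by
      have := degree_modByMonic_lt Q hmm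
      rwa [degree_eq_natDegree hmm.ne_zero] at this
    have hl : (Q %ₘ m) ∈ lifts (residue A) := by
      rw [mem_lifts]
      exact Polynomial.map_surjective _ residue_surjective _
    obtain ⟨R, hR, hRd⟩ := exists_degree_eq_of_mem_lifts hl
    refine ⟨R, by rw [hRd]; exact h2, hker _ ?_⟩
    rw [map_sub, key0, hR, h1]
    exact sub_eq_zero.mpr hQ.symm
  let N : Submodule A B := Submodule.map (aeval (R := A) θ).toLinearMap (degreeLT A n)
  have hN : (⊤ : Submodule A B) ≤ N := by
    apply Submodule.le_of_le_smul_of_le_jacobson_bot (I := maximalIdeal A) Module.Finite.fg_top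
      (maximalIdeal_le_jacobson ⊥)
    intro b _
    obtain ⟨P, hP, hb⟩ := key1 b
    have : b = aeval θ P + (b - aeval θ P) := by ring
    rw [this]
    exact Submodule.add_mem_sup ⟨P, mem_degreeLT.mpr hP, rfl⟩ hb
  obtain ⟨P₀, hP₀, hP₀'⟩ := hN (show θ ^ n ∈ ⊤ from trivial)
  rw [SetLike.mem_coe, mem_degreeLT] at hP₀
  have hP₀'' : aeval θ P₀ = θ ^ n := hP₀'
  refine ⟨X ^ n - P₀, monic_X_pow_sub hP₀, ?_, ?_, ?_, ?_⟩
  · rw [← hdeg]
    have h1 : (X ^ n - P₀ : A[X]).degree = (X ^ n : A[X]).degree :=
      degree_sub_eq_left_of_degree_lt (by rwa [degree_X_pow])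
    rw [degree_X_pow] at h1
    exact natDegree_eq_of_degree_eq_some h1
  · rw [map_sub, map_pow, aeval_X, hP₀'', sub_self]
  · intro b
    obtain ⟨P, _, hP⟩ := hN (show b ∈ ⊤ from trivial)
    exact ⟨P, hP⟩
  · have hFm : (X ^ n - P₀ : A[X]).Monic := monic_X_pow_sub hP₀
    have hnat : (X ^ n - P₀ : A[X]).natDegree = n := by
      have h1 : (X ^ n - P₀ : A[X]).degree = (X ^ n : A[X]).degree :=
        degree_sub_eq_left_of_degree_lt (by rwa [degree_X_pow])
      rw [degree_X_pow] at h1
      exact natDegree_eq_of_degree_eq_some h1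
    apply eq_of_monic_of_dvd_of_natDegree_le hmm (hFm.map _)
    · apply minpoly.dvd
      rw [← key0, map_sub, map_pow, aeval_X, hP₀'', sub_self, map_zero]
    · rw [hFm.natDegree_map, hnat]

end LocalRing


section Etale

variable {R : Type u} [CommRing R]

/-- `R[X]/(F)` is étale over `R` for `F` monic separable -/
lemma etale_quotient_of_separable (F : R[X]) (hm : F.Monic) (hs : F.Separable) :
    Algebra.Etale R (R[X] ⧸ Ideal.span {F}) := by
  obtain ⟨a, b, hab⟩ := hs
  let P : StandardEtalePair R := ⟨F, hm, 1, ⟨b, a, 0, by rw [pow_zero, ← hab]; ring⟩⟩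
  let e1 : P.Ring ≃ₐ[R] Localization.Away (AdjoinRoot.mk P.f P.g) := P.equivAwayAdjoinRoot
  have hu : ∀ x ∈ Submonoid.powers (AdjoinRoot.mk P.f P.g), IsUnit x := by
    rintro x ⟨n, rfl⟩
    have : AdjoinRoot.mk P.f P.g = 1 := map_one _
    simp only [this, one_pow]
    exact isUnit_one
  let e2 : AdjoinRoot F ≃ₐ[AdjoinRoot F] Localization.Away (AdjoinRoot.mk P.f P.g) :=
    IsLocalization.atUnits (AdjoinRoot F) (Submonoid.powers (AdjoinRoot.mk P.f P.g)) hu
  let e3 : P.Ring ≃ₐ[R] AdjoinRoot F := e1.trans (e2.restrictScalars R).symm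
  exact Algebra.Etale.of_equiv e3

end Etale

end Groth.Agent.Lib.Helper35.EtaleMonogenic
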