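import Groth.Agent.Lib.Helper35.SepCotangent
import Groth.Agent.Lib.Helper35.FiberStalk
import Mathlib.AlgebraicGeometry.Noetherian
import Mathlib.AlgebraicGeometry.Fiber
import Mathlib.AlgebraicGeometry.Morphisms.Smooth

set_option autoImplicit false
set_option linter.style.haveILetI false
set_option maxHeartbeats 400000
universe u

namespace Groth.Agent.Lib.Helper35.FiberNoeth

open AlgebraicGeometry CategoryTheory Limits IsLocalRing

theorem locallyOfFiniteType_pullback_restrict {X S T : Scheme.{u}} (f : X ⟶ S) (j : T ⟶ S)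
    (W : X.Opens) [LocallyOfFiniteType (W.ι ≫ f)] :
    LocallyOfFiniteType (((pullback.fst f j) ⁻¹ᵁ W).ι ≫ pullback.snd f j) := by
  have h1 : ((pullback.fst f j) ⁻¹ᵁ W).ι = (pullbackRestrictIsoRestrict (pullback.fst f j) W).inv ≫
      pullback.fst (pullback.fst f j) W.ι := (pullbackRestrictIsoRestrict_inv_fst _ _).symm
  have h2 : pullback.fst (pullback.fst f j) W.ι ≫ pullback.snd f j =
      (pullbackSymmetry (pullback.fst f j) W.ι).hom ≫
        (pullbackRightPullbackFstIso f j W.ι).hom ≫ pullback.snd (W.ι ≫ f) j := by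
    rw [pullbackRightPullbackFstIso_hom_snd, ← Category.assoc, pullbackSymmetry_hom_comp_snd]
  rw [h1, Category.assoc, h2]
  infer_instance

theorem locallyOfFiniteType_fiber_restrict {X S : Scheme.{u}} (f : X ⟶ S) (s : S) (W : X.Opens)
    [LocallyOfFiniteType (W.ι ≫ f)] :
    LocallyOfFiniteType (((f.fiberι s) ⁻¹ᵁ W).ι ≫ f.fiberToSpecResidueField s) :=
  locallyOfFiniteType_pullback_restrict f (S.fromSpecResidueField s) W

theorem isNoetherianRing_stalk_fiber {X S : Scheme.{u}} (f : X ⟶ S) (s : S) (W : X.Opens)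
    [LocallyOfFiniteType (W.ι ≫ f)] (x' : f.fiber s) (hx' : f.fiberι s x' ∈ W) :
    IsNoetherianRing ((f.fiber s).presheaf.stalk x') := by
  haveI := locallyOfFiniteType_fiber_restrict f s W
  haveI : IsLocallyNoetherian (((f.fiberι s) ⁻¹ᵁ W : (f.fiber s).Opens) : Scheme.{u}) :=
    LocallyOfFiniteType.isLocallyNoetherian
      (((f.fiberι s) ⁻¹ᵁ W).ι ≫ f.fiberToSpecResidueField s)
  let y : ((f.fiberι s) ⁻¹ᵁ W : (f.fiber s).Opens) := ⟨x', hx'⟩
  haveI hn : IsNoetherianRing (((f.fiberι s) ⁻¹ᵁ W).toScheme.presheaf.stalk y) :=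
    instIsNoetherianRingCarrierStalkCommRingCatPresheafOfIsLocallyNoetherian
  exact isNoetherianRing_of_ringEquiv _
    (((f.fiberι s) ⁻¹ᵁ W).stalkIso y).commRingCatIsoToRingEquiv

theorem fiber_data {X S : Scheme.{u}} (f : X ⟶ S) (s : S) (W : X.Opens)
    [LocallyOfFiniteType (W.ι ≫ f)] (x' : f.fiber s) (hx' : f.fiberι s x' ∈ W)
    (hgen : maximalIdeal ((f.fiber s).presheaf.stalk x') ≠ ⊥) :
    IsNoetherianRing (X.presheaf.stalk (f.fiberι s x') ⧸
        (maximalIdeal (S.presheaf.stalk (f (f.fiberι s x')))).map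
          (f.stalkMap (f.fiberι s x')).hom) ∧
    ∃ t₀ ∈ maximalIdeal (X.presheaf.stalk (f.fiberι s x')),
      t₀ ∉ (maximalIdeal (S.presheaf.stalk (f (f.fiberι s x')))).map
        (f.stalkMap (f.fiberι s x')).hom := by
  have hker := FiberStalk.ker_stalkMap_fiberι f s x'
  have hsurj := FiberStalk.stalkMap_fiberι_surjective f s x'
  haveI := isNoetherianRing_stalk_fiber f s W x' hx'
  rw [← hker]
  refine ⟨isNoetherianRing_of_ringEquiv _
    (RingHom.quotientKerEquivOfSurjective hsurj).symm, ?_⟩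
  obtain ⟨a, ha, ha0⟩ := Submodule.exists_mem_ne_zero_of_ne_bot hgen
  obtain ⟨t₀, rfl⟩ := hsurj a
  refine ⟨t₀, ?_, fun h => ha0 (RingHom.mem_ker.mp h)⟩
  by_contra hnm
  have hu : IsUnit t₀ := not_not.mp fun h => hnm ((mem_maximalIdeal _).mpr h)
  exact (mem_maximalIdeal _).mp ha (hu.map _)

end Groth.Agent.Lib.Helper35.FiberNoeth
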