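import Groth.Agent.Lib.Helper35.ArtinLiftSmooth
import Mathlib.RingTheory.Smooth.Local
import Mathlib.RingTheory.Smooth.Fiber
import Mathlib.RingTheory.Kaehler.TensorProduct
import Mathlib.RingTheory.TensorProduct.Quotient
import Mathlib.RingTheory.Flat.Basic
import Mathlib.RingTheory.Etale.Kaehler
import Mathlib.RingTheory.RingHom.Flat
import Mathlib.RingTheory.RingHom.Smooth

set_option autoImplicit false
set_option maxHeartbeats 400000
set_option backward.isDefEq.respectTransparency.types false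
universe u

namespace Groth.Agent.Lib.Helper35.FiberSmoothRing

open IsLocalRing TensorProduct KaehlerDifferential

/-- Elementwise form of the Jacobian criterion for local algebras. -/
theorem formallySmooth_iff_forall_mem {A P B : Type u} [CommRing A] [CommRing P] [CommRing B]
    [IsLocalRing P] [IsLocalRing B] [Algebra A P] [Algebra P B] [Algebra A B] [IsScalarTower A P B]
    [Algebra.FormallySmooth A P] [Module.Free P Ω[P⁄A]] [Module.Finite P Ω[P⁄A]]
    (hσ : Function.Surjective (algebraMap P B)) (hfg : (RingHom.ker (algebraMap P B)).FG) :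
    Algebra.FormallySmooth A B ↔ ∀ c ∈ RingHom.ker (algebraMap P B),
      D A P c ∈ maximalIdeal P • (⊤ : Submodule P Ω[P⁄A]) →
        c ∈ maximalIdeal P * RingHom.ker (algebraMap P B) := by
  rw [Algebra.FormallySmooth.iff_injective_cotangentComplexBaseChange_residueField P hσ hfg,
    injective_iff_map_eq_zero]
  haveI := IsLocalHom.of_surjective (algebraMap P B) hσ
  have hκ : Function.Surjective (algebraMap P (ResidueField B)) := by
    rw [IsScalarTower.algebraMap_eq P B]
    exact residue_surjective.comp hσ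
  have hker : RingHom.ker (algebraMap P (ResidueField B)) = maximalIdeal P := by
    ext p
    rw [RingHom.mem_ker, IsScalarTower.algebraMap_apply P B, ResidueField.algebraMap_eq,
      residue_eq_zero_iff, ← maximalIdeal_comap (algebraMap P B), Ideal.mem_comap]
  have hΦ : ∀ c : RingHom.ker (algebraMap P B),
      cotangentComplexBaseChange A B P (ResidueField B) ((1 : ResidueField B) ⊗ₜ c) =
        (1 : ResidueField B) ⊗ₜ D A P (c : P) := by
    intro c
    rw [KaehlerDifferential.cotangentComplexBaseChange_tmul, one_smul,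
      KaehlerDifferential.kerToTensor_apply]
  have h1 : ∀ c : RingHom.ker (algebraMap P B),
      (1 : ResidueField B) ⊗ₜ[P] c = 0 ↔ (c : P) ∈ maximalIdeal P * RingHom.ker (algebraMap P B) := by
    intro c
    rw [one_tmul_eq_zero_iff hκ, hker, Submodule.mem_smul_top_iff]
    simp [smul_eq_mul]
  have h2 : ∀ c : P, (1 : ResidueField B) ⊗ₜ[P] D A P c = 0 ↔
      D A P c ∈ maximalIdeal P • (⊤ : Submodule P Ω[P⁄A]) := by
    intro c
    rw [one_tmul_eq_zero_iff hκ, hker]
  constructor
  · intro H c hc hD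
    have := H ((1 : ResidueField B) ⊗ₜ ⟨c, hc⟩) (by rw [hΦ]; exact (h2 c).mpr hD)
    exact (h1 ⟨c, hc⟩).mp this
  · intro H t ht
    obtain ⟨c, hc⟩ := TensorProduct.mk_surjective P (RingHom.ker (algebraMap P B))
      (ResidueField B) hκ t
    subst hc
    rw [TensorProduct.mk_apply] at ht ⊢
    rw [hΦ, h2] at ht
    exact (h1 c).mpr (H c c.2 ht)

theorem D_mem_of_D_mem {R P R' P' : Type u} [CommRing R] [CommRing P]
    [CommRing R'] [CommRing P'] [IsLocalRing P] [IsLocalRing P'] [Algebra R P] [Algebra R' P']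
    [Algebra R R'] [Algebra P P'] [Algebra R P'] [IsScalarTower R R' P'] [IsScalarTower R P P']
    [IsLocalHom (algebraMap P P')] (c : P)
    (hD : D R P c ∈ maximalIdeal P • (⊤ : Submodule P Ω[P⁄R])) :
    D R' P' (algebraMap P P' c) ∈ maximalIdeal P' • (⊤ : Submodule P' Ω[P'⁄R']) := by
  have : SMulCommClass R' P P' := ⟨fun a p x => by
    rw [Algebra.smul_def, Algebra.smul_def, Algebra.smul_def, Algebra.smul_def]; ring⟩
  have hmax : ∀ p ∈ maximalIdeal P, algebraMap P P' p ∈ maximalIdeal P' := by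
    intro p hp
    rw [← maximalIdeal_comap (algebraMap P P')] at hp
    exact hp
  have key : ∀ ω ∈ maximalIdeal P • (⊤ : Submodule P Ω[P⁄R]),
      KaehlerDifferential.map R R' P P' ω ∈ maximalIdeal P' • (⊤ : Submodule P' Ω[P'⁄R']) := by
    intro ω hω
    refine Submodule.smul_induction_on hω (fun p hp ω _ => ?_) (fun x y hx hy => ?_)
    · rw [map_smul, ← algebraMap_smul P' p]
      exact Submodule.smul_mem_smul (hmax p hp) Submodule.mem_top
    · rw [map_add]
      exact add_mem hx hy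
  have := key _ hD
  rwa [KaehlerDifferential.map_D] at this

/-- Core comparison: smoothness of `T = P/I` over `R` from smoothness of `T' = P'/I'` over `R'`. -/
theorem core {R P T R' P' T' : Type u} [CommRing R] [CommRing P] [CommRing T]
    [CommRing R'] [CommRing P'] [CommRing T']
    [IsLocalRing P] [IsLocalRing T] [Algebra R P] [Algebra P T] [Algebra R T] [IsScalarTower R P T]
    [Algebra.FormallySmooth R P] [Module.Free P Ω[P⁄R]] [Module.Finite P Ω[P⁄R]]
    (hσ : Function.Surjective (algebraMap P T)) (hfg : (RingHom.ker (algebraMap P T)).FG)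
    [IsLocalRing P'] [IsLocalRing T'] [Algebra R' P'] [Algebra P' T'] [Algebra R' T']
    [IsScalarTower R' P' T']
    [Algebra.FormallySmooth R' P'] [Module.Free P' Ω[P'⁄R']] [Module.Finite P' Ω[P'⁄R']]
    (hσ' : Function.Surjective (algebraMap P' T')) (hfg' : (RingHom.ker (algebraMap P' T')).FG)
    [Algebra.FormallySmooth R' T']
    [Algebra R R'] [Algebra P P'] [Algebra R P'] [IsScalarTower R R' P'] [IsScalarTower R P P']
    (hπ : Function.Surjective (algebraMap P P'))
    (hI1 : ∀ c ∈ RingHom.ker (algebraMap P T), algebraMap P P' c ∈ RingHom.ker (algebraMap P' T'))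
    (hI2 : RingHom.ker (algebraMap P' T') ≤ (RingHom.ker (algebraMap P T)).map (algebraMap P P'))
    (hd : RingHom.ker (algebraMap P T) ⊓ RingHom.ker (algebraMap P P') ≤
      maximalIdeal P * RingHom.ker (algebraMap P T)) :
    Algebra.FormallySmooth R T := by
  rw [formallySmooth_iff_forall_mem (A := R) (P := P) (B := T) hσ hfg]
  intro c hc hD
  have H := (formallySmooth_iff_forall_mem (A := R') (P := P') (B := T') hσ' hfg').mp inferInstance
  haveI : IsLocalHom (algebraMap P P') := IsLocalHom.of_surjective _ hπ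
  have hD' := D_mem_of_D_mem (R := R) (R' := R') (P' := P') c hD
  have h1 := H _ (hI1 c hc) hD'
  have h2 : maximalIdeal P' * RingHom.ker (algebraMap P' T') ≤
      (maximalIdeal P * RingHom.ker (algebraMap P T)).map (algebraMap P P') := by
    rw [Ideal.map_mul, map_maximalIdeal_of_surjective _ hπ]
    exact Ideal.mul_mono_right hI2
  obtain ⟨c', hc', hcc'⟩ := (Ideal.mem_map_iff_of_surjective _ hπ).mp (h2 h1)
  have h3 : c - c' ∈ RingHom.ker (algebraMap P T) ⊓ RingHom.ker (algebraMap P P') := by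
    have hc'' : c' ∈ RingHom.ker (algebraMap P T) :=
      Ideal.mul_le_right (I := maximalIdeal P) (J := RingHom.ker (algebraMap P T)) hc'
    refine Ideal.mem_inf.mpr ⟨Ideal.sub_mem _ hc hc'', ?_⟩
    rw [RingHom.mem_ker, map_sub, hcc', sub_self]
  have h4 := hd h3
  have : c = (c - c') + c' := by ring
  rw [this]
  exact add_mem h4 hc'


theorem inf_map_le_of_flat {A P C : Type u} [CommRing A] [CommRing P] [CommRing C]
    [Algebra A P] [Algebra P C] [Algebra A C] [IsScalarTower A P C] [Module.Flat A C]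
    (hσ : Function.Surjective (algebraMap P C)) (𝔞 : Ideal A) :
    RingHom.ker (algebraMap P C) ⊓ 𝔞.map (algebraMap A P) ≤
      𝔞.map (algebraMap A P) * RingHom.ker (algebraMap P C) := by
  intro e he
  obtain ⟨he1, he2⟩ := Ideal.mem_inf.mp he
  let σ : P →ₗ[A] C := (IsScalarTower.toAlgHom A P C).toLinearMap
  let μP : 𝔞 ⊗[A] P →ₗ[A] P := (TensorProduct.lid A P).toLinearMap ∘ₗ (𝔞.subtype).rTensor P
  let μC : 𝔞 ⊗[A] C →ₗ[A] C := (TensorProduct.lid A C).toLinearMap ∘ₗ (𝔞.subtype).rTensor C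
  have hμC : Function.Injective μC :=
    (TensorProduct.lid A C).injective.comp
      (Module.Flat.rTensor_preserves_injective_linearMap _ (Submodule.injective_subtype 𝔞))
  have hnat : ∀ t, μC (LinearMap.lTensor 𝔞 σ t) = σ (μP t) := by
    intro t
    induction t with
    | zero => simp
    | tmul a p => simp [μC, μP, σ]
    | add x y hx hy => simp only [map_add, hx, hy]
  obtain ⟨t, ht⟩ : ∃ t, μP t = e := by
    have : e ∈ 𝔞 • (⊤ : Submodule A P) := by
      rw [Ideal.smul_top_eq_map]; exact he2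
    refine Submodule.smul_induction_on this ?_ ?_
    · intro a ha p _
      exact ⟨(⟨a, ha⟩ : 𝔞) ⊗ₜ p, by simp [μP]⟩
    · rintro x y ⟨tx, rfl⟩ ⟨ty, rfl⟩
      exact ⟨tx + ty, map_add _ _ _⟩
  have h0 : LinearMap.lTensor 𝔞 σ t = 0 := by
    apply hμC
    rw [hnat, ht, map_zero]
    exact he1
  have hex : Function.Exact (LinearMap.ker σ).subtype σ := LinearMap.exact_subtype_ker_map σ
  have hσ' : Function.Surjective σ := hσ
  obtain ⟨t', ht'⟩ := (lTensor_exact 𝔞 hex hσ' t).mp h0
  rw [← ht, ← ht']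
  clear ht' h0 ht
  induction t' with
  | zero => simp
  | tmul a k =>
    have hk : (k : P) ∈ RingHom.ker (algebraMap P C) := k.2
    have : μP ((LinearMap.lTensor 𝔞 (LinearMap.ker σ).subtype) (a ⊗ₜ k)) =
        algebraMap A P a * (k : P) := by
      simp [μP, Algebra.smul_def]
    rw [this]
    exact Ideal.mul_mem_mul (Ideal.mem_map_of_mem _ a.2) hk
  | add x y hx hy =>
    rw [map_add, map_add]
    exact add_mem hx hy

attribute [local instance] Algebra.TensorProduct.rightAlgebra in
theorem isPushout_quotient (B P : Type u) [CommRing B] [CommRing P] [Algebra B P] (𝔟 : Ideal B) :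
    Algebra.IsPushout B (B ⧸ 𝔟) P (P ⧸ 𝔟.map (algebraMap B P)) := by
  refine Algebra.IsPushout.of_equiv (R := B) (S := P) (R' := B ⧸ 𝔟) (S' := (B ⧸ 𝔟) ⊗[B] P)
    (Algebra.TensorProduct.quotIdealMapEquivQuotTensor P 𝔟).symm ?_
  ext p
  show (Algebra.TensorProduct.quotIdealMapEquivQuotTensor P 𝔟).symm ((1 : B ⧸ 𝔟) ⊗ₜ[B] p) = _
  rw [AlgEquiv.symm_apply_eq]
  rfl

theorem formallySmooth_quotient (B P : Type u) [CommRing B] [CommRing P] [Algebra B P] (𝔟 : Ideal B)
    [Algebra.FormallySmooth B P] :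
    Algebra.FormallySmooth (B ⧸ 𝔟) (P ⧸ 𝔟.map (algebraMap B P)) :=
  Algebra.FormallySmooth.of_equiv (Algebra.TensorProduct.quotIdealMapEquivQuotTensor P 𝔟).symm

theorem free_kaehler_quotient (B P : Type u) [CommRing B] [CommRing P] [Algebra B P] (𝔟 : Ideal B)
    [Module.Free P Ω[P⁄B]] :
    Module.Free (P ⧸ 𝔟.map (algebraMap B P)) Ω[(P ⧸ 𝔟.map (algebraMap B P))⁄(B ⧸ 𝔟)] := by
  haveI := isPushout_quotient B P 𝔟
  exact Module.Free.of_equiv
    (KaehlerDifferential.tensorKaehlerEquiv B (B ⧸ 𝔟) P (P ⧸ 𝔟.map (algebraMap B P)))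

theorem finite_kaehler_quotient (B P : Type u) [CommRing B] [CommRing P] [Algebra B P] (𝔟 : Ideal B)
    [Module.Finite P Ω[P⁄B]] :
    Module.Finite (P ⧸ 𝔟.map (algebraMap B P)) Ω[(P ⧸ 𝔟.map (algebraMap B P))⁄(B ⧸ 𝔟)] := by
  haveI := isPushout_quotient B P 𝔟
  exact Module.Finite.equiv
    (KaehlerDifferential.tensorKaehlerEquiv B (B ⧸ 𝔟) P (P ⧸ 𝔟.map (algebraMap B P)))

theorem formallySmooth_of_quotient {B P C : Type u} [CommRing B] [CommRing P] [CommRing C]
    [IsLocalRing P] [IsLocalRing C] [Algebra B P] [Algebra P C] [Algebra B C] [IsScalarTower B P C]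
    [Algebra.FormallySmooth B P] [Module.Free P Ω[P⁄B]] [Module.Finite P Ω[P⁄B]]
    (hσ : Function.Surjective (algebraMap P C)) (hfg : (RingHom.ker (algebraMap P C)).FG)
    (𝔟 : Ideal B) (h𝔟 : 𝔟.map (algebraMap B P) ≤ maximalIdeal P)
    (hd : RingHom.ker (algebraMap P C) ⊓ 𝔟.map (algebraMap B P) ≤
      maximalIdeal P * RingHom.ker (algebraMap P C))
    [Algebra.FormallySmooth (B ⧸ 𝔟) (C ⧸ 𝔟.map (algebraMap B C))] :
    Algebra.FormallySmooth B C := by
  haveI : IsLocalHom (algebraMap P C) := IsLocalHom.of_surjective _ hσ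
  have hmapC : 𝔟.map (algebraMap B C) = (𝔟.map (algebraMap B P)).map (algebraMap P C) := by
    rw [Ideal.map_map, ← IsScalarTower.algebraMap_eq]
  have h𝔟C : 𝔟.map (algebraMap B C) ≤ maximalIdeal C := by
    rw [hmapC, Ideal.map_le_iff_le_comap, maximalIdeal_comap]
    exact h𝔟
  have hle : 𝔟.map (algebraMap B P) ≤ (𝔟.map (algebraMap B C)).comap (algebraMap P C) := by
    rw [← Ideal.map_le_iff_le_comap, hmapC]
  haveI : Nontrivial (P ⧸ 𝔟.map (algebraMap B P)) :=
    Ideal.Quotient.nontrivial_iff.mpr (fun h => (maximalIdeal.isMaximal P).ne_top (top_le_iff.mp (h ▸ h𝔟)))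
  haveI : Nontrivial (C ⧸ 𝔟.map (algebraMap B C)) :=
    Ideal.Quotient.nontrivial_iff.mpr (fun h => (maximalIdeal.isMaximal C).ne_top (top_le_iff.mp (h ▸ h𝔟C)))
  haveI : IsLocalRing (P ⧸ 𝔟.map (algebraMap B P)) :=
    IsLocalRing.of_surjective' (Ideal.Quotient.mk _) Ideal.Quotient.mk_surjective
  haveI : IsLocalRing (C ⧸ 𝔟.map (algebraMap B C)) :=
    IsLocalRing.of_surjective' (Ideal.Quotient.mk _) Ideal.Quotient.mk_surjective
  let φ : (P ⧸ 𝔟.map (algebraMap B P)) →+* (C ⧸ 𝔟.map (algebraMap B C)) :=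
    Ideal.quotientMap _ (algebraMap P C) hle
  letI : Algebra (P ⧸ 𝔟.map (algebraMap B P)) (C ⧸ 𝔟.map (algebraMap B C)) := φ.toAlgebra
  have hφ : ∀ p : P, algebraMap (P ⧸ 𝔟.map (algebraMap B P)) (C ⧸ 𝔟.map (algebraMap B C))
      (Ideal.Quotient.mk _ p) = Ideal.Quotient.mk _ (algebraMap P C p) := fun p => rfl
  haveI : IsScalarTower (B ⧸ 𝔟) (P ⧸ 𝔟.map (algebraMap B P)) (C ⧸ 𝔟.map (algebraMap B C)) := by
    refine IsScalarTower.of_algebraMap_eq fun b => ?_
    obtain ⟨b, rfl⟩ := Ideal.Quotient.mk_surjective b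
    show Ideal.Quotient.mk _ (algebraMap B C b) = φ (Ideal.Quotient.mk _ (algebraMap B P b))
    rw [IsScalarTower.algebraMap_apply B P C]
    rfl
  haveI := formallySmooth_quotient B P 𝔟
  haveI := free_kaehler_quotient B P 𝔟
  haveI := finite_kaehler_quotient B P 𝔟
  have hσ' : Function.Surjective
      (algebraMap (P ⧸ 𝔟.map (algebraMap B P)) (C ⧸ 𝔟.map (algebraMap B C))) :=
    Ideal.quotientMap_surjective hσ
  have hI1 : ∀ c ∈ RingHom.ker (algebraMap P C), algebraMap P (P ⧸ 𝔟.map (algebraMap B P)) c ∈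
      RingHom.ker (algebraMap (P ⧸ 𝔟.map (algebraMap B P)) (C ⧸ 𝔟.map (algebraMap B C))) := by
    intro c hc
    rw [RingHom.mem_ker] at hc ⊢
    rw [Ideal.Quotient.algebraMap_eq, hφ, hc, map_zero]
  have hI2 : RingHom.ker (algebraMap (P ⧸ 𝔟.map (algebraMap B P)) (C ⧸ 𝔟.map (algebraMap B C))) ≤
      (RingHom.ker (algebraMap P C)).map (algebraMap P (P ⧸ 𝔟.map (algebraMap B P))) := by
    intro x' hx'
    obtain ⟨x, rfl⟩ := Ideal.Quotient.mk_surjective x'
    rw [RingHom.mem_ker, hφ, Ideal.Quotient.eq_zero_iff_mem, hmapC] at hx'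
    obtain ⟨z, hz, hzx⟩ := (Ideal.mem_map_iff_of_surjective _ hσ).mp hx'
    have h1 : x - z ∈ RingHom.ker (algebraMap P C) := by
      rw [RingHom.mem_ker, map_sub, hzx, sub_self]
    have h2 : Ideal.Quotient.mk (𝔟.map (algebraMap B P)) x =
        algebraMap P (P ⧸ 𝔟.map (algebraMap B P)) (x - z) := by
      rw [Ideal.Quotient.algebraMap_eq, map_sub, Ideal.Quotient.eq_zero_iff_mem.mpr hz, sub_zero]
    rw [h2]
    exact Ideal.mem_map_of_mem _ h1
  have hfg' : (RingHom.ker
      (algebraMap (P ⧸ 𝔟.map (algebraMap B P)) (C ⧸ 𝔟.map (algebraMap B C)))).FG := by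
    have : RingHom.ker (algebraMap (P ⧸ 𝔟.map (algebraMap B P)) (C ⧸ 𝔟.map (algebraMap B C))) =
        (RingHom.ker (algebraMap P C)).map (algebraMap P (P ⧸ 𝔟.map (algebraMap B P))) := by
      refine le_antisymm hI2 ?_
      rw [Ideal.map_le_iff_le_comap]
      exact hI1
    rw [this]
    exact hfg.map _
  have hkerπ : RingHom.ker (algebraMap P (P ⧸ 𝔟.map (algebraMap B P))) = 𝔟.map (algebraMap B P) := by
    rw [Ideal.Quotient.algebraMap_eq, Ideal.mk_ker]
  refine core (R := B) (P := P) (T := C) (R' := B ⧸ 𝔟) (P' := P ⧸ 𝔟.map (algebraMap B P))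
    (T' := C ⧸ 𝔟.map (algebraMap B C)) hσ hfg hσ' hfg' ?_ hI1 hI2 ?_
  · rw [Ideal.Quotient.algebraMap_eq]
    exact Ideal.Quotient.mk_surjective
  · rw [hkerπ]
    exact hd

/-- Kähler differentials do not change when the base is replaced by a formally unramified
extension. -/
theorem kaehler_map_bijective_of_formallyUnramified (R A B : Type u) [CommRing R] [CommRing A]
    [CommRing B] [Algebra R A] [Algebra A B] [Algebra R B] [IsScalarTower R A B]
    [Algebra.FormallyUnramified R A] :
    Function.Bijective (KaehlerDifferential.map R A B B) := by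
  refine ⟨?_, KaehlerDifferential.map_surjective R A B⟩
  rw [← LinearMap.ker_eq_bot, (KaehlerDifferential.exact_mapBaseChange_map R A B).linearMap_ker_eq,
    LinearMap.range_eq_bot]
  exact Subsingleton.elim _ _

theorem exists_presentation {B₀ C₀ B C : Type u} [CommRing B₀] [CommRing C₀] [CommRing B]
    [CommRing C] [Algebra B₀ C₀] [Algebra.FinitePresentation B₀ C₀]
    (p : Ideal B₀) [p.IsPrime] (q : Ideal C₀) [q.IsPrime] [q.LiesOver p]
    [Algebra B₀ B] [IsLocalization.AtPrime B p] [Algebra C₀ C] [IsLocalization.AtPrime C q]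
    (β : B →+* C)
    (hβ : β.comp (algebraMap B₀ B) = (algebraMap C₀ C).comp (algebraMap B₀ C₀)) :
    ∃ (P : Type u) (_ : CommRing P) (_ : IsLocalRing P) (_ : Algebra B P) (σ : P →+* C),
      σ.comp (algebraMap B P) = β ∧ Function.Surjective σ ∧ (RingHom.ker σ).FG ∧
      Algebra.FormallySmooth B P ∧ Module.Free P Ω[P⁄B] ∧ Module.Finite P Ω[P⁄B] := by
  obtain ⟨n, f₀, hf₀⟩ := Algebra.FiniteType.iff_quotient_mvPolynomial''.mp
    (inferInstance : Algebra.FiniteType B₀ C₀)
  let Q : Ideal (MvPolynomial (Fin n) B₀) := q.comap (f₀ : MvPolynomial (Fin n) B₀ →+* C₀)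
  haveI : Q.IsPrime := Ideal.comap_isPrime _ _
  let P := Localization.AtPrime Q
  have hunit : ∀ x : Q.primeCompl,
      IsUnit (((algebraMap C₀ C).comp (f₀ : MvPolynomial (Fin n) B₀ →+* C₀)) x) := fun x =>
    IsLocalization.map_units C (⟨f₀ x, x.2⟩ : q.primeCompl)
  let σ : P →+* C := IsLocalization.lift hunit
  have hσ_alg : ∀ x, σ (algebraMap _ P x) = algebraMap C₀ C (f₀ x) := fun x =>
    IsLocalization.lift_eq hunit x
  have hσsurj : Function.Surjective σ := by
    intro x
    obtain ⟨x, ⟨s, hs⟩, rfl⟩ := IsLocalization.exists_mk'_eq q.primeCompl x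
    obtain ⟨x, rfl⟩ := hf₀ x
    obtain ⟨s, rfl⟩ := hf₀ s
    refine ⟨IsLocalization.mk' (M := Q.primeCompl) _ x ⟨s, hs⟩, ?_⟩
    simp [σ, IsLocalization.lift_mk', Units.mul_inv_eq_iff_eq_mul, IsUnit.liftRight]
  have hσker : (RingHom.ker σ).FG := by
    have := Algebra.FinitePresentation.ker_fG_of_surjective _ hf₀
    convert! this.map (algebraMap _ P)
    refine le_antisymm ?_ (Ideal.map_le_iff_le_comap.mpr fun x hx ↦ by
      simp only [Ideal.mem_comap, RingHom.mem_ker, hσ_alg]
      rw [show f₀ x = 0 from hx, map_zero])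
    intro x hx
    obtain ⟨x, s, rfl⟩ := IsLocalization.exists_mk'_eq Q.primeCompl x
    obtain ⟨a, ha, e⟩ : ∃ a ∈ q.primeCompl, a * f₀ x = 0 := by
      simpa [σ, IsLocalization.lift_mk', IsLocalization.map_eq_zero_iff q.primeCompl] using hx
    obtain ⟨a, rfl⟩ := hf₀ a
    rw [IsLocalization.mk'_mem_map_algebraMap_iff]
    exact ⟨a, ha, by simpa⟩
  -- the `B`-algebra structure on `P`
  have hunitB : ∀ b : p.primeCompl, IsUnit (algebraMap B₀ P b) := by
    intro b
    rw [IsScalarTower.algebraMap_apply B₀ (MvPolynomial (Fin n) B₀) P]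
    refine IsLocalization.map_units P (⟨algebraMap B₀ _ b, ?_⟩ : Q.primeCompl)
    show algebraMap B₀ (MvPolynomial (Fin n) B₀) b ∉ Q
    intro hb
    have : f₀ (algebraMap B₀ (MvPolynomial (Fin n) B₀) b) ∈ q := hb
    rw [f₀.commutes] at this
    exact b.2 ((Ideal.mem_of_liesOver q p b.1).mpr this)
  let ι : B →+* P := IsLocalization.lift (M := p.primeCompl) (g := algebraMap B₀ P) hunitB
  letI : Algebra B P := ι.toAlgebra
  haveI : IsScalarTower B₀ B P := IsScalarTower.of_algebraMap_eq' (IsLocalization.lift_comp _).symm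
  refine ⟨P, inferInstance, inferInstance, inferInstance, σ, ?_, hσsurj, hσker, ?_, ?_, ?_⟩
  · apply IsLocalization.ringHom_ext p.primeCompl
    rw [RingHom.comp_assoc, ← IsScalarTower.algebraMap_eq B₀ B P, hβ]
    ext b
    rw [RingHom.comp_apply, IsScalarTower.algebraMap_apply B₀ (MvPolynomial (Fin n) B₀) P, hσ_alg,
      f₀.commutes]
    rfl
  · haveI : Algebra.FormallyEtale (MvPolynomial (Fin n) B₀) P := .of_isLocalization Q.primeCompl
    haveI : Algebra.FormallySmooth B₀ P := .comp _ (MvPolynomial (Fin n) B₀) _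
    haveI : Algebra.FormallyUnramified B₀ B := .of_isLocalization p.primeCompl
    exact Algebra.FormallySmooth.of_restrictScalars B₀ B P
  · haveI : Algebra.FormallyEtale (MvPolynomial (Fin n) B₀) P := .of_isLocalization Q.primeCompl
    haveI : Algebra.FormallyUnramified B₀ B := .of_isLocalization p.primeCompl
    haveI : Module.Free P Ω[P⁄B₀] :=
      .of_equiv (KaehlerDifferential.tensorKaehlerEquivOfFormallyEtale B₀ (MvPolynomial (Fin n) B₀) P)
    exact .of_equiv (LinearEquiv.ofBijective _ (kaehler_map_bijective_of_formallyUnramified B₀ B P))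
  · haveI : Algebra.FormallyEtale (MvPolynomial (Fin n) B₀) P := .of_isLocalization Q.primeCompl
    haveI : Algebra.FormallyUnramified B₀ B := .of_isLocalization p.primeCompl
    haveI : Module.Finite P Ω[P⁄B₀] :=
      .equiv (KaehlerDifferential.tensorKaehlerEquivOfFormallyEtale B₀ (MvPolynomial (Fin n) B₀) P)
    exact .equiv (LinearEquiv.ofBijective _ (kaehler_map_bijective_of_formallyUnramified B₀ B P))

/-- **Fibre criterion for formal smoothness of a local homomorphism** (EGA IV 17.8.2, ring form):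
`A → B → C` with `C` flat over `A`; if `B/m_A B → C/m_A C` is formally smooth and `C` is
essentially of finite presentation over `B` (given by a presentation `P → C`), then `B → C` is
formally smooth. -/
theorem ring_main {A B C B' C' P : Type u} [CommRing A] [CommRing B] [CommRing C] [CommRing B']
    [CommRing C'] [CommRing P] [IsLocalRing A] [IsLocalRing C] [IsLocalRing P]
    (α : A →+* B) (β : B →+* C) (πB : B →+* B') (πC : C →+* C') (β' : B' →+* C')
    (hsq : β'.comp πB = πC.comp β)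
    (hπB : Function.Surjective πB) (hkerB : RingHom.ker πB = (maximalIdeal A).map α)
    (hπC : Function.Surjective πC) (hkerC : RingHom.ker πC = (maximalIdeal A).map (β.comp α))
    (hflat : (β.comp α).Flat) [IsLocalHom (β.comp α)]
    [Algebra B P] (σ : P →+* C) (hσβ : σ.comp (algebraMap B P) = β)
    (hσ : Function.Surjective σ) (hfg : (RingHom.ker σ).FG)
    [Algebra.FormallySmooth B P] [Module.Free P Ω[P⁄B]] [Module.Finite P Ω[P⁄B]]
    (hsm : β'.FormallySmooth) : β.FormallySmooth := by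
  letI : Algebra A B := α.toAlgebra
  letI : Algebra B C := β.toAlgebra
  letI : Algebra A C := (β.comp α).toAlgebra
  letI : Algebra P C := σ.toAlgebra
  letI : Algebra A P := ((algebraMap B P).comp α).toAlgebra
  haveI : IsScalarTower A B C := IsScalarTower.of_algebraMap_eq' rfl
  haveI : IsScalarTower A B P := IsScalarTower.of_algebraMap_eq' rfl
  haveI : IsScalarTower B P C := IsScalarTower.of_algebraMap_eq' hσβ.symm
  haveI : IsScalarTower A P C := IsScalarTower.of_algebraMap_eq' (by
    show β.comp α = σ.comp ((algebraMap B P).comp α)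
    rw [← RingHom.comp_assoc, hσβ])
  haveI : Module.Flat A C := hflat
  have hσ' : Function.Surjective (algebraMap P C) := hσ
  have hfg' : (RingHom.ker (algebraMap P C)).FG := hfg
  haveI : IsLocalHom (algebraMap P C) := IsLocalHom.of_surjective _ hσ'
  haveI : IsLocalHom (algebraMap A C) := ‹IsLocalHom (β.comp α)›
  obtain ⟨𝔟, h𝔟⟩ : ∃ 𝔟 : Ideal B, 𝔟 = RingHom.ker πB := ⟨_, rfl⟩
  have h𝔟A : 𝔟 = (maximalIdeal A).map (algebraMap A B) := h𝔟.trans hkerB
  have h𝔟P : 𝔟.map (algebraMap B P) = (maximalIdeal A).map (algebraMap A P) := by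
    rw [h𝔟A, Ideal.map_map, ← IsScalarTower.algebraMap_eq]
  have h𝔟C : 𝔟.map (algebraMap B C) = RingHom.ker πC := by
    rw [h𝔟A, Ideal.map_map, hkerC]
    rfl
  have hAP : (maximalIdeal A).map (algebraMap A P) ≤ maximalIdeal P := by
    rw [Ideal.map_le_iff_le_comap]
    intro a ha
    rw [Ideal.mem_comap, ← maximalIdeal_comap (algebraMap P C), Ideal.mem_comap,
      ← IsScalarTower.algebraMap_apply]
    have : a ∈ (maximalIdeal C).comap (algebraMap A C) := by
      rw [maximalIdeal_comap]; exact ha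
    exact this
  have hd : RingHom.ker (algebraMap P C) ⊓ 𝔟.map (algebraMap B P) ≤
      maximalIdeal P * RingHom.ker (algebraMap P C) := by
    rw [h𝔟P]
    exact (inf_map_le_of_flat (A := A) hσ' (maximalIdeal A)).trans (Ideal.mul_mono_left hAP)
  -- transport of the hypothesis to the quotients
  let eB : B ⧸ 𝔟 ≃+* B' :=
    (Ideal.quotEquivOfEq h𝔟).trans (RingHom.quotientKerEquivOfSurjective hπB)
  let eC : C ⧸ 𝔟.map (algebraMap B C) ≃+* C' :=
    (Ideal.quotEquivOfEq h𝔟C).trans (RingHom.quotientKerEquivOfSurjective hπC)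
  have heB : ∀ b : B, eB (Ideal.Quotient.mk _ b) = πB b := fun b => rfl
  have heC : ∀ c : C, eC (Ideal.Quotient.mk _ c) = πC c := fun c => rfl
  have hcomp : algebraMap (B ⧸ 𝔟) (C ⧸ 𝔟.map (algebraMap B C)) =
      (eC.symm.toRingHom.comp β').comp eB.toRingHom := by
    ext b
    apply eC.injective
    show eC (Ideal.Quotient.mk _ (algebraMap B C b)) = eC (eC.symm (β' (eB (Ideal.Quotient.mk _ b))))
    rw [RingEquiv.apply_symm_apply, heB, heC]
    exact (congr($hsq b)).symm
  haveI : Algebra.FormallySmooth (B ⧸ 𝔟) (C ⧸ 𝔟.map (algebraMap B C)) := by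
    rw [← RingHom.formallySmooth_algebraMap, hcomp]
    exact RingHom.FormallySmooth.respectsIso.2 _ _
      (RingHom.FormallySmooth.respectsIso.1 _ _ hsm)
  have := formallySmooth_of_quotient (B := B) (P := P) (C := C) hσ' hfg' 𝔟 (h𝔟P ▸ hAP) hd
  exact (RingHom.formallySmooth_algebraMap).mpr this

end Groth.Agent.Lib.Helper35.FiberSmoothRing
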