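import Mathlib.RingTheory.Flat.Equalizer
import Mathlib.RingTheory.Flat.Localization
import Mathlib.Algebra.Module.LocalizedModule.Submodule
import Mathlib.RingTheory.QuotSMulTop
import Mathlib.RingTheory.Spectrum.Prime.Basic
import Groth.Agent.Lib.Helper54.FlatOpenA

set_option autoImplicit false
set_option linter.style.haveILetI false
set_option maxHeartbeats 400000
universe u

namespace Groth.Agent.Lib.Helper35.RegSlice1

open TensorProduct
open scoped Pointwise

/-- Kernel base change: if `P →φ P →π Q → 0` is exact with `Q` flat, then the kernel of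
`φ ⊗ X` is generated by the image of `ker φ ⊗ X`. -/
theorem mem_range_rTensor_ker {T : Type*} [CommRing T] {P Q : Type*} [AddCommGroup P] [Module T P]
    [AddCommGroup Q] [Module T Q]
    (φ : P →ₗ[T] P) (π : P →ₗ[T] Q) (hπ : Function.Surjective π) (hex : Function.Exact φ π)
    [Module.Flat T Q]
    (X : Type*) [AddCommGroup X] [Module T X] (z : P ⊗[T] X) (hz : φ.rTensor X z = 0) :
    z ∈ LinearMap.range ((LinearMap.ker φ).subtype.rTensor X) := by
  have hinj : Function.Injective ((LinearMap.range φ).subtype.rTensor X) := by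
    rw [← LinearMap.lTensor_inj_iff_rTensor_inj]
    refine LinearMap.lTensor_injective_of_exact_of_flat π hπ (LinearMap.range φ).subtype
      (LinearMap.range φ).injective_subtype ?_ X
    intro y
    rw [hex y]
    simp
  have hφ : φ = (LinearMap.range φ).subtype ∘ₗ φ.rangeRestrict := by
    ext y
    rfl
  have h1 : φ.rangeRestrict.rTensor X z = 0 := by
    apply hinj
    rw [map_zero, ← LinearMap.comp_apply, ← LinearMap.rTensor_comp, ← hφ]
    exact hz
  have hex2 : Function.Exact ((LinearMap.ker φ).subtype) φ.rangeRestrict := by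
    intro y
    constructor
    · intro hy
      refine ⟨⟨y, ?_⟩, rfl⟩
      rw [LinearMap.mem_ker]
      have := congrArg Subtype.val hy
      simpa using this
    · rintro ⟨⟨k, hk⟩, rfl⟩
      apply Subtype.ext
      simpa using hk
  have h2 := rTensor_exact X hex2 (LinearMap.surjective_rangeRestrict φ)
  exact (h2 z).1 h1

/-- If `u` kills the annihilator of `g` up to powers... nonzerodivisor in a localization. -/
theorem mem_nonZeroDivisors_of_kills {B B' : Type*} [CommRing B] [CommRing B'] [Algebra B B']
    (w g : B) [IsLocalization.Away w B']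
    (h : ∀ b : B, g * b = 0 → ∃ n : ℕ, w ^ n * b = 0) :
    algebraMap B B' g ∈ nonZeroDivisors B' := by
  rw [mem_nonZeroDivisors_iff_right]
  intro y hy
  obtain ⟨⟨b, s⟩, hbs⟩ := IsLocalization.surj (Submonoid.powers w) y
  simp only at hbs
  have hunit : IsUnit (algebraMap B B' s.1) := IsLocalization.map_units B' s
  have h1 : algebraMap B B' (g * b) = 0 := by
    rw [map_mul, ← hbs, ← mul_assoc, mul_comm (algebraMap B B' g), hy, zero_mul]
  rw [IsLocalization.map_eq_zero_iff (Submonoid.powers w)] at h1
  obtain ⟨⟨_, m, rfl⟩, hm⟩ := h1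
  simp only at hm
  have h2 : g * (w ^ m * b) = 0 := by
    rw [← hm]; ring
  obtain ⟨n, hn⟩ := h _ h2
  have h3 : algebraMap B B' b = 0 := by
    rw [IsLocalization.map_eq_zero_iff (Submonoid.powers w)]
    exact ⟨⟨w ^ (n + m), n + m, rfl⟩, by simp only; rw [pow_add, mul_assoc]; exact hn⟩
  have h4 : y * algebraMap B B' s.1 = 0 := by rw [hbs, h3]
  exact (hunit.mul_left_eq_zero).1 h4


theorem smul_top_eq_span {B : Type*} [CommRing B] (g : B) :
    (g • (⊤ : Submodule B B)) = Submodule.span B {g} := by
  ext x
  rw [Submodule.mem_smul_pointwise_iff_exists, Submodule.mem_span_singleton]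
  constructor
  · rintro ⟨y, -, rfl⟩
    exact ⟨y, by rw [smul_eq_mul, smul_eq_mul, mul_comm]⟩
  · rintro ⟨y, rfl⟩
    exact ⟨y, trivial, by rw [smul_eq_mul, smul_eq_mul, mul_comm]⟩

/-- The quotient by a principal ideal commutes with localization. -/
theorem exists_isLocalizedModule_quot {B B' : Type*} [CommRing B] [CommRing B'] [Algebra B B']
    (W : Submonoid B) [IsLocalization W B'] (g : B) :
    ∃ ℓ : QuotSMulTop g B →ₗ[B] (B' ⧸ Ideal.span {algebraMap B B' g}), IsLocalizedModule W ℓ := by
  let f : B →ₗ[B] B' := Algebra.linearMap B B'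
  haveI : IsLocalizedModule W f := inferInstance
  let M' : Submodule B B := g • ⊤
  have heq : M'.localized' B' W f = Ideal.span {algebraMap B B' g} := by
    show (g • (⊤ : Submodule B B)).localized' B' W f = _
    rw [smul_top_eq_span, Submodule.localized'_span]
    simp [f, Ideal.span]
  let e : (B' ⧸ M'.localized' B' W f) ≃ₗ[B] (B' ⧸ Ideal.span {algebraMap B B' g}) :=
    (Submodule.quotEquivOfEq _ _ heq).restrictScalars B
  exact ⟨e.toLinearMap ∘ₗ M'.toLocalizedQuotient' B' W f, IsLocalizedModule.of_linearEquiv W _ e⟩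

/-- Flatness of the quotient of a localization `B_w/(g)` from pointwise flatness on `D(w)`. -/
theorem flat_quot_of_forall {A B : Type u} [CommRing A] [CommRing B] [Algebra A B] (g w : B)
    (hΩ : ∀ P : PrimeSpectrum B, w ∉ P.asIdeal →
      Module.Flat A (LocalizedModule P.asIdeal.primeCompl (QuotSMulTop g B)))
    (B' : Type u) [CommRing B'] [Algebra B B'] [Algebra A B'] [IsScalarTower A B B']
    [IsLocalization.Away w B'] :
    Module.Flat A (B' ⧸ Ideal.span {algebraMap B B' g}) := by
  obtain ⟨ℓ, hℓ⟩ := exists_isLocalizedModule_quot (B' := B') (Submonoid.powers w) g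
  refine Groth.Agent.Lib.Helper54.FlatOpenA.flat_localized_of_forall_ker B (Submonoid.powers w) ℓ ?_
  intro J z hz
  have hrad : w ∈ ((Submodule.span B {z}).annihilator).radical := by
    rw [Ideal.radical_eq_sInf, Ideal.mem_sInf]
    rintro P ⟨hle, hP⟩
    by_contra hw
    haveI := hΩ ⟨P, hP⟩ hw
    obtain ⟨v, hvP, hvz⟩ := Groth.Agent.Lib.Helper54.FlatOpenA.forall_ker_of_flat_localized
      (N := QuotSMulTop g B) (N' := LocalizedModule P.primeCompl (QuotSMulTop g B)) B P.primeCompl
      (LocalizedModule.mkLinearMap P.primeCompl (QuotSMulTop g B)) J z hz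
    exact hvP (hle ((Submodule.mem_annihilator_span_singleton _ _).2 hvz))
  obtain ⟨n, hn⟩ := hrad
  exact ⟨w ^ n, ⟨n, rfl⟩, (Submodule.mem_annihilator_span_singleton _ _).1 hn⟩

end Groth.Agent.Lib.Helper35.RegSlice1
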