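import Groth.Agent.Lib.Helper54.RegFibre5
import Groth.Agent.Lib.Helper54.FlatStage7
import Groth.Agent.Lib.Helper35.RegSlice1

set_option autoImplicit false
set_option linter.style.haveILetI false
set_option maxHeartbeats 800000
universe u

namespace Groth.Agent.Lib.Helper35.RegSlice2

open TensorProduct
open scoped Pointwise
open Groth.Agent.Lib.Helper54

attribute [local instance] Algebra.TensorProduct.rightAlgebra

section Iso

variable {R₀ : Type*} [CommRing R₀] (S₀ : Type*) [CommRing S₀] [Algebra R₀ S₀]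
variable {A : Type*} [CommRing A] [Algebra R₀ A] (T : Subalgebra R₀ A)

/-- The ring map `S₀ ⊗ T → S₀ ⊗ A`. -/
noncomputable abbrev iota : S₀ ⊗[R₀] T →ₐ[S₀] S₀ ⊗[R₀] A :=
  Algebra.TensorProduct.map (AlgHom.id S₀ S₀) T.val

/-- The comparison `(S₀ ⊗ T) ⊗_T A → S₀ ⊗ A`. -/
noncomputable def fwd : (S₀ ⊗[R₀] T) ⊗[T] A →+ S₀ ⊗[R₀] A :=
  TensorProduct.liftAddHom
    { toFun := fun p =>
        { toFun := fun a => iota S₀ T p * (1 ⊗ₜ[R₀] a)
          map_zero' := by simp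
          map_add' := fun a b => by rw [TensorProduct.tmul_add, mul_add] }
      map_zero' := by ext a; simp
      map_add' := fun p p' => by ext a; simp [add_mul] }
    (by
      intro t p a
      show iota S₀ T (t • p) * (1 ⊗ₜ[R₀] a) = iota S₀ T p * (1 ⊗ₜ[R₀] (t • a))
      rw [Algebra.smul_def, map_mul]
      have h1 : iota S₀ T (algebraMap T (S₀ ⊗[R₀] T) t) = 1 ⊗ₜ[R₀] (t : A) := by
        rw [Algebra.TensorProduct.right_algebraMap_apply]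
        simp [iota]
      have h2 : (1 : S₀) ⊗ₜ[R₀] (t • a) = (1 ⊗ₜ[R₀] (t : A)) * (1 ⊗ₜ[R₀] a) := by
        rw [Algebra.TensorProduct.tmul_mul_tmul, one_mul]
        rfl
      rw [h1, h2]
      ring)

theorem fwd_tmul (p : S₀ ⊗[R₀] T) (a : A) :
    fwd S₀ T (p ⊗ₜ[T] a) = iota S₀ T p * (1 ⊗ₜ[R₀] a) := rfl

/-- The inverse comparison. -/
noncomputable def bwd : S₀ ⊗[R₀] A →+ (S₀ ⊗[R₀] T) ⊗[T] A :=
  TensorProduct.liftAddHom
    { toFun := fun s =>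
        { toFun := fun a => (s ⊗ₜ[R₀] (1 : T)) ⊗ₜ[T] a
          map_zero' := by simp
          map_add' := fun a b => by rw [TensorProduct.tmul_add] }
      map_zero' := by ext a; simp
      map_add' := fun s s' => by ext a; simp [TensorProduct.add_tmul] }
    (by
      intro r s a
      show ((r • s) ⊗ₜ[R₀] (1 : T)) ⊗ₜ[T] a = (s ⊗ₜ[R₀] (1 : T)) ⊗ₜ[T] (r • a)
      have h1 : (r • s) ⊗ₜ[R₀] (1 : T) = (algebraMap R₀ T r) • (s ⊗ₜ[R₀] (1 : T)) := by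
        rw [Algebra.smul_def (algebraMap R₀ T r) (s ⊗ₜ[R₀] (1 : T)),
          Algebra.TensorProduct.right_algebraMap_apply,
          Algebra.TensorProduct.tmul_mul_tmul, one_mul, mul_one, TensorProduct.smul_tmul,
          Algebra.smul_def r (1 : T), mul_one]
      rw [h1]
      refine (TensorProduct.smul_tmul (R := T) (algebraMap R₀ T r) (s ⊗ₜ[R₀] (1 : T)) a).trans ?_
      rw [algebraMap_smul])

theorem bwd_tmul (s : S₀) (a : A) :
    bwd S₀ T (s ⊗ₜ[R₀] a) = (s ⊗ₜ[R₀] (1 : T)) ⊗ₜ[T] a := rfl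

theorem fwd_bwd (x : S₀ ⊗[R₀] A) : fwd S₀ T (bwd S₀ T x) = x := by
  induction x with
  | zero => simp
  | add x y hx hy => rw [map_add, map_add, hx, hy]
  | tmul s a =>
    rw [bwd_tmul, fwd_tmul]
    simp [iota]

theorem bwd_fwd (z : (S₀ ⊗[R₀] T) ⊗[T] A) : bwd S₀ T (fwd S₀ T z) = z := by
  induction z with
  | zero => simp
  | add x y hx hy => rw [map_add, map_add, hx, hy]
  | tmul p a =>
    induction p with
    | zero => simp
    | add x y hx hy => rw [TensorProduct.add_tmul, map_add, map_add, hx, hy]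
    | tmul s t =>
      rw [fwd_tmul]
      have h1 : iota S₀ T (s ⊗ₜ[R₀] t) * (1 ⊗ₜ[R₀] a) = s ⊗ₜ[R₀] ((t : A) * a) := by
        simp [iota]
      rw [h1, bwd_tmul]
      have h2 : (t : A) * a = t • a := rfl
      rw [h2, ← TensorProduct.smul_tmul]
      congr 1
      rw [Algebra.smul_def, Algebra.TensorProduct.right_algebraMap_apply,
        Algebra.TensorProduct.tmul_mul_tmul, one_mul, mul_one]

end Iso

section Main

theorem smul_top_eq_span' {B : Type*} [CommRing B] (g : B) :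
    (g • (⊤ : Submodule B B)) = Ideal.span {g} := by
  ext x
  rw [Submodule.mem_smul_pointwise_iff_exists, Ideal.mem_span_singleton']
  constructor
  · rintro ⟨y, -, rfl⟩
    exact ⟨y, by rw [smul_eq_mul, mul_comm]⟩
  · rintro ⟨y, rfl⟩
    exact ⟨y, trivial, by rw [smul_eq_mul, mul_comm]⟩

/-- The Noetherian stage computation. -/
theorem stage {R₀ : Type u} [CommRing R₀] (S₀ : Type u) [CommRing S₀] [Algebra R₀ S₀]
    {A B : Type u} [CommRing A] [Algebra R₀ A] [CommRing B]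
    (T : Subalgebra R₀ A) [IsNoetherianRing (S₀ ⊗[R₀] T)] (θ : S₀ ⊗[R₀] A ≃+* B)
    (g₀ : S₀) (g : B) (hg' : θ (algebraMap S₀ (S₀ ⊗[R₀] A) g₀) = g)
    [Module.Flat T (QuotSMulTop (algebraMap S₀ (S₀ ⊗[R₀] T) g₀) (S₀ ⊗[R₀] T))] :
    ∃ s : Finset B, (∀ k ∈ s, g * k = 0) ∧ ∀ b : B, g * b = 0 → b ∈ Ideal.span (s : Set B) := by
  classical
  let φ : (S₀ ⊗[R₀] T) →ₗ[T] (S₀ ⊗[R₀] T) :=
    (LinearMap.lsmul (S₀ ⊗[R₀] T) (S₀ ⊗[R₀] T) (algebraMap S₀ (S₀ ⊗[R₀] T) g₀)).restrictScalars T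
  let π : (S₀ ⊗[R₀] T) →ₗ[T] QuotSMulTop (algebraMap S₀ (S₀ ⊗[R₀] T) g₀) (S₀ ⊗[R₀] T) :=
    (Submodule.mkQ ((algebraMap S₀ (S₀ ⊗[R₀] T) g₀) • (⊤ : Submodule (S₀ ⊗[R₀] T) (S₀ ⊗[R₀] T)))).restrictScalars T
  have hπ : Function.Surjective π := by
    intro x
    obtain ⟨m, rfl⟩ := Submodule.mkQ_surjective
      ((algebraMap S₀ (S₀ ⊗[R₀] T) g₀) • (⊤ : Submodule (S₀ ⊗[R₀] T) (S₀ ⊗[R₀] T))) x
    exact ⟨m, rfl⟩
  have hex : Function.Exact φ π :=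
    RegFibre3.exact_smul_mkQ (S₀ ⊗[R₀] T) (algebraMap S₀ (S₀ ⊗[R₀] T) g₀)
  have hφ : ∀ p : S₀ ⊗[R₀] T, φ p = algebraMap S₀ (S₀ ⊗[R₀] T) g₀ * p := fun p => rfl
  let ρ : (S₀ ⊗[R₀] T) →+* B := θ.toRingHom.comp (iota S₀ T).toRingHom
  have hρ : ∀ p, ρ p = θ (iota S₀ T p) := fun p => rfl
  have hρg : ρ (algebraMap S₀ (S₀ ⊗[R₀] T) g₀) = g := by
    rw [hρ, AlgHom.commutes, hg']
  have hF1 : ∀ z : (S₀ ⊗[R₀] T) ⊗[T] A,
      fwd S₀ T (φ.rTensor A z) = algebraMap S₀ (S₀ ⊗[R₀] A) g₀ * fwd S₀ T z := by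
    intro z
    induction z with
    | zero => simp
    | add x y hx hy => rw [map_add, map_add, map_add, hx, hy, mul_add]
    | tmul p a =>
      rw [LinearMap.rTensor_tmul, fwd_tmul, fwd_tmul, hφ, map_mul, AlgHom.commutes, mul_assoc]
  let annP : Ideal (S₀ ⊗[R₀] T) :=
    LinearMap.ker (LinearMap.lsmul (S₀ ⊗[R₀] T) (S₀ ⊗[R₀] T) (algebraMap S₀ (S₀ ⊗[R₀] T) g₀))
  have hannP : ∀ p, p ∈ annP ↔ algebraMap S₀ (S₀ ⊗[R₀] T) g₀ * p = 0 := fun p => Iff.rfl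
  have hF2 : ∀ y : (LinearMap.ker φ) ⊗[T] A,
      θ (fwd S₀ T ((LinearMap.ker φ).subtype.rTensor A y)) ∈ Ideal.map ρ annP := by
    intro y
    induction y with
    | zero => simp
    | add x y hx hy =>
      rw [map_add, map_add, map_add]
      exact Ideal.add_mem _ hx hy
    | tmul k a =>
      rw [LinearMap.rTensor_tmul, fwd_tmul, map_mul]
      refine Ideal.mul_mem_right _ _ (Ideal.mem_map_of_mem ρ ?_)
      rw [hannP]
      exact k.2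
  obtain ⟨s₀, hs₀⟩ : annP.FG := IsNoetherian.noetherian annP
  refine ⟨s₀.image ρ, ?_, ?_⟩
  · intro k hk
    obtain ⟨k₀, hk₀, rfl⟩ := Finset.mem_image.1 hk
    have h1 : k₀ ∈ annP := hs₀ ▸ Submodule.subset_span hk₀
    rw [hannP] at h1
    rw [← hρg, ← map_mul, h1, map_zero]
  · intro b hb
    have hfz : fwd S₀ T (bwd S₀ T (θ.symm b)) = θ.symm b := fwd_bwd S₀ T _
    have hz : φ.rTensor A (bwd S₀ T (θ.symm b)) = 0 := by
      have h1 : fwd S₀ T (φ.rTensor A (bwd S₀ T (θ.symm b))) = 0 := by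
        rw [hF1, hfz]
        apply θ.injective
        rw [map_mul, hg', RingEquiv.apply_symm_apply, hb, map_zero]
      have h2 := congrArg (bwd S₀ T) h1
      rw [bwd_fwd, map_zero] at h2
      exact h2
    obtain ⟨y, hy⟩ := Groth.Agent.Lib.Helper35.RegSlice1.mem_range_rTensor_ker φ π hπ hex A _ hz
    have h3 := hF2 y
    rw [hy, hfz, RingEquiv.apply_symm_apply] at h3
    have h4 : Ideal.map ρ annP = Ideal.span ((s₀.image ρ : Finset B) : Set B) := by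
      rw [← hs₀, Finset.coe_image]
      exact Ideal.map_span ρ _
    rw [← h4]
    exact h3


/-- If `B` is a finitely presented `A`-algebra and `B/(g)` is flat over `A`, then the annihilator
of `g` is a finitely generated ideal. -/
theorem ann_fg {A B : Type u} [CommRing A] [CommRing B] [Algebra A B]
    [Algebra.FinitePresentation A B] (g : B) (hflat : Module.Flat A (B ⧸ Ideal.span {g})) :
    ∃ s : Finset B, (∀ k ∈ s, g * k = 0) ∧ ∀ b : B, g * b = 0 → b ∈ Ideal.span (s : Set B) := by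
  classical
  obtain ⟨R₀, i1, i2, S₀, i3, i4, M₀, i5, i6, i7, i8, θ, Θ, g₀, hft, hfp, hfin, hθ, hΘ, hg₀⟩ :=
    RegFibre4.exists_descent_elt A B B g
  haveI : IsNoetherianRing R₀ := Algebra.FiniteType.isNoetherianRing ℤ R₀
  haveI : Algebra.FiniteType R₀ S₀ := inferInstance
  haveI hfl1 : Module.Flat A (QuotSMulTop g B) :=
    Module.Flat.of_linearEquiv
      ((Submodule.quotEquivOfEq _ _ (smul_top_eq_span' g)).restrictScalars A)
  -- the semilinear identification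
  let Θ₁ : (S₀ ⊗[R₀] A) ⊗[S₀] S₀ ≃+ B :=
    (AlgebraTensorModule.rid S₀ (S₀ ⊗[R₀] A) (S₀ ⊗[R₀] A)).toAddEquiv.trans θ.toAddEquiv
  have hΘ₁ : ∀ (b' : S₀ ⊗[R₀] A) (x : (S₀ ⊗[R₀] A) ⊗[S₀] S₀), Θ₁ (b' • x) = θ b' • Θ₁ x := by
    intro b' x
    show θ ((AlgebraTensorModule.rid S₀ (S₀ ⊗[R₀] A) (S₀ ⊗[R₀] A)) (b' • x)) =
      θ b' • θ (AlgebraTensorModule.rid S₀ (S₀ ⊗[R₀] A) (S₀ ⊗[R₀] A) x)
    rw [map_smul, smul_eq_mul, smul_eq_mul, map_mul]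
  have hg' : θ (algebraMap S₀ (S₀ ⊗[R₀] A) g₀) = g := by
    rw [Algebra.TensorProduct.algebraMap_apply, Algebra.algebraMap_self, RingHom.id_apply, hg₀]
  obtain ⟨Ψ, hΨ⟩ := RegFibre5.exists_quotSMulTop_equiv θ Θ₁ hΘ₁
    (algebraMap S₀ (S₀ ⊗[R₀] A) g₀) g hg'
  let E := QuotSMulTop.algebraMapTensorEquivTensorQuotSMulTop g₀ S₀ (S₀ ⊗[R₀] A)
  have hflat' : Module.Flat A ((S₀ ⊗[R₀] A) ⊗[S₀] QuotSMulTop g₀ S₀) := by
    refine FlatPkg.flat_of_semilinear R₀ S₀ (QuotSMulTop g₀ S₀) θ hθ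
      (E.symm.toAddEquiv.trans Ψ) ?_
    intro b' x
    show Ψ (E.symm (b' • x)) = θ b' • Ψ (E.symm x)
    rw [map_smul, hΨ]
  obtain ⟨T, hTfg, hT⟩ := FlatStage7.exists_fg_flat R₀ S₀ (QuotSMulTop g₀ S₀) A hflat'
  have hTflat := hT T le_rfl
  haveI : Algebra.FiniteType R₀ T := (Subalgebra.fg_iff_finiteType T).1 hTfg
  haveI : IsNoetherianRing T := Algebra.FiniteType.isNoetherianRing R₀ T
  haveI : Algebra.FiniteType T (S₀ ⊗[R₀] T) := FlatOpenB.finiteType_right R₀ S₀ T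
  haveI : IsNoetherianRing (S₀ ⊗[R₀] T) := Algebra.FiniteType.isNoetherianRing T (S₀ ⊗[R₀] T)
  obtain ⟨gT, hgT⟩ : ∃ gT : S₀ ⊗[R₀] T, gT = algebraMap S₀ (S₀ ⊗[R₀] T) g₀ := ⟨_, rfl⟩
  let ET := QuotSMulTop.algebraMapTensorEquivTensorQuotSMulTop g₀ S₀ (S₀ ⊗[R₀] T)
  let ridT : ((S₀ ⊗[R₀] T) ⊗[S₀] S₀) ≃ₗ[S₀ ⊗[R₀] T] (S₀ ⊗[R₀] T) :=
    AlgebraTensorModule.rid S₀ (S₀ ⊗[R₀] T) (S₀ ⊗[R₀] T)
  let C := QuotSMulTop.congr (M' := (S₀ ⊗[R₀] T) ⊗[S₀] S₀) (M'' := S₀ ⊗[R₀] T)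
    (algebraMap S₀ (S₀ ⊗[R₀] T) g₀) ridT
  haveI hflQ : Module.Flat T (QuotSMulTop (algebraMap S₀ (S₀ ⊗[R₀] T) g₀) (S₀ ⊗[R₀] T)) :=
    Module.Flat.of_linearEquiv ((C.symm ≪≫ₗ ET).restrictScalars T)
  exact stage S₀ T θ g₀ g hg'

end Main

end Groth.Agent.Lib.Helper35.RegSlice2
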