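import Mathlib.RingTheory.IsTensorProduct
import Mathlib.RingTheory.RingHomProperties
import Mathlib.RingTheory.Ideal.Quotient.Operations

set_option autoImplicit false
universe u

namespace Groth.Agent.Lib.Helper35

open TensorProduct

/-- transport of an iso-invariant property of ring maps from an abstract pushout `Rn → Pn = Rn ⊗[R] T`
with `Rn = R ⧸ K` to the concrete map `R ⧸ K → (R ⧸ K) ⊗[R] T`. -/
lemma ringHomProperty_quotient_tensor_of_isPushout
    {P : ∀ {R S : Type u} [CommRing R] [CommRing S], (R →+* S) → Prop}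
    (hP : RingHom.RespectsIso @P)
    {R T Rn Pn : Type u} [CommRing R] [CommRing T] [CommRing Rn]
    [CommRing Pn] [Algebra R T] [Algebra R Rn] [Algebra Rn Pn] [Algebra T Pn] [Algebra R Pn]
    [IsScalarTower R Rn Pn] [IsScalarTower R T Pn] [Algebra.IsPushout R Rn T Pn] (K : Ideal R)
    (hsurj : Function.Surjective (algebraMap R Rn)) (hker : RingHom.ker (algebraMap R Rn) = K)
    (h : P (algebraMap Rn Pn)) : P (algebraMap (R ⧸ K) ((R ⧸ K) ⊗[R] T)) := by
  subst hker
  let e0 : (R ⧸ RingHom.ker (algebraMap R Rn)) ≃ₐ[R] Rn :=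
    Ideal.quotientKerAlgEquivOfSurjective (f := Algebra.ofId R Rn) hsurj
  let E : (R ⧸ RingHom.ker (algebraMap R Rn)) ⊗[R] T ≃ₐ[R] Pn :=
    (Algebra.TensorProduct.congr e0 (AlgEquiv.refl (R := R) (A₁ := T))).trans
      ((Algebra.IsPushout.equiv R Rn T Pn).restrictScalars R)
  have hE : E.toRingEquiv.toRingHom.comp (algebraMap (R ⧸ RingHom.ker (algebraMap R Rn))
      ((R ⧸ RingHom.ker (algebraMap R Rn)) ⊗[R] T)) =
      (algebraMap Rn Pn).comp e0.toRingEquiv.toRingHom := by
    ext r
    simp [E, Algebra.IsPushout.equiv_tmul, Algebra.TensorProduct.algebraMap_apply]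
  have h1 : P ((algebraMap Rn Pn).comp e0.toRingEquiv.toRingHom) := hP.2 _ _ h
  rw [← hE] at h1
  have h2 := hP.1 _ E.symm.toRingEquiv h1
  convert h2 using 1
  ext x
  simp

end Groth.Agent.Lib.Helper35
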