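import Groth.Agent.Lib.Helper35.PullbackChart
import Groth.Agent.Lib.Helper35.QuotientPushout
import Mathlib.AlgebraicGeometry.IdealSheaf.Subscheme
import Mathlib.AlgebraicGeometry.Morphisms.ClosedImmersion
import Mathlib.AlgebraicGeometry.Morphisms.RingHomProperties

/-!
# Base change to a closed subscheme, on affine charts (helper35)

`ringHomProperty_quotient_tensor_of_pullback`: if the base change `X ×ₛ V(K) → V(K)` of
`f : X → S` has a property `Q` of morphisms given by a ring-hom property `P`, then for affine opens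
`U ⊆ S`, `V ⊆ f⁻¹ U` the ring map `Γ(S,U)/K(U) → (Γ(S,U)/K(U)) ⊗_{Γ(S,U)} Γ(X,V)` has `P`.

`ideal_le_primeIdealOf_of_mem_support`: the prime of a point of the support of `K` contains `K(U)`.
-/

set_option autoImplicit false
set_option linter.style.haveILetI false
universe u

namespace Groth.Agent.Lib.Helper35

open AlgebraicGeometry CategoryTheory Limits TensorProduct

lemma ringHomProperty_quotient_tensor_of_pullback
    {P : ∀ {R S : Type u} [CommRing R] [CommRing S], (R →+* S) → Prop}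
    (Q : MorphismProperty Scheme.{u}) [HasRingHomProperty Q P]
    {X S : Scheme.{u}} (f : X ⟶ S) (K : S.IdealSheafData)
    (hQ : Q (pullback.snd f K.subschemeι)) {U : S.Opens} (hU : IsAffineOpen U) {V : X.Opens}
    (hV : IsAffineOpen V) (hVU : V ≤ f ⁻¹ᵁ U) :
    letI := (f.appLE U V hVU).hom.toAlgebra
    P (algebraMap (Γ(S, U) ⧸ K.ideal ⟨U, hU⟩)
      ((Γ(S, U) ⧸ K.ideal ⟨U, hU⟩) ⊗[Γ(S, U)] Γ(X, V))) := by
  letI := (f.appLE U V hVU).hom.toAlgebra
  let ι := K.subschemeι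
  let UT : K.subscheme.Opens := ι ⁻¹ᵁ U
  have hUT : IsAffineOpen UT := hU.preimage ι
  have H : IsPullback (pullback.fst f ι) (pullback.snd f ι) f ι := IsPullback.of_hasPullback f ι
  let UY : (pullback f ι).Opens := pullback.fst f ι ⁻¹ᵁ V ⊓ pullback.snd f ι ⁻¹ᵁ UT
  have hUY : IsAffineOpen UY :=
    isAffineOpen_pullback_chart H le_rfl hVU rfl hU hUT hV
  have hpush := isPushout_appLE_of_isAffineOpen H (UT := UT) le_rfl hVU
    (UY := UY) rfl hU hUT hV
  have hP : P ((pullback.snd f ι).appLE UT UY (by simp [UY])).hom :=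
    HasRingHomProperty.appLE Q (pullback.snd f ι) hQ ⟨UT, hUT⟩ ⟨UY, hUY⟩ _
  have hsurj : Function.Surjective (ι.appLE U UT le_rfl).hom := by
    rw [Scheme.Hom.appLE_eq_app]
    exact K.subschemeι_app_surjective ⟨U, hU⟩
  have hker : RingHom.ker (ι.appLE U UT le_rfl).hom = K.ideal ⟨U, hU⟩ := by
    rw [Scheme.Hom.appLE_eq_app]
    exact K.ker_subschemeι_app ⟨U, hU⟩
  let a : Γ(S, U) →+* Γ(X, V) := (f.appLE U V hVU).hom
  let b : Γ(S, U) →+* Γ(K.subscheme, UT) := (ι.appLE U UT le_rfl).hom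
  let c : Γ(X, V) →+* Γ(pullback f ι, UY) := ((pullback.fst f ι).appLE V UY (by simp [UY])).hom
  let d : Γ(K.subscheme, UT) →+* Γ(pullback f ι, UY) :=
    ((pullback.snd f ι).appLE UT UY (by simp [UY])).hom
  have hw : c.comp a = d.comp b := congrArg CommRingCat.Hom.hom hpush.w
  letI : Algebra Γ(S, U) Γ(K.subscheme, UT) := b.toAlgebra
  letI : Algebra Γ(X, V) Γ(pullback f ι, UY) := c.toAlgebra
  letI : Algebra Γ(K.subscheme, UT) Γ(pullback f ι, UY) := d.toAlgebra
  letI : Algebra Γ(S, U) Γ(pullback f ι, UY) := (d.comp b).toAlgebra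
  haveI : IsScalarTower Γ(S, U) Γ(K.subscheme, UT) Γ(pullback f ι, UY) :=
    IsScalarTower.of_algebraMap_eq' rfl
  haveI : IsScalarTower Γ(S, U) Γ(X, V) Γ(pullback f ι, UY) :=
    IsScalarTower.of_algebraMap_eq' hw.symm
  haveI : Algebra.IsPushout Γ(S, U) Γ(K.subscheme, UT) Γ(X, V) Γ(pullback f ι, UY) :=
    CommRingCat.isPushout_iff_isPushout.mp hpush.flip
  exact ringHomProperty_quotient_tensor_of_isPushout
    (HasRingHomProperty.isLocal_ringHomProperty Q).respectsIso (R := Γ(S, U)) (T := Γ(X, V))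
    (Rn := Γ(K.subscheme, UT)) (Pn := Γ(pullback f ι, UY)) (K.ideal ⟨U, hU⟩) hsurj hker hP

/-- the prime ideal of a point in the support of `K` contains `K(U)`. -/
lemma ideal_le_primeIdealOf_of_mem_support {S : Scheme.{u}} (K : S.IdealSheafData) {U : S.Opens}
    (hU : IsAffineOpen U) (s : S) (hsU : s ∈ U) (hs : s ∈ K.support) :
    K.ideal ⟨U, hU⟩ ≤ (hU.primeIdealOf ⟨s, hsU⟩).asIdeal := by
  have h1 : s ∈ S.zeroLocus (U := U) (K.ideal ⟨U, hU⟩) :=
    (Scheme.IdealSheafData.mem_support_iff_of_mem (U := ⟨U, hU⟩) hsU).mp hs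
  have h2 : hU.primeIdealOf ⟨s, hsU⟩ ∈ hU.fromSpec ⁻¹' S.zeroLocus (U := U) (K.ideal ⟨U, hU⟩) := by
    change hU.fromSpec (hU.primeIdealOf ⟨s, hsU⟩) ∈ S.zeroLocus (U := U) (K.ideal ⟨U, hU⟩)
    rw [hU.fromSpec_primeIdealOf]
    exact h1
  rw [hU.fromSpec_preimage_zeroLocus] at h2
  exact h2

end Groth.Agent.Lib.Helper35
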