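import Mathlib.RingTheory.Smooth.Fiber
import Mathlib.RingTheory.Flat.Localization
import Mathlib.RingTheory.Smooth.Locus

set_option autoImplicit false
set_option linter.style.haveILetI false
universe u

namespace Groth.Agent.Lib.Helper35

open TensorProduct IsLocalRing Algebra

/-- pointwise-flat version of `Algebra.IsSmoothAt.of_formallySmooth_fiber`. -/
lemma isSmoothAt_of_flat_of_formallySmooth_fiber {R S : Type u} [CommRing R] [CommRing S]
    [Algebra R S] [Algebra.FinitePresentation R S] (p : Ideal R) (q : Ideal S)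
    [p.IsPrime] [q.IsPrime] [q.LiesOver p] [Module.Flat R (Localization.AtPrime q)]
    [FormallySmooth p.ResidueField (p.Fiber S)] :
    Algebra.IsSmoothAt R q := by
  let Rp := Localization.AtPrime p
  let Sp := Localization (algebraMapSubmonoid S p.primeCompl)
  let Sq := Localization.AtPrime q
  let := Localization.AtPrime.algebraOfLiesOver p q
  let f : Sp →ₐ[S] Sq := IsLocalization.liftAlgHom (M := algebraMapSubmonoid S p.primeCompl)
        (f := Algebra.ofId _ _) (by
      rintro ⟨_, x, hx, rfl⟩
      simpa using! IsLocalization.map_units (M := q.primeCompl) Sq ⟨algebraMap _ _ x,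
        by simp_all [q.over_def p]⟩)
  algebraize [f.toRingHom]
  have : IsScalarTower R Sp Sq := .to₁₃₄ _ S _ _
  have : IsScalarTower Rp Sp Sq := .of_algebraMap_eq' <| by
    apply IsLocalization.ringHom_ext p.primeCompl
    simp only [RingHom.comp_assoc, ← IsScalarTower.algebraMap_eq]
  have : IsLocalization (algebraMapSubmonoid Sp q.primeCompl) Sq :=
    .isLocalization_of_submonoid_le _ _ (algebraMapSubmonoid S p.primeCompl) _
    (by rintro _ ⟨x, hx, rfl⟩; simp_all [q.over_def p])
  have : FinitePresentation Rp Sp := by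
    have : Algebra.IsPushout R Rp S Sp :=
      .symm <| Algebra.isPushout_of_isLocalization p.primeCompl _ _ _
    exact .equiv (Algebra.IsPushout.equiv R Rp S Sp)
  have hflat : Module.Flat Rp Sq :=
    (Module.flat_iff_of_isLocalization Rp p.primeCompl Sq).mpr inferInstance
  have : FormallySmooth (ResidueField Rp) (ResidueField Rp ⊗[Rp] Sq) := by
    let : Algebra S (ResidueField Rp ⊗[R] S) := TensorProduct.rightAlgebra
    have : FormallySmooth (ResidueField Rp) (ResidueField Rp ⊗[R] S) :=
      ‹FormallySmooth p.ResidueField (p.Fiber S)›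
    have : FormallySmooth (ResidueField Rp) ((ResidueField Rp ⊗[R] S) ⊗[S] Sq) :=
      .comp _ (ResidueField Rp ⊗[R] S) _
    let e : ResidueField Rp ⊗[R] S ≃ₐ[S] S ⊗[R] ResidueField Rp :=
      { __ := Algebra.TensorProduct.comm _ _ _, commutes' _ := rfl }
    let e' : (ResidueField Rp ⊗[R] S) ⊗[S] Sq ≃ₐ[R] ResidueField Rp ⊗[Rp] Sq :=
      ((Algebra.TensorProduct.comm _ _ _).restrictScalars R).trans <|
      ((Algebra.TensorProduct.congr (.refl (R := S)) e).restrictScalars R).trans <|
      ((Algebra.TensorProduct.cancelBaseChange _ _ S _ _).restrictScalars R).trans <|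
      (Algebra.TensorProduct.comm _ _ _).trans (Algebra.TensorProduct.equivOfCompatibleSMul ..)
    have : e'.toAlgHom.comp (IsScalarTower.toAlgHom R p.ResidueField _) =
        IsScalarTower.toAlgHom _ _ _ := by ext
    let e'' : (ResidueField Rp ⊗[R] S) ⊗[S] Sq ≃ₐ[ResidueField Rp] ResidueField Rp ⊗[Rp] Sq :=
      { __ := e', commutes' r := congr($this r) }
    exact .of_equiv e''
  have := FormallySmooth.of_formallySmooth_residueField_tensor
    (R := Rp) (S := Sq) (P := Sp) (algebraMapSubmonoid _ q.primeCompl)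
  exact .comp R Rp Sq

/-- `R → S` finitely presented, `J ⊆ R` an ideal, `q ⊇ J S` a prime with `S_q` flat over `R`.
If `S/JS` is formally smooth over `R/J` then `S` is smooth over `R` at `q`. -/
lemma isSmoothAt_of_flat_of_formallySmooth_quotient {R S : Type u} [CommRing R] [CommRing S]
    [Algebra R S] [Algebra.FinitePresentation R S] (J : Ideal R) (q : Ideal S) [q.IsPrime]
    (hJq : J.map (algebraMap R S) ≤ q) [Module.Flat R (Localization.AtPrime q)]
    [FormallySmooth (R ⧸ J) ((R ⧸ J) ⊗[R] S)] : Algebra.IsSmoothAt R q := by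
  let p : Ideal R := q.under R
  haveI : q.LiesOver p := ⟨rfl⟩
  have hJp : J ≤ p := Ideal.map_le_iff_le_comap.mp hJq
  let φ : R ⧸ J →+* p.ResidueField := Ideal.Quotient.lift J (algebraMap R p.ResidueField)
    (fun a ha => Ideal.algebraMap_residueField_eq_zero.mpr (hJp ha))
  letI : Algebra (R ⧸ J) p.ResidueField := φ.toAlgebra
  haveI : IsScalarTower R (R ⧸ J) p.ResidueField := IsScalarTower.of_algebraMap_eq' rfl
  have h1 : FormallySmooth p.ResidueField (p.ResidueField ⊗[R ⧸ J] ((R ⧸ J) ⊗[R] S)) :=
    inferInstance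
  let e : p.ResidueField ⊗[R ⧸ J] ((R ⧸ J) ⊗[R] S) ≃ₐ[p.ResidueField] p.ResidueField ⊗[R] S :=
    Algebra.TensorProduct.cancelBaseChange R (R ⧸ J) p.ResidueField p.ResidueField S
  have h2 : FormallySmooth p.ResidueField (p.ResidueField ⊗[R] S) :=
    Algebra.FormallySmooth.of_equiv (A := p.ResidueField ⊗[R ⧸ J] ((R ⧸ J) ⊗[R] S)) e
  haveI : FormallySmooth p.ResidueField (p.Fiber S) := h2
  exact isSmoothAt_of_flat_of_formallySmooth_fiber p q

end Groth.Agent.Lib.Helper35
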