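import Mathlib.RingTheory.Unramified.Locus
import Mathlib.RingTheory.Kaehler.TensorProduct
import Mathlib.RingTheory.Finiteness.Nakayama
import Mathlib.LinearAlgebra.TensorProduct.Quotient
import Mathlib.RingTheory.Ideal.Maps

set_option autoImplicit false
universe u

namespace Groth.Agent.Lib.Helper35

open TensorProduct

/-- If `R → Rn` is surjective with kernel `J` and `Rn ⊗[R] M = 0`, then `M = J M`. -/
lemma top_le_smul_top_of_subsingleton_tensor {R Rn M : Type u} [CommRing R] [CommRing Rn]
    [Algebra R Rn] [AddCommGroup M] [Module R M] (J : Ideal R)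
    (hsurj : Function.Surjective (algebraMap R Rn)) (hker : RingHom.ker (algebraMap R Rn) = J)
    [Subsingleton (Rn ⊗[R] M)] : (⊤ : Submodule R M) ≤ J • ⊤ := by
  subst hker
  let e0 : (R ⧸ RingHom.ker (algebraMap R Rn)) ≃ₐ[R] Rn :=
    Ideal.quotientKerAlgEquivOfSurjective (f := Algebra.ofId R Rn) hsurj
  let e : Rn ⊗[R] M ≃ₗ[R] M ⧸ (RingHom.ker (algebraMap R Rn) • (⊤ : Submodule R M)) :=
    (TensorProduct.congr e0.symm.toLinearEquiv (LinearEquiv.refl R M)) ≪≫ₗ
      TensorProduct.quotTensorEquivQuotSMul M _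
  have : Subsingleton (M ⧸ (RingHom.ker (algebraMap R Rn) • (⊤ : Submodule R M))) :=
    e.symm.subsingleton
  rw [Submodule.Quotient.subsingleton_iff] at this
  rw [this]

/-- **Infinitesimal criterion for unramifiedness** (in fact only the closed subscheme `V(J)` is
needed): let `R → T` be of finite type, `J` an ideal of `R`, `Pn = Rn ⊗[R] T` with `Rn = R/J`.
If `Pn` is formally unramified over `Rn`, then `T` is unramified over `R` at every prime
containing `J T`. -/
lemma isUnramifiedAt_of_isPushout_quotient {R T Rn Pn : Type u} [CommRing R] [CommRing T]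
    [CommRing Rn] [CommRing Pn] [Algebra R T] [Algebra R Rn] [Algebra Rn Pn] [Algebra T Pn]
    [Algebra R Pn] [IsScalarTower R Rn Pn] [IsScalarTower R T Pn] [Algebra.IsPushout R Rn T Pn]
    [Algebra.FiniteType R T] (J : Ideal R)
    (hsurj : Function.Surjective (algebraMap R Rn)) (hker : RingHom.ker (algebraMap R Rn) = J)
    [Algebra.FormallyUnramified Rn Pn] (q : Ideal T) [q.IsPrime]
    (hJq : J.map (algebraMap R T) ≤ q) : Algebra.IsUnramifiedAt R q := by
  have hsub : Subsingleton (Rn ⊗[R] Ω[T⁄R]) :=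
    (KaehlerDifferential.tensorKaehlerEquivBase R Rn T Pn).subsingleton
  have h1 : (⊤ : Submodule R Ω[T⁄R]) ≤ J • ⊤ :=
    top_le_smul_top_of_subsingleton_tensor J hsurj hker
  have h2 : (⊤ : Submodule T Ω[T⁄R]) ≤ (J.map (algebraMap R T)) • ⊤ := by
    intro m _
    have := h1 (Submodule.mem_top (x := m))
    rw [← Submodule.restrictScalars_top R T, ← Submodule.restrictScalars_map_smul_eq] at this
    exact this
  obtain ⟨r, hr1, hr2⟩ := Submodule.exists_sub_one_mem_and_smul_eq_zero_of_fg_of_le_smul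
    (J.map (algebraMap R T)) (⊤ : Submodule T Ω[T⁄R]) (Module.Finite.fg_top) h2
  have hrq : r ∉ q := by
    intro hr
    have : (1 : T) ∈ q := by
      have h3 : r - 1 ∈ q := hJq hr1
      have : (1 : T) = r - (r - 1) := by ring
      rw [this]
      exact q.sub_mem hr h3
    exact (Ideal.IsPrime.ne_top ‹_›) ((Ideal.eq_top_iff_one _).mpr this)
  change (⟨q, ‹_›⟩ : PrimeSpectrum T) ∈ Algebra.unramifiedLocus R T
  rw [Algebra.unramifiedLocus_eq_compl_support, Set.mem_compl_iff, Module.notMem_support_iff']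
  intro m
  exact ⟨r, hrq, hr2 m Submodule.mem_top⟩

end Groth.Agent.Lib.Helper35
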