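import Groth.Agent.Lib.Helper35.TorsionFreeEmbed
import Mathlib.Algebra.Module.LocalizedModule.Int

/-! A finite module over a domain is "isogenous" to a finite free module (helper35). -/

set_option autoImplicit false
universe u v

namespace Groth.Agent.Lib.Helper35

open TensorProduct

/-- finitely many torsion elements over a domain are killed by a common nonzero element. -/
theorem exists_ne_zero_smul_eq_zero_of_finset {R : Type u} [CommRing R] [IsDomain R]
    {M : Type v} [AddCommGroup M] [Module R M] (G : Finset M)
    (h : ∀ m ∈ G, ∃ r : R, r ≠ 0 ∧ r • m = 0) : ∃ e : R, e ≠ 0 ∧ ∀ m ∈ G, e • m = 0 := by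
  classical
  induction G using Finset.induction_on with
  | empty => exact ⟨1, one_ne_zero, by simp⟩
  | insert a s ha ih =>
    obtain ⟨e, he0, he⟩ := ih (fun m hm => h m (Finset.mem_insert_of_mem hm))
    obtain ⟨r, hr0, hr⟩ := h a (Finset.mem_insert_self a s)
    refine ⟨e * r, mul_ne_zero he0 hr0, ?_⟩
    intro m hm
    rcases Finset.mem_insert.mp hm with rfl | hm
    · rw [mul_smul, hr, smul_zero]
    · rw [mul_comm, mul_smul, he m hm, smul_zero]

/-- Clearing denominators: an `R`-linear map from a finite module to `Kⁿ` becomes, after multiplying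
by a nonzero `d`, a map to `Rⁿ`. -/
theorem exists_clear_denominators (R : Type u) [CommRing R] [IsDomain R]
    (M : Type v) [AddCommGroup M] [Module R M] [Module.Finite R M] (n : ℕ)
    (g : M →ₗ[R] (Fin n → FractionRing R)) :
    ∃ f : M →ₗ[R] (Fin n → R),
      ∃ d : R, d ≠ 0 ∧ ∀ m i, algebraMap R (FractionRing R) (f m i) = d • g m i := by
  classical
  obtain ⟨G, hG⟩ := (Module.finite_def (R := R) (M := M)).mp inferInstance
  let T : Finset (FractionRing R) := G.biUnion (fun m => Finset.univ.image (fun i => g m i))
  obtain ⟨d, hd⟩ := IsLocalization.exist_integer_multiples_of_finset (nonZeroDivisors R) T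
  have hd0 : (d : R) ≠ 0 := nonZeroDivisors.ne_zero d.2
  let j := piIncl R (FractionRing R) n
  have hj : Function.Injective j := piIncl_injective R _ (IsFractionRing.injective R _) n
  let g' : M →ₗ[R] (Fin n → FractionRing R) := (d : R) • g
  have hrange : ∀ m, g' m ∈ LinearMap.range j := by
    intro m
    have hm : m ∈ Submodule.span R (G : Set M) := by rw [hG]; trivial
    induction hm using Submodule.span_induction with
    | mem x hx =>
      have : ∀ i, ∃ r : R, algebraMap R (FractionRing R) r = (d : R) • g x i := by
        intro i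
        have hmem : g x i ∈ T := by
          simp only [T, Finset.mem_biUnion, Finset.mem_image, Finset.mem_univ, true_and]
          exact ⟨x, hx, i, rfl⟩
        exact hd _ hmem
      choose r hr using this
      refine ⟨r, ?_⟩
      funext i
      simp [j, piIncl_apply, hr, g']
    | zero => simp
    | add x y _ _ hx hy => rw [map_add]; exact Submodule.add_mem _ hx hy
    | smul a x _ hx => rw [map_smul]; exact Submodule.smul_mem _ _ hx
  let f : M →ₗ[R] (Fin n → R) :=
    (LinearEquiv.ofInjective j hj).symm.toLinearMap ∘ₗ LinearMap.codRestrict (LinearMap.range j) g' hrange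
  have hf : ∀ m, j (f m) = g' m := by
    intro m
    have := (LinearEquiv.ofInjective j hj).apply_symm_apply ⟨g' m, hrange m⟩
    exact congrArg Subtype.val this
  refine ⟨f, (d : R), hd0, ?_⟩
  intro m i
  have := congrFun (hf m) i
  simpa [j, piIncl_apply, g'] using this

/-- A finite module over a domain is isogenous to a finite free module: there are maps
`f : M → Rⁿ` and `σ : Rⁿ → M` and `c ≠ 0` with `f ∘ σ = c` and `σ ∘ f = c`. -/
theorem exists_isogeny_to_free (R : Type u) [CommRing R] [IsDomain R]
    (M : Type v) [AddCommGroup M] [Module R M] [Module.Finite R M] :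
    ∃ (n : ℕ) (f : M →ₗ[R] (Fin n → R)) (σ : (Fin n → R) →ₗ[R] M) (c : R), c ≠ 0 ∧
      (∀ v, f (σ v) = c • v) ∧ (∀ m, σ (f m) = c • m) := by
  classical
  let K := FractionRing R
  let V := K ⊗[R] M
  let ι : M →ₗ[R] V := TensorProduct.mk R K M 1
  have : Module.Finite K V := inferInstance
  let n := Module.finrank K V
  let b : Module.Basis (Fin n) K V := Module.finBasis K V
  let e : V ≃ₗ[K] (Fin n → K) := b.equivFun
  let g : M →ₗ[R] (Fin n → K) := (e.toLinearMap.restrictScalars R) ∘ₗ ι
  obtain ⟨f, d, hd0, hf⟩ := exists_clear_denominators R M n g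
  -- lift multiples of the basis vectors
  obtain ⟨s, hs⟩ := IsLocalizedModule.exist_integer_multiples_of_finite (nonZeroDivisors R) ι
    (fun i : Fin n => b i)
  have hs0 : (s : R) ≠ 0 := nonZeroDivisors.ne_zero s.2
  choose x hx using hs
  -- hx : ∀ i, ι (x i) = s • b i
  let σ0 : (Fin n → R) →ₗ[R] M := Fintype.linearCombination R x
  have hgx : ∀ i k, g (x i) k = if i = k then algebraMap R K (s : R) else 0 := by
    intro i k
    have h1 : g (x i) = e (ι (x i)) := rfl
    rw [h1, hx i]
    have h2 : ((s : R) • b i : V) = (algebraMap R K (s : R)) • b i := by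
      rw [algebraMap_smul]
    rw [h2, map_smul]
    have h3 : e (b i) k = if i = k then 1 else 0 := by
      simp only [e]
      exact b.equivFun_self i k
    rw [Pi.smul_apply, h3]
    by_cases hik : i = k
    · simp [hik]
    · simp [hik]
  have hfσ0 : ∀ v, f (σ0 v) = (d * s) • v := by
    intro v
    funext k
    apply IsFractionRing.injective R K
    rw [hf]
    have h1 : g (σ0 v) k = ∑ i, v i • g (x i) k := by
      simp [σ0, Fintype.linearCombination_apply, map_sum]
    rw [h1]
    simp only [hgx]
    simp [Algebra.smul_def, Finset.sum_ite_eq']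
    ring
  -- the kernel of `f` is torsion
  have hker : ∀ m, f m = 0 → ∃ r : R, r ≠ 0 ∧ r • m = 0 := by
    intro m hm
    have h1 : g m = 0 := by
      funext k
      have := hf m k
      rw [hm] at this
      simp only [Pi.zero_apply, map_zero] at this
      have h2 : (d : R) • g m k = 0 := this.symm
      have h3 : (algebraMap R K d) * g m k = 0 := by rwa [Algebra.smul_def] at h2
      rcases mul_eq_zero.mp h3 with h4 | h4
      · exact absurd ((map_eq_zero_iff _ (IsFractionRing.injective R K)).mp h4) hd0
      · exact h4
    have h2 : ι m = 0 := by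
      apply e.injective
      rw [map_zero]
      exact h1
    obtain ⟨r, hr⟩ := (IsLocalizedModule.eq_zero_iff (nonZeroDivisors R) ι (m := m)).mp h2
    exact ⟨r, nonZeroDivisors.ne_zero r.2, hr⟩
  -- the error term
  let t : M →ₗ[R] M := (d * s) • LinearMap.id - σ0 ∘ₗ f
  have htker : ∀ m, f (t m) = 0 := by
    intro m
    simp only [t, LinearMap.sub_apply, LinearMap.smul_apply, LinearMap.id_apply, LinearMap.comp_apply,
      map_sub, map_smul, hfσ0]
    simp
  obtain ⟨G, hG⟩ := (Module.finite_def (R := R) (M := M)).mp inferInstance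
  obtain ⟨c1, hc10, hc1⟩ := exists_ne_zero_smul_eq_zero_of_finset (G.image t) (by
    intro m hm
    obtain ⟨m', -, rfl⟩ := Finset.mem_image.mp hm
    exact hker _ (htker m'))
  have hc1t : ∀ m, c1 • t m = 0 := by
    intro m
    have hm : m ∈ Submodule.span R (G : Set M) := by rw [hG]; trivial
    induction hm using Submodule.span_induction with
    | mem y hy => exact hc1 _ (Finset.mem_image_of_mem t hy)
    | zero => simp
    | add y z _ _ hy hz => rw [map_add, smul_add, hy, hz, add_zero]
    | smul a y _ hy => rw [map_smul, smul_comm, hy, smul_zero]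
  refine ⟨n, f, c1 • σ0, c1 * (d * s), mul_ne_zero hc10 (mul_ne_zero hd0 hs0), ?_, ?_⟩
  · intro v
    rw [LinearMap.smul_apply, map_smul, hfσ0, smul_smul]
  · intro m
    have := hc1t m
    simp only [t, LinearMap.sub_apply, LinearMap.smul_apply, LinearMap.id_apply, LinearMap.comp_apply,
      smul_sub] at this
    rw [LinearMap.smul_apply, mul_smul]
    exact (sub_eq_zero.mp this).symm

end Groth.Agent.Lib.Helper35
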