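import Groth.Agent.Lib.Helper35.IterSliceScheme
import Groth.Agent.Lib.Helper35.TransReg
import Groth.Agent.Lib.Helper35.PullbackChart
import Groth.Agent.Lib.Helper91.RegImmBaseChange

set_option autoImplicit false
set_option linter.style.haveILetI false
set_option maxHeartbeats 800000
universe u

namespace Groth.Agent.Lib.Helper35.IterSliceBC

open AlgebraicGeometry CategoryTheory Limits IsLocalRing TensorProduct RingTheory.Sequence
open Groth.Agent.Lib.Helper35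

theorem isRegularClosedImmersion_of_iso_comp {Z' Z Y : Scheme.{u}} (e : Z' ⟶ Z) [IsIso e]
    (j : Z ⟶ Y) (hj : Mor2.IsRegularClosedImmersion j) : Mor2.IsRegularClosedImmersion (e ≫ j) := by
  haveI := hj.1
  refine ⟨inferInstance, fun z => ?_⟩
  obtain ⟨U, hU, hz, rs, hrs, hI⟩ := hj.2 (e z)
  refine ⟨U, hU, by simpa using hz, rs, hrs, ?_⟩
  rw [Scheme.Hom.ker_comp_of_isIso]
  exact hI

theorem isRegularClosedImmersion_pullback_map {Z U' S S' : Scheme.{u}} (i : Z ⟶ U') (b : U' ⟶ S)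
    (g : S' ⟶ S) (a : Z ⟶ S) (ha : a = i ≫ b) (h1 : a ≫ 𝟙 S = i ≫ b) (h2 : g ≫ 𝟙 S = 𝟙 S' ≫ g)
    (H : Mor2.IsRegularClosedImmersion (pullback.snd i (pullback.fst b g))) :
    Mor2.IsRegularClosedImmersion (pullback.map a g b g i (𝟙 S') (𝟙 S) h1 h2) := by
  subst ha
  have : pullback.map (i ≫ b) g b g i (𝟙 S') (𝟙 S) h1 h2 =
      (pullbackRightPullbackFstIso b g i).inv ≫ pullback.snd i (pullback.fst b g) := by
    apply pullback.hom_ext
    · rw [Category.assoc, pullbackRightPullbackFstIso_inv_snd_fst]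
      exact pullback.lift_fst _ _ _
    · rw [Category.assoc, pullbackRightPullbackFstIso_inv_snd_snd]
      exact (pullback.lift_snd _ _ _).trans (Category.comp_id _)
  rw [this]
  exact isRegularClosedImmersion_of_iso_comp _ _ H


section Chart

variable {X S : Scheme.{u}} (f : X ⟶ S) {V : S.Opens} (hV : IsAffineOpen V) {U : X.Opens}
  (hU : IsAffineOpen U) (hUV : U ≤ f ⁻¹ᵁ V) (gs : List Γ(X, U))

theorem ker_ideal_top_chart :
    haveI : IsAffine (U : Scheme.{u}) := hU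
    (Spec.map (CommRingCat.ofHom (Ideal.Quotient.mk (Ideal.ofList gs))) ≫
      hU.isoSpec.inv).ker.ideal ⟨⊤, isAffineOpen_top _⟩ =
      Ideal.ofList (gs.map U.topIso.inv.hom) := by
  haveI : IsAffine (U : Scheme.{u}) := hU
  obtain ⟨i, hi⟩ : ∃ i : Spec (CommRingCat.of (Γ(X, U) ⧸ Ideal.ofList gs)) ⟶ (U : Scheme.{u}),
    i = Spec.map (CommRingCat.ofHom (Ideal.Quotient.mk (Ideal.ofList gs))) ≫ hU.isoSpec.inv :=
    ⟨_, rfl⟩
  rw [← hi]
  let e₁ := Scheme.ΓSpecIso (CommRingCat.of (Γ(X, U) ⧸ Ideal.ofList gs))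
  have hcomm : i.appTop ≫ e₁.hom =
      U.topIso.hom ≫ CommRingCat.ofHom (Ideal.Quotient.mk (Ideal.ofList gs)) := by
    rw [hi, Scheme.Hom.comp_appTop, hU.isoSpec_inv_appTop]
    simp only [e₁, Category.assoc, Scheme.ΓSpecIso_naturality]
    rw [← Category.assoc (Scheme.ΓSpecIso Γ(X, U)).inv]
    erw [Iso.inv_hom_id]
    rw [Category.id_comp]
  have he₁ : Function.Injective e₁.hom :=
    (ConcreteCategory.bijective_of_isIso e₁.hom).1
  have hc : ∀ y, e₁.hom (i.appTop y) =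
      Ideal.Quotient.mk (Ideal.ofList gs) (U.topIso.hom y) := by
    intro y
    have := congr($hcomm y)
    exact this
  have h12 : ∀ y, U.topIso.inv (U.topIso.hom y) = y := by
    intro y
    have := congr($(U.topIso.hom_inv_id) y)
    exact this
  have h21 : ∀ y, U.topIso.hom (U.topIso.inv y) = y := by
    intro y
    have := congr($(U.topIso.inv_hom_id) y)
    exact this
  rw [Scheme.Hom.ker_apply, ← Ideal.map_ofList]
  ext y
  rw [Ideal.mem_map_iff_of_surjective _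
    (ConcreteCategory.bijective_of_isIso U.topIso.inv).2]
  constructor
  · intro hy0
    have hy0' : i.appTop y = 0 := hy0
    refine ⟨U.topIso.hom y, ?_, h12 y⟩
    rw [← Ideal.Quotient.eq_zero_iff_mem, ← hc y, hy0', map_zero]
  · rintro ⟨y₀, hy₀, rfl⟩
    show i.appTop (U.topIso.inv y₀) = 0
    apply he₁
    rw [hc, h21, map_zero]
    exact Ideal.Quotient.eq_zero_iff_mem.2 hy₀

end Chart


section BC

variable {X S : Scheme.{u}} (f : X ⟶ S) {V : S.Opens} (hV : IsAffineOpen V) {U : X.Opens}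
  (hU : IsAffineOpen U) (hUV : U ≤ f ⁻¹ᵁ V) (gs : List Γ(X, U))

theorem topIso_inv_eq (a : Γ(S, V)) (h : (⊤ : (U : Scheme.{u}).Opens) ≤ (U.ι ≫ f) ⁻¹ᵁ V) :
    U.topIso.inv ((f.appLE V U hUV).hom a) = ((U.ι ≫ f).appLE V ⊤ h).hom a := by
  have h1 : (U.ι ≫ f).appLE V ⊤ h = f.appLE V U hUV ≫ U.ι.appLE U ⊤ (by simp) := by
    rw [Scheme.Hom.appLE_comp_appLE]
  rw [h1, Scheme.Opens.ι_appLE]
  rfl

include hV in
theorem baseChange_chart (hwr : IsWeaklyRegular Γ(X, U) gs)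
    (hfl : letI := (f.appLE V U hUV).hom.toAlgebra
      ∀ j : ℕ, Module.Flat Γ(S, V) (Γ(X, U) ⧸ Ideal.ofList (gs.take j)))
    {S' : Scheme.{u}} (g : S' ⟶ S) :
    Mor2.IsRegularClosedImmersion
      (pullback.snd (Spec.map (CommRingCat.ofHom (Ideal.Quotient.mk (Ideal.ofList gs))) ≫
        hU.isoSpec.inv) (pullback.fst (U.ι ≫ f) g)) := by
  haveI : IsClosedImmersion (Spec.map (CommRingCat.ofHom (Ideal.Quotient.mk (Ideal.ofList gs)))) :=
    IsClosedImmersion.spec_of_surjective _ Ideal.Quotient.mk_surjective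
  haveI : IsAffine (U : Scheme.{u}) := hU
  have hkerTop := ker_ideal_top_chart hU gs
  obtain ⟨i, hi⟩ : ∃ i : Spec (CommRingCat.of (Γ(X, U) ⧸ Ideal.ofList gs)) ⟶ (U : Scheme.{u}),
    i = Spec.map (CommRingCat.ofHom (Ideal.Quotient.mk (Ideal.ofList gs))) ≫ hU.isoSpec.inv :=
    ⟨_, rfl⟩
  rw [← hi] at hkerTop ⊢
  haveI : IsClosedImmersion i := hi ▸ inferInstance
  obtain ⟨b, hb⟩ : ∃ b : (U : Scheme.{u}) ⟶ S, b = U.ι ≫ f := ⟨_, rfl⟩
  have htopV : (⊤ : (U : Scheme.{u}).Opens) ≤ b ⁻¹ᵁ V := by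
    intro u _
    rw [hb]
    exact hUV u.2
  have hbapp : ∀ a : Γ(S, V), U.topIso.inv ((f.appLE V U hUV).hom a) =
      (b.appLE V ⊤ htopV).hom a := by
    subst hb
    exact fun a => topIso_inv_eq f hUV a htopV
  rw [← hb]
  refine ⟨inferInstance, fun z' => ?_⟩
  obtain ⟨t, ht⟩ : ∃ t, t = pullback.snd i (pullback.fst b g) z' := ⟨_, rfl⟩
  have hgV : g (pullback.snd b g t) ∈ V := by
    rw [← Scheme.Hom.comp_apply, ← pullback.condition, Scheme.Hom.comp_apply]
    exact htopV (Set.mem_univ _)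
  obtain ⟨_, ⟨V', hV', rfl⟩, htV', hV'le⟩ :=
    S'.isBasis_affineOpens.exists_subset_of_mem_open hgV (g ⁻¹ᵁ V).isOpen
  obtain ⟨V', rfl⟩ : ∃ V'' : S'.Opens, V'' = V' := ⟨V', rfl⟩
  have hV'V : V' ≤ g ⁻¹ᵁ V := hV'le
  have H : IsPullback (pullback.fst b g) (pullback.snd b g) b g := IsPullback.of_hasPullback b g
  obtain ⟨W, hWdef⟩ : ∃ W : (pullback b g).Opens,
      W = pullback.fst b g ⁻¹ᵁ ⊤ ⊓ pullback.snd b g ⁻¹ᵁ V' := ⟨_, rfl⟩
  have hW : IsAffineOpen W :=
    isAffineOpen_pullback_chart H hV'V htopV hWdef hV hV' (isAffineOpen_top _)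
  have hpush := isPushout_appLE_of_isAffineOpen H (UT := V') hV'V htopV (UY := W) hWdef hV hV'
    (isAffineOpen_top _)
  have htW : t ∈ W := by
    rw [hWdef]
    exact ⟨trivial, htV'⟩
  have hWle : W ≤ pullback.fst b g ⁻¹ᵁ ⊤ := by rw [hWdef]; exact inf_le_left
  have hWle' : W ≤ pullback.snd b g ⁻¹ᵁ V' := by rw [hWdef]; exact inf_le_right
  have hideal : (pullback.snd i (pullback.fst b g)).ker.ideal ⟨W, hW⟩ =
      Ideal.ofList ((gs.map U.topIso.inv.hom).map ((pullback.fst b g).appLE ⊤ W hWle).hom) := by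
    rw [Groth.Agent.Lib.Helper91.RegImmBaseChange.ker_pullback_snd,
      Groth.Agent.Lib.Helper20.ideal_comap (pullback.fst b g) i.ker ⟨W, hW⟩
        ⟨⊤, isAffineOpen_top _⟩ hWle, hkerTop, Ideal.map_ofList]
  refine ⟨W, hW, ht ▸ htW, _, ⟨?_, ?_⟩, hideal⟩
  · -- transversal regularity
    let a₀ : Γ(S, V) →+* Γ((U : Scheme.{u}), ⊤) := (b.appLE V ⊤ htopV).hom
    let a' : Γ(S, V) →+* Γ(S', V') := (g.appLE V V' hV'V).hom
    let c : Γ((U : Scheme.{u}), ⊤) →+* Γ(pullback b g, W) :=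
      ((pullback.fst b g).appLE ⊤ W hWle).hom
    let d : Γ(S', V') →+* Γ(pullback b g, W) := ((pullback.snd b g).appLE V' W hWle').hom
    have hw : c.comp a₀ = d.comp a' := congrArg CommRingCat.Hom.hom hpush.w
    letI : Algebra Γ(S, V) Γ((U : Scheme.{u}), ⊤) := a₀.toAlgebra
    letI : Algebra Γ(S, V) Γ(S', V') := a'.toAlgebra
    letI : Algebra Γ((U : Scheme.{u}), ⊤) Γ(pullback b g, W) := c.toAlgebra
    letI : Algebra Γ(S', V') Γ(pullback b g, W) := d.toAlgebra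
    letI : Algebra Γ(S, V) Γ(pullback b g, W) := (c.comp a₀).toAlgebra
    haveI : IsScalarTower Γ(S, V) Γ((U : Scheme.{u}), ⊤) Γ(pullback b g, W) :=
      IsScalarTower.of_algebraMap_eq' rfl
    haveI : IsScalarTower Γ(S, V) Γ(S', V') Γ(pullback b g, W) :=
      IsScalarTower.of_algebraMap_eq' hw
    haveI : Algebra.IsPushout Γ(S, V) Γ((U : Scheme.{u}), ⊤) Γ(S', V') Γ(pullback b g, W) :=
      CommRingCat.isPushout_iff_isPushout.mp hpush
    letI algAB : Algebra Γ(S, V) Γ(X, U) := (f.appLE V U hUV).hom.toAlgebra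
    -- transport along `topIso`
    let e : Γ(X, U) ≃ₐ[Γ(S, V)] Γ((U : Scheme.{u}), ⊤) :=
      AlgEquiv.ofRingEquiv (f := U.topIso.symm.commRingCatIsoToRingEquiv) (fun a => hbapp a)
    have he : ∀ y, e y = U.topIso.inv.hom y := fun y => rfl
    have hreg₀ : IsWeaklyRegular Γ((U : Scheme.{u}), ⊤) (gs.map U.topIso.inv.hom) :=
      (RegSmooth.isWeaklyRegular_map_ringEquiv e.toRingEquiv gs).1 hwr
    have hfl₀ : ∀ j : ℕ, Module.Flat Γ(S, V)
        (Γ((U : Scheme.{u}), ⊤) ⧸ Ideal.ofList ((gs.map U.topIso.inv.hom).take j)) := by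
      intro j
      haveI := hfl j
      have hIJ : Ideal.ofList ((gs.map U.topIso.inv.hom).take j) =
          (Ideal.ofList (gs.take j)).map (e : Γ(X, U) →+* Γ((U : Scheme.{u}), ⊤)) := by
        rw [Ideal.map_ofList, ← List.map_take]
        rfl
      exact Module.Flat.of_linearEquiv
        (Ideal.quotientEquivAlg (Ideal.ofList (gs.take j)) _ e hIJ).symm.toLinearEquiv
    exact TransReg.isWeaklyRegular_of_isPushout (A := Γ(S, V)) (B := Γ((U : Scheme.{u}), ⊤))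
      (A' := Γ(S', V')) (D := Γ(pullback b g, W)) (gs.map U.topIso.inv.hom) hreg₀ hfl₀
  · intro htop
    rw [smul_eq_mul, Ideal.mul_top] at htop
    exact Groth.Agent.Lib.Helper91.RegImmCompose.ker_ideal_ne_top (pullback.snd i (pullback.fst b g))
      ⟨W, hW⟩ z' (ht ▸ htW) (hideal.trans htop.symm)

end BC

end Groth.Agent.Lib.Helper35.IterSliceBC
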