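import Groth.Agent.Lib.Helper35.JacobianPair

set_option autoImplicit false
set_option linter.style.haveILetI false
set_option maxHeartbeats 400000
set_option backward.isDefEq.respectTransparency.types false
universe u

namespace Groth.Agent.Lib.Helper35.JacobianDivisor

open TensorProduct IsLocalRing KaehlerDifferential Groth.Agent.Lib.Helper35.JacobianPair

/-- Version of `exists_etale_chart'` for an abstract localization `C` of `B` at `q`. -/
theorem exists_etale_chart_loc (A B : Type u) [CommRing A] [CommRing B] [Algebra A B]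
    [Algebra.FinitePresentation A B] (q : Ideal B) [q.IsPrime]
    (C : Type u) [CommRing C] [IsLocalRing C] [Algebra B C] [IsLocalization.AtPrime C q]
    [Algebra A C] [IsScalarTower A B C] [Algebra.FormallySmooth A C]
    {σ : Type u} [Finite σ] (x : σ → B)
    (hx : Function.Bijective (Finsupp.linearCombination (ResidueField C)
      (fun i : σ => (1 : ResidueField C) ⊗ₜ[C] D A C (algebraMap B C (x i))))) :
    ∃ f₁ ∉ q, ∀ f : B, f₁ ∣ f → ∀ (B' : Type u) [CommRing B'] [Algebra B B']
      [IsLocalization.Away f B'],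
      (MvPolynomial.eval₂Hom ((algebraMap B B').comp (algebraMap A B))
        (fun i => algebraMap B B' (x i)) : MvPolynomial σ A →+* B').Etale := by
  letI algP : Algebra (MvPolynomial σ A) B := (MvPolynomial.aeval x).toRingHom.toAlgebra
  haveI : IsScalarTower A (MvPolynomial σ A) B :=
    IsScalarTower.of_algebraMap_eq' (MvPolynomial.aeval x).comp_algebraMap.symm
  have hX : ∀ i, algebraMap (MvPolynomial σ A) B (MvPolynomial.X i) = x i := fun i =>
    MvPolynomial.aeval_X x i
  letI algPC : Algebra (MvPolynomial σ A) C :=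
    ((algebraMap B C).comp (algebraMap (MvPolynomial σ A) B)).toAlgebra
  haveI : IsScalarTower (MvPolynomial σ A) B C := IsScalarTower.of_algebraMap_eq fun _ => rfl
  haveI : IsScalarTower A (MvPolynomial σ A) C :=
    IsScalarTower.of_algebraMap_eq fun a => by
      rw [IsScalarTower.algebraMap_apply A B C,
        IsScalarTower.algebraMap_apply (MvPolynomial σ A) B C,
        ← IsScalarTower.algebraMap_apply A (MvPolynomial σ A) B]
  haveI : Algebra.EssFiniteType B C := Algebra.EssFiniteType.of_isLocalization C q.primeCompl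
  haveI : Algebra.EssFiniteType A C := Algebra.EssFiniteType.comp A B C
  have hx' : Function.Bijective (Finsupp.linearCombination (ResidueField C)
      (fun i : σ => (1 : ResidueField C) ⊗ₜ[C]
        D A C (algebraMap (MvPolynomial σ A) C (MvPolynomial.X i)))) := by
    have heq : (fun i : σ => (1 : ResidueField C) ⊗ₜ[C]
        D A C (algebraMap (MvPolynomial σ A) C (MvPolynomial.X i))) =
        fun i : σ => (1 : ResidueField C) ⊗ₜ[C] D A C (algebraMap B C (x i)) :=
      funext fun i => by
        rw [IsScalarTower.algebraMap_apply (MvPolynomial σ A) B C, hX]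
    rw [heq]
    exact hx
  have hbij := bijective_mapBaseChange_of_basis (A := A) (C := C) (σ := σ) hx'
  have hfe : Algebra.FormallyEtale (MvPolynomial σ A) C :=
    formallyEtale_of_bijective_mapBaseChange A (MvPolynomial σ A) C hbij
  let e : C ≃ₐ[B] Localization.AtPrime q :=
    IsLocalization.algEquiv q.primeCompl C (Localization.AtPrime q)
  haveI : Algebra.IsEtaleAt (MvPolynomial σ A) q :=
    Algebra.FormallyEtale.of_equiv (e.restrictScalars (MvPolynomial σ A))
  haveI : Algebra.FinitePresentation (MvPolynomial σ A) B :=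
    Algebra.FinitePresentation.of_restrict_scalars_finitePresentation A (MvPolynomial σ A) B
  obtain ⟨f₁, hf₁, hét⟩ := Algebra.exists_etale_of_isEtaleAt (R := MvPolynomial σ A) q
  refine ⟨f₁, hf₁, fun f hf B' _ _ _ => ?_⟩
  have h2 : Algebra.Etale (MvPolynomial σ A) (Localization.Away f) := by
    rw [← Algebra.basicOpen_subset_etaleLocus_iff_etale] at hét ⊢
    obtain ⟨c, rfl⟩ := hf
    exact Set.Subset.trans (PrimeSpectrum.basicOpen_mul_le_left _ _) hét
  let e' : Localization.Away f ≃ₐ[B] B' :=
    IsLocalization.algEquiv (Submonoid.powers f) (Localization.Away f) B'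
  have h3 : (MvPolynomial.eval₂Hom ((algebraMap B B').comp (algebraMap A B))
      (fun i => algebraMap B B' (x i)) : MvPolynomial σ A →+* B') =
      (e' : Localization.Away f ≃+* B').toRingHom.comp
        (algebraMap (MvPolynomial σ A) (Localization.Away f)) := by
    apply MvPolynomial.ringHom_ext
    · intro a
      simp only [MvPolynomial.coe_eval₂Hom, MvPolynomial.eval₂_C, RingHom.comp_apply,
        RingEquiv.toRingHom_eq_coe]
      rw [← MvPolynomial.algebraMap_eq, ← IsScalarTower.algebraMap_apply A (MvPolynomial σ A)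
        (Localization.Away f), IsScalarTower.algebraMap_apply A B (Localization.Away f)]
      exact (e'.commutes _).symm
    · intro i
      simp only [MvPolynomial.coe_eval₂Hom, MvPolynomial.eval₂_X, RingHom.comp_apply,
        RingEquiv.toRingHom_eq_coe]
      rw [IsScalarTower.algebraMap_apply (MvPolynomial σ A) B (Localization.Away f), hX]
      exact (e'.commutes _).symm
  rw [h3]
  exact RingHom.Etale.respectsIso.1 _ (e' : Localization.Away f ≃+* B')
    (RingHom.etale_algebraMap.mpr h2)

/-- If `φ : A[σ] → B'` is étale, then the image of a variable is a nonzerodivisor and the quotient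
by it is smooth over `A`. -/
theorem nzd_and_smooth_quotient {A B' : Type u} [CommRing A] [CommRing B'] [Algebra A B']
    {σ : Type u} [Finite σ] (φ : MvPolynomial σ A →ₐ[A] B') (hφ : φ.toRingHom.Etale) (i₀ : σ) :
    φ (MvPolynomial.X i₀) ∈ nonZeroDivisors B' ∧
      Algebra.Smooth A (B' ⧸ Ideal.span {φ (MvPolynomial.X i₀)}) := by
  classical
  letI : Algebra (MvPolynomial σ A) B' := φ.toRingHom.toAlgebra
  haveI : IsScalarTower A (MvPolynomial σ A) B' :=
    IsScalarTower.of_algebraMap_eq' φ.comp_algebraMap.symm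
  haveI : Algebra.Etale (MvPolynomial σ A) B' := RingHom.etale_algebraMap.mp hφ
  have hX : ∀ i, algebraMap (MvPolynomial σ A) B' (MvPolynomial.X i) = φ (MvPolynomial.X i) :=
    fun i => rfl
  constructor
  · have hreg : IsSMulRegular (MvPolynomial σ A) (MvPolynomial.X i₀ : MvPolynomial σ A) :=
      (MvPolynomial.isRegular_X (R := A) (n := i₀)).left.isSMulRegular
    have h1 : IsSMulRegular B' (algebraMap (MvPolynomial σ A) B' (MvPolynomial.X i₀)) :=
      IsSMulRegular.of_flat hreg
    rw [hX] at h1
    have h2 : IsLeftRegular (φ (MvPolynomial.X i₀)) := h1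
    exact ((Commute.isRegular_iff (fun b => Commute.all _ b)).mpr h2).mem_nonZeroDivisors
  · haveI : Algebra.FinitePresentation A B' :=
      Algebra.FinitePresentation.trans A (MvPolynomial σ A) B'
    refine ⟨?_, Algebra.FinitePresentation.quotient (Submodule.fg_span_singleton _)⟩
    apply Algebra.FormallySmooth.of_comp_surjective
    intro C _ _ N hN u
    let mkh : B' →ₐ[A] B' ⧸ Ideal.span {φ (MvPolynomial.X i₀)} := Ideal.Quotient.mkₐ A _
    have hmk0 : mkh (φ (MvPolynomial.X i₀)) = 0 :=
      Ideal.Quotient.eq_zero_iff_mem.mpr (Ideal.subset_span rfl)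
    let s : σ → C := fun i => if i = i₀ then 0 else
      Function.surjInv (Ideal.Quotient.mk_surjective (I := N)) (u (mkh (φ (MvPolynomial.X i))))
    have hs : ∀ i, Ideal.Quotient.mk N (s i) = u (mkh (φ (MvPolynomial.X i))) := by
      intro i
      by_cases hi : i = i₀
      · subst hi
        simp only [s, if_pos rfl, map_zero]
        rw [hmk0, map_zero]
      · simp only [s, if_neg hi]
        exact Function.surjInv_eq _ _
    have hs0 : s i₀ = 0 := by simp [s]
    let v : MvPolynomial σ A →ₐ[A] C := MvPolynomial.aeval s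
    letI : Algebra (MvPolynomial σ A) C := v.toRingHom.toAlgebra
    haveI : IsScalarTower A (MvPolynomial σ A) C :=
      IsScalarTower.of_algebraMap_eq' v.comp_algebraMap.symm
    have hcomp : (u.comp mkh).comp φ = (Ideal.Quotient.mkₐ A N).comp v := by
      apply MvPolynomial.algHom_ext
      intro i
      show u (mkh (φ (MvPolynomial.X i))) = Ideal.Quotient.mk N (v (MvPolynomial.X i))
      rw [← hs]
      congr 1
      exact (MvPolynomial.aeval_X s i).symm
    let ū : B' →ₐ[MvPolynomial σ A] C ⧸ N :=
      { (u.comp mkh).toRingHom with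
        commutes' := fun p => congr($hcomp p) }
    obtain ⟨w, hw⟩ := Algebra.FormallySmooth.comp_surjective (MvPolynomial σ A) B' N hN ū
    have hwh : w (φ (MvPolynomial.X i₀)) = 0 := by
      rw [← hX, w.commutes]
      show v (MvPolynomial.X i₀) = 0
      rw [show v (MvPolynomial.X i₀) = s i₀ from MvPolynomial.aeval_X s i₀, hs0]
    have hle : Ideal.span {φ (MvPolynomial.X i₀)} ≤ RingHom.ker (w.restrictScalars A) := by
      rw [Ideal.span_le, Set.singleton_subset_iff]
      exact hwh
    refine ⟨Ideal.Quotient.liftₐ _ (w.restrictScalars A) (fun a ha => hle ha), ?_⟩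
    apply Ideal.Quotient.algHom_ext
    ext b
    show Ideal.Quotient.mk N (w b) = u (mkh b)
    exact congr($hw b)

/-- **Smooth divisor through a point.** `B` smooth over `A` at `q`, `h ∈ B` with `dh ≠ 0` in
`κ(q) ⊗ Ω`. Then on a basic open neighbourhood `h` is a nonzerodivisor and `B'/(h)` is smooth. -/
theorem exists_smooth_divisor (A B : Type u) [CommRing A] [CommRing B] [Algebra A B]
    [Algebra.FinitePresentation A B] (q : Ideal B) [q.IsPrime]
    (C : Type u) [CommRing C] [IsLocalRing C] [Algebra B C] [IsLocalization.AtPrime C q]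
    [Algebra A C] [IsScalarTower A B C] [Algebra.FormallySmooth A C]
    (h : B) (hh : (1 : ResidueField C) ⊗ₜ[C] D A C (algebraMap B C h) ≠ 0) :
    ∃ f₁ ∉ q, ∀ f : B, f₁ ∣ f → ∀ (B' : Type u) [CommRing B'] [Algebra B B']
      [IsLocalization.Away f B'],
      algebraMap B B' h ∈ nonZeroDivisors B' ∧
      ((Ideal.Quotient.mk (Ideal.span {algebraMap B B' h})).comp
        ((algebraMap B B').comp (algebraMap A B))).Smooth := by
  haveI : Algebra.EssFiniteType B C := Algebra.EssFiniteType.of_isLocalization C q.primeCompl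
  haveI : Algebra.EssFiniteType A C := Algebra.EssFiniteType.comp A B C
  have hLI : LinearIndependent (ResidueField C)
      (fun _ : Fin 1 => (1 : ResidueField C) ⊗ₜ[C] D A C (algebraMap B C h)) :=
    linearIndependent_unique_iff.mpr hh
  have hTspan : Submodule.span (ResidueField C) (Set.range fun b : B =>
      (1 : ResidueField C) ⊗ₜ[C] D A C (algebraMap B C b)) = ⊤ := by
    have h0 := KaehlerDifferential.span_range_map_derivation_of_isLocalization A B C q.primeCompl
    have heq : (⇑(KaehlerDifferential.map A A B C) ∘ ⇑(D A B)) =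
        fun b : B => D A C (algebraMap B C b) :=
      funext fun b => by rw [Function.comp_apply, KaehlerDifferential.map_D]
    rw [heq] at h0
    exact JacobianPoint.span_tmul_eq_top _ h0
  obtain ⟨m, w, hwT, hbij⟩ := exists_extend_basis _ hLI _ hTspan
  choose g' hg' using hwT
  let x : ULift.{u} (Fin 1 ⊕ Fin m) → B := fun j => Sum.elim (fun _ => h) g' j.down
  have hbij' := bijective_linearCombination_comp_equiv _ hbij (Equiv.ulift.{u})
  have hcomp : (Sum.elim (fun _ : Fin 1 => (1 : ResidueField C) ⊗ₜ[C] D A C (algebraMap B C h)) w ∘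
      ⇑(Equiv.ulift.{u} : ULift.{u} (Fin 1 ⊕ Fin m) ≃ Fin 1 ⊕ Fin m)) =
      fun j : ULift.{u} (Fin 1 ⊕ Fin m) => (1 : ResidueField C) ⊗ₜ[C]
        D A C (algebraMap B C (x j)) := by
    funext j
    rcases j with ⟨j | j⟩
    · rfl
    · exact (hg' j).symm
  rw [hcomp] at hbij'
  obtain ⟨f₁, hf₁, h1⟩ := exists_etale_chart_loc A B q C x hbij'
  refine ⟨f₁, hf₁, fun f hf B' _ _ _ => ?_⟩
  have hét := h1 f hf B'
  letI : Algebra A B' := ((algebraMap B B').comp (algebraMap A B)).toAlgebra
  let φ : MvPolynomial (ULift.{u} (Fin 1 ⊕ Fin m)) A →ₐ[A] B' :=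
    MvPolynomial.aeval (fun j => algebraMap B B' (x j))
  have hφ : φ.toRingHom = MvPolynomial.eval₂Hom ((algebraMap B B').comp (algebraMap A B))
      (fun j => algebraMap B B' (x j)) := rfl
  have h2 := nzd_and_smooth_quotient φ (hφ ▸ hét) ⟨Sum.inl 0⟩
  have hX : φ (MvPolynomial.X ⟨Sum.inl 0⟩) = algebraMap B B' h := MvPolynomial.aeval_X _ _
  rw [hX] at h2
  refine ⟨h2.1, ?_⟩
  have := h2.2
  exact RingHom.smooth_algebraMap.mpr this

/-- (6a) a nonzero kernel of `κ ⊗ Ω_{C/R} → Ω_{κ/R}` is witnessed by `dt` for some `t ∈ 𝔪`. -/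
theorem exists_mem_maximalIdeal_tmul_D_ne_zero (R C : Type u) [CommRing R] [CommRing C]
    [IsLocalRing C] [Algebra R C] [Algebra R (ResidueField C)]
    [IsScalarTower R C (ResidueField C)]
    (hker : LinearMap.ker (KaehlerDifferential.mapBaseChange R C (ResidueField C)) ≠ ⊥) :
    ∃ t ∈ maximalIdeal C, (1 : ResidueField C) ⊗ₜ[C] D R C t ≠ 0 := by
  obtain ⟨ω, hω, hω0⟩ := Submodule.exists_mem_ne_zero_of_ne_bot hker
  have hex := KaehlerDifferential.exact_kerCotangentToTensor_mapBaseChange R C (ResidueField C)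
    (IsLocalRing.residue_surjective)
  obtain ⟨z, rfl⟩ := (hex ω).mp hω
  obtain ⟨t, rfl⟩ := Ideal.toCotangent_surjective _ z
  rw [KaehlerDifferential.kerCotangentToTensor_toCotangent] at hω0
  refine ⟨t.1, ?_, hω0⟩
  have h1 : algebraMap C (ResidueField C) t.1 = 0 := RingHom.mem_ker.mp t.2
  have h2 : residue C t.1 = 0 := h1
  exact (residue_eq_zero_iff _).mp h2

/-- (6b) clearing denominators. -/
theorem exists_mem_tmul_D_ne_zero (R B C : Type u) [CommRing R] [CommRing B] [CommRing C]
    [IsLocalRing C] [Algebra R C] [Algebra B C] (q : Ideal B) [q.IsPrime]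
    [IsLocalization.AtPrime C q]
    (t : C) (ht : t ∈ maximalIdeal C) (hne : (1 : ResidueField C) ⊗ₜ[C] D R C t ≠ 0) :
    ∃ h ∈ q, (1 : ResidueField C) ⊗ₜ[C] D R C (algebraMap B C h) ≠ 0 := by
  obtain ⟨⟨h, s⟩, hts⟩ := IsLocalization.surj q.primeCompl t
  have hts' : t * algebraMap B C s = algebraMap B C h := hts
  have hsu : IsUnit (algebraMap B C (s : B)) := IsLocalization.map_units C s
  refine ⟨h, ?_, ?_⟩
  · rw [← IsLocalization.AtPrime.to_map_mem_maximal_iff C q h, ← hts']
    exact Ideal.mul_mem_right _ _ ht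
  · rw [← hts', Derivation.leibniz, TensorProduct.tmul_add, TensorProduct.tmul_smul,
      TensorProduct.tmul_smul]
    have h1 : t • ((1 : ResidueField C) ⊗ₜ[C] D R C (algebraMap B C (s : B))) = 0 := by
      rw [TensorProduct.smul_tmul', Algebra.smul_def, mul_one, ResidueField.algebraMap_eq,
        (residue_eq_zero_iff t).mpr ht, TensorProduct.zero_tmul]
    rw [h1, zero_add]
    intro h0
    apply hne
    have h2 : (algebraMap B C (s : B)) • ((1 : ResidueField C) ⊗ₜ[C] D R C t) = 0 := h0
    obtain ⟨u, hu⟩ := hsu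
    have h3 := congr((↑u⁻¹ : C) • $h2)
    rwa [smul_zero, smul_smul, ← hu, Units.inv_mul, one_smul] at h3

/-- (6c) change of base ring for the nonvanishing of a differential. -/
theorem tmul_D_ne_zero_of_tower (R R' C : Type u) [CommRing R] [CommRing R'] [CommRing C]
    [IsLocalRing C] [Algebra R R'] [Algebra R C] [Algebra R' C] [IsScalarTower R R' C]
    (c : C) (hne : (1 : ResidueField C) ⊗ₜ[C] D R' C c ≠ 0) :
    (1 : ResidueField C) ⊗ₜ[C] D R C c ≠ 0 := by
  intro h0
  apply hne
  have := congr(LinearMap.lTensor (ResidueField C) (KaehlerDifferential.map R R' C C) $h0)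
  rwa [LinearMap.lTensor_tmul, KaehlerDifferential.map_D, map_zero, Algebra.algebraMap_self,
    RingHom.id_apply] at this

end Groth.Agent.Lib.Helper35.JacobianDivisor
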