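import Mathlib.RingTheory.Smooth.Local
import Mathlib.RingTheory.Smooth.Locus
import Mathlib.RingTheory.Etale.Kaehler
import Mathlib.RingTheory.Etale.Locus
import Mathlib.RingTheory.Kaehler.JacobiZariski
import Mathlib.RingTheory.Kaehler.Polynomial
import Mathlib.RingTheory.Localization.Ideal
import Mathlib.RingTheory.Localization.Algebra
import Mathlib.RingTheory.LocalRing.Module
import Mathlib.LinearAlgebra.Dimension.OrzechProperty
import Mathlib.RingTheory.RingHom.Etale
import Groth.Agent.Lib.Helper35.JacobianPoint

/-! Étale coordinates adapted to a smooth pair `B ↠ B/J` at a prime (no Noetherian hypotheses)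
(helper35). -/

set_option autoImplicit false
set_option linter.style.haveILetI false
set_option maxHeartbeats 400000
set_option backward.isDefEq.respectTransparency.types false
universe u

namespace Groth.Agent.Lib.Helper35.JacobianPair

open TensorProduct IsLocalRing KaehlerDifferential

/-- A tower `A → P → C` with `C` formally smooth over `A` and `C ⊗_P Ω_{P/A} → Ω_{C/A}`
bijective is formally étale. -/
theorem formallyEtale_of_bijective_mapBaseChange (A P C : Type*) [CommRing A] [CommRing P]
    [CommRing C] [Algebra A P] [Algebra A C] [Algebra P C] [IsScalarTower A P C]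
    [Algebra.FormallySmooth A C]
    (hbij : Function.Bijective (KaehlerDifferential.mapBaseChange A P C)) :
    Algebra.FormallyEtale P C := by
  have hΩ : Subsingleton Ω[C⁄P] := by
    refine ⟨fun x y => ?_⟩
    obtain ⟨x', rfl⟩ := KaehlerDifferential.map_surjective A P C x
    obtain ⟨y', rfl⟩ := KaehlerDifferential.map_surjective A P C y
    obtain ⟨x'', rfl⟩ := hbij.2 x'
    obtain ⟨y'', rfl⟩ := hbij.2 y'
    have hx := (KaehlerDifferential.exact_mapBaseChange_map A P C
      (KaehlerDifferential.mapBaseChange A P C x'')).mpr ⟨_, rfl⟩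
    have hy := (KaehlerDifferential.exact_mapBaseChange_map A P C
      (KaehlerDifferential.mapBaseChange A P C y'')).mpr ⟨_, rfl⟩
    rw [hx, hy]
  have hH1 : Subsingleton (Algebra.H1Cotangent P C) := by
    refine ⟨fun x y => ?_⟩
    have key : ∀ z : Algebra.H1Cotangent P C, z = 0 := by
      intro z
      have h1 : Algebra.H1Cotangent.δ A P C z = 0 := by
        apply hbij.1
        rw [map_zero]
        exact (Algebra.H1Cotangent.exact_δ_mapBaseChange A P C _).mpr ⟨z, rfl⟩
      obtain ⟨z', rfl⟩ := (Algebra.H1Cotangent.exact_map_δ A P C z).mp h1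
      rw [Subsingleton.elim z' 0, map_zero]
    rw [key x, key y]
  rw [Algebra.FormallyEtale.iff_formallyUnramified_and_formallySmooth]
  exact ⟨⟨hΩ⟩, ⟨inferInstance, hH1⟩⟩

/-- If the differentials of the coordinate functions form a basis of `κ ⊗ Ω_{C/A}` for a local
`A`-algebra `C` with `Ω_{C/A}` finite flat, then `C ⊗_P Ω_{P/A} → Ω_{C/A}` is bijective for the
polynomial ring `P`. -/
theorem bijective_mapBaseChange_of_basis {A C : Type u} {σ : Type*} [CommRing A] [CommRing C]
    [IsLocalRing C] [Algebra A C] [Algebra (MvPolynomial σ A) C]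
    [IsScalarTower A (MvPolynomial σ A) C] [Module.Finite C Ω[C⁄A]] [Module.Flat C Ω[C⁄A]]
    (hx : Function.Bijective (Finsupp.linearCombination (ResidueField C)
      (fun i : σ => (1 : ResidueField C) ⊗ₜ[C]
        D A C (algebraMap (MvPolynomial σ A) C (MvPolynomial.X i))))) :
    Function.Bijective (KaehlerDifferential.mapBaseChange A (MvPolynomial σ A) C) := by
  have h1 := Module.IsLocalRing.linearCombination_bijective_of_flat (R := C) (M := Ω[C⁄A])
    (fun i : σ => D A C (algebraMap (MvPolynomial σ A) C (MvPolynomial.X i))) hx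
  let b := (KaehlerDifferential.mvPolynomialBasis A σ).baseChange C
  have h2 : (KaehlerDifferential.mapBaseChange A (MvPolynomial σ A) C) =
      (Finsupp.linearCombination C
        (fun i : σ => D A C (algebraMap (MvPolynomial σ A) C (MvPolynomial.X i)))) ∘ₗ
        b.repr.toLinearMap := by
    apply b.ext
    intro i
    rw [LinearMap.comp_apply, LinearEquiv.coe_coe, b.repr_self, Finsupp.linearCombination_single,
      one_smul, Module.Basis.baseChange_apply, KaehlerDifferential.mapBaseChange_tmul, one_smul,
      KaehlerDifferential.mvPolynomialBasis_apply, KaehlerDifferential.map_D]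
  rw [h2]
  exact h1.comp b.repr.bijective

/-- A spanning set of a finite-dimensional space contains a basis (indexed by `Fin m`). -/
theorem exists_fin_basis_of_span {K V : Type*} [Field K] [AddCommGroup V] [Module K V]
    [FiniteDimensional K V] (T : Set V) (hT : Submodule.span K T = ⊤) :
    ∃ (m : ℕ) (w : Fin m → V), (∀ j, w j ∈ T) ∧ LinearIndependent K w ∧
      Submodule.span K (Set.range w) = ⊤ := by
  obtain ⟨b, hbT, hspan, hli⟩ := exists_linearIndependent K T
  have hfin : b.Finite := hli.setFinite
  haveI : Fintype b := hfin.fintype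
  let e : Fin (Fintype.card b) ≃ b := (Fintype.equivFin b).symm
  refine ⟨Fintype.card b, fun j => (e j : V), fun j => hbT (e j).2, ?_, ?_⟩
  · exact hli.comp e e.injective
  · rw [← hT, ← hspan]
    congr 1
    ext x
    constructor
    · rintro ⟨j, rfl⟩; exact (e j).2
    · intro hx; exact ⟨e.symm ⟨x, hx⟩, by simp⟩

/-- Extend a linearly independent family to a basis by elements of a spanning set. -/
theorem exists_extend_basis {K V : Type*} [Field K] [AddCommGroup V] [Module K V]
    [FiniteDimensional K V] {r : ℕ} (v : Fin r → V) (hv : LinearIndependent K v) (T : Set V)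
    (hT : Submodule.span K T = ⊤) :
    ∃ (m : ℕ) (w : Fin m → V), (∀ j, w j ∈ T) ∧
      Function.Bijective (Finsupp.linearCombination K (Sum.elim v w)) := by
  obtain ⟨N, hN⟩ : ∃ N : Submodule K V, N = Submodule.span K (Set.range v) := ⟨_, rfl⟩
  have hT' : Submodule.span K (N.mkQ '' T) = ⊤ := by
    rw [← Submodule.map_span, hT, Submodule.map_top, Submodule.range_mkQ]
  obtain ⟨m, w', hw'T, hw'li, hw'span⟩ := exists_fin_basis_of_span (N.mkQ '' T) hT'
  choose w hwT hw using hw'T
  have hww' : (N.mkQ ∘ w) = w' := funext hw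
  refine ⟨m, w, hwT, ?_, ?_⟩
  · let f : Fin r → N := fun i => ⟨v i, hN ▸ Submodule.subset_span ⟨i, rfl⟩⟩
    have hf : LinearIndependent K f := LinearIndependent.of_comp N.subtype hv
    have hg : LinearIndependent K (Submodule.Quotient.mk (p := N) ∘ w) := by
      have : (Submodule.Quotient.mk (p := N) ∘ w) = w' := hww'
      rw [this]; exact hw'li
    exact hf.sumElim_of_quotient w hg
  · rw [← LinearMap.range_eq_top, Finsupp.range_linearCombination, Set.Sum.elim_range,
      Submodule.span_union, ← hN, ← Submodule.map_mkQ_eq_top, Submodule.map_span,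
      ← Set.range_comp, hww']
    exact hw'span

section Theta
variable {B : Type u} [CommRing B] (J : Ideal B) (q : Ideal B) [q.IsPrime]

/-- `κ(q) ⊗_B J ≃ κ(q) ⊗_{B_q} J B_q`. -/
noncomputable def θ : q.ResidueField ⊗[B] J ≃ₗ[q.ResidueField]
    q.ResidueField ⊗[Localization.AtPrime q] (J.map (algebraMap B (Localization.AtPrime q))) :=
  (AlgebraTensorModule.cancelBaseChange B (Localization.AtPrime q) q.ResidueField
      q.ResidueField J).symm ≪≫ₗ
    AlgebraTensorModule.congr (LinearEquiv.refl q.ResidueField q.ResidueField)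
      (IsLocalizedModule.isBaseChange q.primeCompl (Localization.AtPrime q)
        (Algebra.idealMap (Localization.AtPrime q) J)).equiv

theorem θ_apply (j : J) : θ J q ((1 : q.ResidueField) ⊗ₜ[B] j) =
    (1 : q.ResidueField) ⊗ₜ[Localization.AtPrime q]
      (Algebra.idealMap (Localization.AtPrime q) J j) := by
  simp [θ, IsBaseChange.equiv_tmul]

theorem span_one_tmul_eq_top :
    Submodule.span q.ResidueField (Set.range fun j : J => (1 : q.ResidueField) ⊗ₜ[B] j) = ⊤ := by
  rw [eq_top_iff]
  rintro x -
  induction x using TensorProduct.induction_on with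
  | zero => exact Submodule.zero_mem _
  | tmul a j =>
    have : a ⊗ₜ[B] j = a • ((1 : q.ResidueField) ⊗ₜ[B] j) := by
      rw [TensorProduct.smul_tmul', smul_eq_mul, mul_one]
    rw [this]
    exact Submodule.smul_mem _ _ (Submodule.subset_span ⟨j, rfl⟩)
  | add x y hx hy => exact Submodule.add_mem _ hx hy

/-- Minimal generators of `J` at `q`. -/
theorem exists_min_generators (hJ : J.FG) :
    ∃ (r : ℕ) (g : Fin r → B), (∀ i, g i ∈ J) ∧
      J.map (algebraMap B (Localization.AtPrime q)) =
        Ideal.span (Set.range fun i => algebraMap B (Localization.AtPrime q) (g i)) ∧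
      r = Module.finrank q.ResidueField (q.ResidueField ⊗[B] J) := by
  haveI : Module.Finite B J := Module.Finite.iff_fg.mpr hJ
  obtain ⟨m, w, hwT, hli, hspan⟩ := exists_fin_basis_of_span
    (Set.range fun j : J => (1 : q.ResidueField) ⊗ₜ[B] j) (span_one_tmul_eq_top J q)
  choose g' hg' using hwT
  let b := Module.Basis.mk hli hspan.ge
  refine ⟨m, fun i => (g' i : B), fun i => (g' i).2, ?_, ?_⟩
  · haveI : Module.Finite (Localization.AtPrime q)
        (J.map (algebraMap B (Localization.AtPrime q))) :=
      Module.Finite.iff_fg.mpr (hJ.map _)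
    let b' := b.map (θ J q)
    have hb' : ∀ i, (1 : q.ResidueField) ⊗ₜ[Localization.AtPrime q]
        (Algebra.idealMap (Localization.AtPrime q) J (g' i)) = b' i := by
      intro i
      rw [Module.Basis.map_apply, Module.Basis.mk_apply, ← hg' i, θ_apply]
    have h1 := IsLocalRing.span_eq_top_of_tmul_eq_basis
      (fun i => Algebra.idealMap (Localization.AtPrime q) J (g' i)) b' hb'
    have h2 := congr(Submodule.map (Submodule.subtype _) $h1)
    rw [Submodule.map_span, Submodule.map_subtype_top, ← Set.range_comp] at h2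
    rw [← h2]
    rfl
  · rw [Module.finrank_eq_card_basis b, Fintype.card_fin]

end Theta

/-- **Étale coordinates for a smooth pair, residue-field form.** If `B_q` and `B_q / J B_q` are
formally smooth over `A` and `g` is a minimal system of generators of `J` at `q`, then the
differentials of `g` can be completed, by differentials of elements of `B`, to a basis of
`κ(q) ⊗ Ω_{B_q/A}`. -/
theorem exists_coords (A B : Type u) [CommRing A] [CommRing B] [Algebra A B]
    [Algebra.FiniteType A B] (J : Ideal B) (hJ : J.FG) (q : Ideal B) [q.IsPrime] (hJq : J ≤ q)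
    (hsm : Algebra.FormallySmooth A (Localization.AtPrime q))
    (hsmJ : Algebra.FormallySmooth A
      (Localization.AtPrime q ⧸ J.map (algebraMap B (Localization.AtPrime q))))
    (r : ℕ) (g : Fin r → B) (hg : ∀ i, g i ∈ J)
    (hgen : J.map (algebraMap B (Localization.AtPrime q)) =
      Ideal.span (Set.range fun i => algebraMap B (Localization.AtPrime q) (g i)))
    (hmin : r = Module.finrank q.ResidueField (q.ResidueField ⊗[B] J)) :
    ∃ (m : ℕ) (g' : Fin m → B),
      Function.Bijective (Finsupp.linearCombination q.ResidueField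
        (fun i : Fin r ⊕ Fin m => (1 : q.ResidueField) ⊗ₜ[Localization.AtPrime q]
          D A (Localization.AtPrime q)
            (algebraMap B (Localization.AtPrime q) (Sum.elim g g' i)))) := by
  have hJm : J.map (algebraMap B (Localization.AtPrime q)) ≤
      maximalIdeal (Localization.AtPrime q) := by
    rw [Ideal.map_le_iff_le_comap]
    intro a ha
    rw [Ideal.mem_comap]
    exact (IsLocalization.AtPrime.to_map_mem_maximal_iff (Localization.AtPrime q) q a).mpr (hJq ha)
  have hJtop : J.map (algebraMap B (Localization.AtPrime q)) ≠ ⊤ := fun h =>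
    (maximalIdeal.isMaximal (Localization.AtPrime q)).ne_top (top_le_iff.mp (h ▸ hJm))
  haveI : Nontrivial (Localization.AtPrime q ⧸ J.map (algebraMap B (Localization.AtPrime q))) :=
    Ideal.Quotient.nontrivial_iff.mpr hJtop
  haveI : IsLocalRing (Localization.AtPrime q ⧸ J.map (algebraMap B (Localization.AtPrime q))) :=
    IsLocalRing.of_surjective' (Ideal.Quotient.mk _) Ideal.Quotient.mk_surjective
  haveI : Algebra.EssFiniteType A (Localization.AtPrime q) :=
    Algebra.EssFiniteType.comp A B (Localization.AtPrime q)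
  haveI : Module.Free (Localization.AtPrime q) Ω[Localization.AtPrime q⁄A] :=
    Module.free_of_flat_of_isLocalRing
  let φ : (Localization.AtPrime q ⧸ J.map (algebraMap B (Localization.AtPrime q))) →+*
      q.ResidueField :=
    Ideal.Quotient.lift _ (algebraMap (Localization.AtPrime q) q.ResidueField) (fun a ha => by
      rw [ResidueField.algebraMap_eq]
      exact (residue_eq_zero_iff a).mpr (hJm ha))
  letI : Algebra (Localization.AtPrime q ⧸ J.map (algebraMap B (Localization.AtPrime q)))
      q.ResidueField := φ.toAlgebra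
  haveI : IsScalarTower (Localization.AtPrime q)
      (Localization.AtPrime q ⧸ J.map (algebraMap B (Localization.AtPrime q))) q.ResidueField :=
    ⟨fun a x k => by
      obtain ⟨x, rfl⟩ := Ideal.Quotient.mk_surjective x
      rw [Algebra.smul_def, Algebra.smul_def, Algebra.smul_def]
      have h0 : a • Ideal.Quotient.mk (J.map (algebraMap B (Localization.AtPrime q))) x =
          Ideal.Quotient.mk _ (a * x) := rfl
      rw [h0]
      show φ (Ideal.Quotient.mk _ (a * x)) * k = _ * (φ (Ideal.Quotient.mk _ x) * k)
      rw [Ideal.Quotient.lift_mk, Ideal.Quotient.lift_mk, map_mul, mul_assoc]⟩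
  have h₁ : Function.Surjective (algebraMap (Localization.AtPrime q)
      (Localization.AtPrime q ⧸ J.map (algebraMap B (Localization.AtPrime q)))) :=
    Ideal.Quotient.mk_surjective
  have hker : RingHom.ker (algebraMap (Localization.AtPrime q)
      (Localization.AtPrime q ⧸ J.map (algebraMap B (Localization.AtPrime q)))) =
      J.map (algebraMap B (Localization.AtPrime q)) := Ideal.mk_ker
  have h₂ : (RingHom.ker (algebraMap (Localization.AtPrime q)
      (Localization.AtPrime q ⧸ J.map (algebraMap B (Localization.AtPrime q))))).FG := by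
    rw [hker]; exact hJ.map _
  have h₃ : maximalIdeal (Localization.AtPrime q ⧸ J.map (algebraMap B (Localization.AtPrime q))) ≤
      RingHom.ker (algebraMap (Localization.AtPrime q ⧸ J.map (algebraMap B (Localization.AtPrime q)))
        q.ResidueField) := by
    intro x hx
    obtain ⟨c, rfl⟩ := Ideal.Quotient.mk_surjective x
    rw [RingHom.mem_ker]
    show algebraMap (Localization.AtPrime q) q.ResidueField c = 0
    rw [ResidueField.algebraMap_eq, residue_eq_zero_iff]
    by_contra hc
    have hu : IsUnit c := by
      by_contra hcu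
      exact hc ((mem_maximalIdeal c).mpr hcu)
    exact (mem_maximalIdeal _).mp hx (hu.map _)
  have hinj := (Algebra.FormallySmooth.iff_injective_cotangentComplexBaseChange (R := A)
    (S := Localization.AtPrime q ⧸ J.map (algebraMap B (Localization.AtPrime q)))
    (Localization.AtPrime q) q.ResidueField h₁ h₂ h₃).mp hsmJ
  have memK : ∀ a ∈ J, algebraMap B (Localization.AtPrime q) a ∈ RingHom.ker (algebraMap
      (Localization.AtPrime q)
      (Localization.AtPrime q ⧸ J.map (algebraMap B (Localization.AtPrime q)))) := fun a ha =>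
    by rw [hker]; exact Ideal.mem_map_of_mem _ ha
  haveI : Module.Finite (Localization.AtPrime q) ↥(RingHom.ker (algebraMap
      (Localization.AtPrime q)
      (Localization.AtPrime q ⧸ J.map (algebraMap B (Localization.AtPrime q))))) :=
    Module.Finite.of_fg h₂
  -- the family `1 ⊗ g i` in `κ ⊗ ker`
  let f : Fin r → ↥(RingHom.ker (algebraMap (Localization.AtPrime q)
      (Localization.AtPrime q ⧸ J.map (algebraMap B (Localization.AtPrime q))))) :=
    fun i => ⟨algebraMap B (Localization.AtPrime q) (g i), memK _ (hg i)⟩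
  have hspanL : Submodule.span (Localization.AtPrime q) (Set.range f) = ⊤ := by
    apply Submodule.map_injective_of_injective (Submodule.injective_subtype _)
    rw [Submodule.map_span, Submodule.map_subtype_top, ← Set.range_comp]
    refine Eq.trans ?_ (hker.trans hgen).symm
    rfl
  have hspanK := JacobianPoint.span_tmul_eq_top f hspanL
  have hfinrank : Module.finrank q.ResidueField (q.ResidueField ⊗[Localization.AtPrime q]
      ↥(RingHom.ker (algebraMap (Localization.AtPrime q)
        (Localization.AtPrime q ⧸ J.map (algebraMap B (Localization.AtPrime q)))))) = r := by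
    rw [hmin]
    refine LinearEquiv.finrank_eq ?_
    exact (AlgebraTensorModule.congr (LinearEquiv.refl q.ResidueField q.ResidueField)
      (LinearEquiv.ofEq _ _ hker)) ≪≫ₗ (θ J q).symm
  have hLI : LinearIndependent q.ResidueField
      (fun i => (1 : q.ResidueField) ⊗ₜ[Localization.AtPrime q] f i) :=
    linearIndependent_of_top_le_span_of_card_eq_finrank hspanK.ge
      (by rw [Fintype.card_fin, hfinrank])
  have hLI2 : LinearIndependent q.ResidueField
      (fun i => (1 : q.ResidueField) ⊗ₜ[Localization.AtPrime q]
        D A (Localization.AtPrime q) (algebraMap B (Localization.AtPrime q) (g i))) := by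
    have h := hLI.map' _ (LinearMap.ker_eq_bot.mpr hinj)
    have heq : (⇑(cotangentComplexBaseChange A
        (Localization.AtPrime q ⧸ J.map (algebraMap B (Localization.AtPrime q)))
        (Localization.AtPrime q) q.ResidueField) ∘
        fun i => (1 : q.ResidueField) ⊗ₜ[Localization.AtPrime q] f i) =
        fun i => (1 : q.ResidueField) ⊗ₜ[Localization.AtPrime q]
          D A (Localization.AtPrime q) (algebraMap B (Localization.AtPrime q) (g i)) :=
      funext fun i => by
        rw [Function.comp_apply, cotangentComplexBaseChange_tmul, one_smul, kerToTensor_apply]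
    rw [heq] at h
    exact h
  -- spanning set of differentials of elements of `B`
  have hTspan : Submodule.span q.ResidueField (Set.range fun b : B =>
      (1 : q.ResidueField) ⊗ₜ[Localization.AtPrime q]
        D A (Localization.AtPrime q) (algebraMap B (Localization.AtPrime q) b)) = ⊤ := by
    have h0 := KaehlerDifferential.span_range_map_derivation_of_isLocalization A B
      (Localization.AtPrime q) q.primeCompl
    have heq : (⇑(KaehlerDifferential.map A A B (Localization.AtPrime q)) ∘ ⇑(D A B)) =
        fun b : B => D A (Localization.AtPrime q) (algebraMap B (Localization.AtPrime q) b) :=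
      funext fun b => by rw [Function.comp_apply, KaehlerDifferential.map_D]
    rw [heq] at h0
    exact JacobianPoint.span_tmul_eq_top _ h0
  obtain ⟨m, w, hwT, hbij⟩ := exists_extend_basis _ hLI2 _ hTspan
  choose g' hg' using hwT
  refine ⟨m, g', ?_⟩
  have heq : (fun i : Fin r ⊕ Fin m => (1 : q.ResidueField) ⊗ₜ[Localization.AtPrime q]
      D A (Localization.AtPrime q) (algebraMap B (Localization.AtPrime q) (Sum.elim g g' i))) =
      Sum.elim (fun i => (1 : q.ResidueField) ⊗ₜ[Localization.AtPrime q]
        D A (Localization.AtPrime q) (algebraMap B (Localization.AtPrime q) (g i))) w :=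
    funext fun i => by
      rcases i with i | j
      · rfl
      · exact hg' j
  rw [heq]
  exact hbij

/-- Generation of `J` by `g` at `q` spreads out to a basic open neighbourhood. -/
theorem exists_map_eq_span {B : Type u} [CommRing B] (J : Ideal B) (hJ : J.FG) (q : Ideal B)
    [q.IsPrime] {r : ℕ} (g : Fin r → B) (hg : ∀ i, g i ∈ J)
    (hgen : J.map (algebraMap B (Localization.AtPrime q)) =
      Ideal.span (Set.range fun i => algebraMap B (Localization.AtPrime q) (g i))) :
    ∃ f₂ ∉ q, ∀ (f : B), f₂ ∣ f → J.map (algebraMap B (Localization.Away f)) =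
      Ideal.span (Set.range fun i => algebraMap B (Localization.Away f) (g i)) := by
  classical
  obtain ⟨I, hI⟩ : ∃ I : Ideal B, I = Ideal.span (Set.range g) := ⟨_, rfl⟩
  have hIJ : I ≤ J := by
    rw [hI, Ideal.span_le]
    rintro _ ⟨i, rfl⟩
    exact hg i
  have hmapI : ∀ (S : Type u) [CommRing S] [Algebra B S], I.map (algebraMap B S) =
      Ideal.span (Set.range fun i => algebraMap B S (g i)) := by
    intro S _ _
    rw [hI, Ideal.map_span, ← Set.range_comp]
    rfl
  have key : ∀ j ∈ J, ∃ s, s ∉ q ∧ s * j ∈ I := by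
    intro j hj
    have h1 : algebraMap B (Localization.AtPrime q) j ∈
        I.map (algebraMap B (Localization.AtPrime q)) := by
      rw [hmapI, ← hgen]
      exact Ideal.mem_map_of_mem _ hj
    obtain ⟨⟨i', t⟩, hit⟩ := (IsLocalization.mem_map_algebraMap_iff q.primeCompl
      (Localization.AtPrime q)).mp h1
    rw [← map_mul] at hit
    obtain ⟨c, hc⟩ := (IsLocalization.eq_iff_exists q.primeCompl (Localization.AtPrime q)).mp hit
    refine ⟨(c : B) * (t : B), ‹q.IsPrime›.mul_notMem c.2 t.2, ?_⟩
    have : (c : B) * (t : B) * j = (c : B) * (i' : B) := by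
      rw [← hc]; ring
    rw [this]
    exact I.mul_mem_left _ i'.2
  choose! s hsq hsI using key
  obtain ⟨S, hS⟩ := hJ
  have hSJ : ∀ j ∈ S, j ∈ J := fun j hj => hS ▸ Ideal.subset_span hj
  refine ⟨∏ j ∈ S, s j, ?_, ?_⟩
  · intro h
    obtain ⟨j, hjS, hj⟩ := (Ideal.IsPrime.prod_mem_iff (hp := ‹q.IsPrime›)).mp h
    exact hsq j (hSJ j hjS) hj
  · intro f hf
    apply le_antisymm
    · rw [← hmapI, ← hS, Ideal.map_span, Ideal.span_le]
      rintro _ ⟨j, hjS, rfl⟩
      have hu : IsUnit (algebraMap B (Localization.Away f) (s j)) := by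
        have h1 : s j ∣ f := (Finset.dvd_prod_of_mem s hjS).trans hf
        exact isUnit_of_dvd_unit (map_dvd (algebraMap B (Localization.Away f)) h1)
          (IsLocalization.Away.algebraMap_isUnit f)
      have h2 : algebraMap B (Localization.Away f) (s j) * algebraMap B (Localization.Away f) j ∈
          I.map (algebraMap B (Localization.Away f)) := by
        rw [← map_mul]
        exact Ideal.mem_map_of_mem _ (hsI j (hSJ j hjS))
      exact (Ideal.unit_mul_mem_iff_mem _ hu).mp h2
    · rw [← hmapI]
      exact Ideal.map_mono hIJ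

/-- If the differentials of `x : σ → B` form a basis of `κ(q) ⊗ Ω_{B_q/A}` and `B` is smooth over
`A` at `q`, then `x` defines an étale map `A[σ] → B_f` for all `f` divisible by some `f₁ ∉ q`. -/
theorem exists_etale_chart (A B : Type u) [CommRing A] [CommRing B] [Algebra A B]
    [Algebra.FinitePresentation A B] (q : Ideal B) [q.IsPrime]
    [hsm : Algebra.FormallySmooth A (Localization.AtPrime q)]
    {σ : Type*} [Finite σ] (x : σ → B)
    (hx : Function.Bijective (Finsupp.linearCombination q.ResidueField
      (fun i : σ => (1 : q.ResidueField) ⊗ₜ[Localization.AtPrime q]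
        D A (Localization.AtPrime q) (algebraMap B (Localization.AtPrime q) (x i))))) :
    ∃ f₁ ∉ q, ∀ f : B, f₁ ∣ f →
      (MvPolynomial.aeval (fun i => algebraMap B (Localization.Away f) (x i)) :
        MvPolynomial σ A →ₐ[A] Localization.Away f).toRingHom.Etale := by
  letI algP : Algebra (MvPolynomial σ A) B := (MvPolynomial.aeval x).toRingHom.toAlgebra
  haveI : IsScalarTower A (MvPolynomial σ A) B :=
    IsScalarTower.of_algebraMap_eq' (MvPolynomial.aeval x).comp_algebraMap.symm
  have hX : ∀ i, algebraMap (MvPolynomial σ A) B (MvPolynomial.X i) = x i := fun i =>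
    MvPolynomial.aeval_X x i
  haveI : IsScalarTower A (MvPolynomial σ A) (Localization.AtPrime q) :=
    IsScalarTower.of_algebraMap_eq fun a => by
      rw [IsScalarTower.algebraMap_apply A B (Localization.AtPrime q),
        IsScalarTower.algebraMap_apply (MvPolynomial σ A) B (Localization.AtPrime q),
        ← IsScalarTower.algebraMap_apply A (MvPolynomial σ A) B]
  haveI : Algebra.EssFiniteType A (Localization.AtPrime q) :=
    Algebra.EssFiniteType.comp A B (Localization.AtPrime q)
  have hx' : Function.Bijective (Finsupp.linearCombination (ResidueField (Localization.AtPrime q))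
      (fun i : σ => (1 : ResidueField (Localization.AtPrime q)) ⊗ₜ[Localization.AtPrime q]
        D A (Localization.AtPrime q)
          (algebraMap (MvPolynomial σ A) (Localization.AtPrime q) (MvPolynomial.X i)))) := by
    have heq : (fun i : σ => (1 : ResidueField (Localization.AtPrime q)) ⊗ₜ[Localization.AtPrime q]
        D A (Localization.AtPrime q)
          (algebraMap (MvPolynomial σ A) (Localization.AtPrime q) (MvPolynomial.X i))) =
        fun i : σ => (1 : q.ResidueField) ⊗ₜ[Localization.AtPrime q]
          D A (Localization.AtPrime q) (algebraMap B (Localization.AtPrime q) (x i)) :=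
      funext fun i => by
        rw [IsScalarTower.algebraMap_apply (MvPolynomial σ A) B (Localization.AtPrime q), hX]
    rw [heq]
    exact hx
  have hbij := bijective_mapBaseChange_of_basis (A := A) (C := Localization.AtPrime q) (σ := σ) hx'
  haveI : Algebra.IsEtaleAt (MvPolynomial σ A) q :=
    formallyEtale_of_bijective_mapBaseChange A (MvPolynomial σ A) (Localization.AtPrime q) hbij
  haveI : Algebra.FinitePresentation (MvPolynomial σ A) B :=
    Algebra.FinitePresentation.of_restrict_scalars_finitePresentation A (MvPolynomial σ A) B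
  obtain ⟨f₁, hf₁, hét⟩ := Algebra.exists_etale_of_isEtaleAt (R := MvPolynomial σ A) q
  refine ⟨f₁, hf₁, fun f hf => ?_⟩
  have h2 : Algebra.Etale (MvPolynomial σ A) (Localization.Away f) := by
    rw [← Algebra.basicOpen_subset_etaleLocus_iff_etale] at hét ⊢
    obtain ⟨c, rfl⟩ := hf
    exact Set.Subset.trans (PrimeSpectrum.basicOpen_mul_le_left _ _) hét
  have h3 : (MvPolynomial.aeval (fun i => algebraMap B (Localization.Away f) (x i)) :
      MvPolynomial σ A →ₐ[A] Localization.Away f).toRingHom =
      algebraMap (MvPolynomial σ A) (Localization.Away f) := by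
    apply MvPolynomial.ringHom_ext
    · intro a
      rw [AlgHom.toRingHom_eq_coe, RingHom.coe_coe, MvPolynomial.aeval_C,
        ← MvPolynomial.algebraMap_eq, ← IsScalarTower.algebraMap_apply]
    · intro i
      rw [AlgHom.toRingHom_eq_coe, RingHom.coe_coe, MvPolynomial.aeval_X,
        IsScalarTower.algebraMap_apply (MvPolynomial σ A) B (Localization.Away f), hX]
  rw [h3, RingHom.etale_algebraMap]
  exact h2

/-- Reindexing a basis-type bijectivity statement along an equivalence. -/
theorem bijective_linearCombination_comp_equiv {K V σ τ : Type*} [Field K] [AddCommGroup V]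
    [Module K V] (v : σ → V) (h : Function.Bijective (Finsupp.linearCombination K v))
    (ε : τ ≃ σ) : Function.Bijective (Finsupp.linearCombination K (v ∘ ε)) := by
  have hli : LinearIndependent K v := h.1
  refine ⟨hli.comp ε ε.injective, ?_⟩
  rw [← LinearMap.range_eq_top, Finsupp.range_linearCombination, ε.surjective.range_comp,
    ← Finsupp.range_linearCombination, LinearMap.range_eq_top]
  exact h.2

/-- Variant of `exists_map_eq_span` for an arbitrary localization away from `f`. -/
theorem exists_map_eq_span' {B : Type u} [CommRing B] (J : Ideal B) (hJ : J.FG) (q : Ideal B)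
    [q.IsPrime] {r : ℕ} (g : Fin r → B) (hg : ∀ i, g i ∈ J)
    (hgen : J.map (algebraMap B (Localization.AtPrime q)) =
      Ideal.span (Set.range fun i => algebraMap B (Localization.AtPrime q) (g i))) :
    ∃ f₂ ∉ q, ∀ (f : B), f₂ ∣ f → ∀ (B' : Type u) [CommRing B'] [Algebra B B']
      [IsLocalization.Away f B'], J.map (algebraMap B B') =
        Ideal.span (Set.range fun i => algebraMap B B' (g i)) := by
  obtain ⟨f₂, hf₂, h⟩ := exists_map_eq_span J hJ q g hg hgen
  refine ⟨f₂, hf₂, fun f hf B' _ _ _ => ?_⟩
  have h1 := h f hf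
  let e : Localization.Away f ≃ₐ[B] B' :=
    IsLocalization.algEquiv (Submonoid.powers f) (Localization.Away f) B'
  have he : (e : Localization.Away f →+* B').comp (algebraMap B (Localization.Away f)) =
      algebraMap B B' := by
    ext b
    exact e.commutes b
  have h2 := congr(Ideal.map (e : Localization.Away f →+* B') $h1)
  rw [Ideal.map_map, he, Ideal.map_span, ← Set.range_comp] at h2
  rw [h2]
  congr 2
  funext i
  exact e.commutes (g i)

/-- Variant of `exists_etale_chart` for an arbitrary localization away from `f`, in `eval₂Hom`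
form. -/
theorem exists_etale_chart' (A B : Type u) [CommRing A] [CommRing B] [Algebra A B]
    [Algebra.FinitePresentation A B] (q : Ideal B) [q.IsPrime]
    [hsm : Algebra.FormallySmooth A (Localization.AtPrime q)]
    {σ : Type u} [Finite σ] (x : σ → B)
    (hx : Function.Bijective (Finsupp.linearCombination q.ResidueField
      (fun i : σ => (1 : q.ResidueField) ⊗ₜ[Localization.AtPrime q]
        D A (Localization.AtPrime q) (algebraMap B (Localization.AtPrime q) (x i))))) :
    ∃ f₁ ∉ q, ∀ f : B, f₁ ∣ f → ∀ (B' : Type u) [CommRing B'] [Algebra B B']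
      [IsLocalization.Away f B'],
      (MvPolynomial.eval₂Hom ((algebraMap B B').comp (algebraMap A B))
        (fun i => algebraMap B B' (x i)) : MvPolynomial σ A →+* B').Etale := by
  obtain ⟨f₁, hf₁, h⟩ := exists_etale_chart A B q x hx
  refine ⟨f₁, hf₁, fun f hf B' _ _ _ => ?_⟩
  have h1 := h f hf
  let e : Localization.Away f ≃ₐ[B] B' :=
    IsLocalization.algEquiv (Submonoid.powers f) (Localization.Away f) B'
  have h2 : (MvPolynomial.eval₂Hom ((algebraMap B B').comp (algebraMap A B))
      (fun i => algebraMap B B' (x i)) : MvPolynomial σ A →+* B') =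
      (e : Localization.Away f ≃+* B').toRingHom.comp
        (MvPolynomial.aeval (fun i => algebraMap B (Localization.Away f) (x i)) :
          MvPolynomial σ A →ₐ[A] Localization.Away f).toRingHom := by
    apply MvPolynomial.ringHom_ext
    · intro a
      simp only [MvPolynomial.coe_eval₂Hom, MvPolynomial.eval₂_C, RingHom.comp_apply,
        AlgHom.toRingHom_eq_coe, RingHom.coe_coe, MvPolynomial.aeval_C, RingEquiv.toRingHom_eq_coe]
      rw [IsScalarTower.algebraMap_apply A B (Localization.Away f)]
      exact (e.commutes _).symm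
    · intro i
      simp only [MvPolynomial.coe_eval₂Hom, MvPolynomial.eval₂_X, RingHom.comp_apply,
        AlgHom.toRingHom_eq_coe, RingHom.coe_coe, MvPolynomial.aeval_X, RingEquiv.toRingHom_eq_coe]
      exact (e.commutes _).symm
  rw [h2]
  exact RingHom.Etale.respectsIso.1 _ (e : Localization.Away f ≃+* B') h1

/-- **Étale coordinates for a smooth pair, packaged form.** `B ↠ E` a surjection of smooth
`A`-algebras, `Q` a prime of `E`: there are `f ∈ B` not vanishing at `Q`, elements `g` of the
kernel and further elements `g'` such that over `B' = B_f` the kernel is generated by `g` and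
`(g', g)` are étale coordinates. -/
theorem exists_chart_of_smooth_pair (A B E : Type u) [CommRing A] [CommRing B] [CommRing E]
    [Algebra A B] [Algebra B E] [Algebra A E] [IsScalarTower A B E] [Algebra.Smooth A B]
    [Algebra.Smooth A E] (hsurj : Function.Surjective (algebraMap B E)) (Q : Ideal E) [Q.IsPrime] :
    ∃ (m r : ℕ) (g' : Fin m → B) (g : Fin r → B) (f : B),
      (∀ k, algebraMap B E (g k) = 0) ∧ algebraMap B E f ∉ Q ∧
      ∀ (B' : Type u) [CommRing B'] [Algebra B B'] [IsLocalization.Away f B'],
        (MvPolynomial.eval₂Hom ((algebraMap B B').comp (algebraMap A B))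
          (fun j : ULift.{u} (Fin m ⊕ Fin r) => algebraMap B B' (Sum.elim g' g j.down)) :
            MvPolynomial (ULift.{u} (Fin m ⊕ Fin r)) A →+* B').Etale ∧
        (RingHom.ker (algebraMap B E)).map (algebraMap B B') =
          Ideal.span (Set.range fun k => algebraMap B B' (g k)) := by
  obtain ⟨J, hJ⟩ : ∃ J : Ideal B, J = RingHom.ker (algebraMap B E) := ⟨_, rfl⟩
  obtain ⟨q, hq⟩ : ∃ q : Ideal B, q = Q.comap (algebraMap B E) := ⟨_, rfl⟩
  haveI : q.IsPrime := hq ▸ Ideal.comap_isPrime _ _
  have hJq : J ≤ q := by
    intro b hb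
    rw [hq, Ideal.mem_comap]
    rw [hJ, RingHom.mem_ker] at hb
    rw [hb]
    exact Q.zero_mem
  have hJfg : J.FG := by
    rw [hJ]
    exact Algebra.FinitePresentation.ker_fG_of_surjective (IsScalarTower.toAlgHom A B E) hsurj
  have hsm : Algebra.FormallySmooth A (Localization.AtPrime q) :=
    Algebra.FormallySmooth.comp A B (Localization.AtPrime q)
  -- the quotient `B ⧸ J` is smooth over `A`
  let eD : (B ⧸ J) ≃ₐ[A] E :=
    (Ideal.quotientEquivAlgOfEq A hJ).trans
      (Ideal.quotientKerAlgEquivOfSurjective (f := IsScalarTower.toAlgHom A B E) hsurj)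
  haveI : Algebra.FormallySmooth A (B ⧸ J) := Algebra.FormallySmooth.of_equiv eD.symm
  obtain ⟨Q', hQ'⟩ : ∃ Q' : Ideal (B ⧸ J), Q' = q.map (Ideal.Quotient.mk J) := ⟨_, rfl⟩
  have hker_le : RingHom.ker (Ideal.Quotient.mk J) ≤ q := by rw [Ideal.mk_ker]; exact hJq
  haveI : Q'.IsPrime := hQ' ▸ Ideal.map_isPrime_of_surjective Ideal.Quotient.mk_surjective hker_le
  have hqQ' : q = Q'.comap (Ideal.Quotient.mk J) := by
    rw [hQ', Ideal.comap_map_of_surjective _ Ideal.Quotient.mk_surjective, ← RingHom.ker_eq_comap_bot,
      sup_eq_left.mpr hker_le]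
  haveI : Algebra.IsSmoothAt A Q' :=
    Algebra.FormallySmooth.comp A (B ⧸ J) (Localization.AtPrime Q')
  have hsmJ := (JacobianPoint.isSmoothAt_iff_quotient A B J Q' q hqQ').mp inferInstance
  obtain ⟨r, g, hg, hgen, hmin⟩ := exists_min_generators J q hJfg
  obtain ⟨m, g', hbij⟩ := exists_coords A B J hJfg q hJq hsm hsmJ r g hg hgen hmin
  have hbij' := bijective_linearCombination_comp_equiv _ hbij
    ((Equiv.ulift.{u}).trans (Equiv.sumComm (Fin m) (Fin r)))
  have hcomp : ((fun i : Fin r ⊕ Fin m => (1 : q.ResidueField) ⊗ₜ[Localization.AtPrime q]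
      D A (Localization.AtPrime q) (algebraMap B (Localization.AtPrime q) (Sum.elim g g' i))) ∘
      ⇑((Equiv.ulift.{u}).trans (Equiv.sumComm (Fin m) (Fin r)))) =
      fun j : ULift.{u} (Fin m ⊕ Fin r) => (1 : q.ResidueField) ⊗ₜ[Localization.AtPrime q]
        D A (Localization.AtPrime q)
          (algebraMap B (Localization.AtPrime q) (Sum.elim g' g j.down)) := by
    funext j
    rcases j with ⟨j | j⟩ <;> rfl
  rw [hcomp] at hbij'
  obtain ⟨f₁, hf₁, h1⟩ := exists_etale_chart' A B q
    (fun j : ULift.{u} (Fin m ⊕ Fin r) => Sum.elim g' g j.down) hbij'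
  obtain ⟨f₂, hf₂, h2⟩ := exists_map_eq_span' J hJfg q g hg hgen
  refine ⟨m, r, g', g, f₁ * f₂, ?_, ?_, ?_⟩
  · intro k
    have := hg k
    rwa [hJ, RingHom.mem_ker] at this
  · have : f₁ * f₂ ∉ q := ‹q.IsPrime›.mul_notMem hf₁ hf₂
    rwa [hq, Ideal.mem_comap] at this
  · intro B' _ _ _
    refine ⟨h1 (f₁ * f₂) (dvd_mul_right _ _) B', ?_⟩
    rw [← hJ]
    exact h2 (f₁ * f₂) (dvd_mul_left _ _) B'

/-- Variant of `exists_chart_of_smooth_pair` valid for all multiples `f'` of `f`. `B ↠ E` a surjection of smooth
`A`-algebras, `Q` a prime of `E`: there are `f ∈ B` not vanishing at `Q`, elements `g` of the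
kernel and further elements `g'` such that over `B' = B_f` the kernel is generated by `g` and
`(g', g)` are étale coordinates. -/
theorem exists_chart_of_smooth_pair' (A B E : Type u) [CommRing A] [CommRing B] [CommRing E]
    [Algebra A B] [Algebra B E] [Algebra A E] [IsScalarTower A B E] [Algebra.Smooth A B]
    [Algebra.Smooth A E] (hsurj : Function.Surjective (algebraMap B E)) (Q : Ideal E) [Q.IsPrime] :
    ∃ (m r : ℕ) (g' : Fin m → B) (g : Fin r → B) (f : B),
      (∀ k, algebraMap B E (g k) = 0) ∧ algebraMap B E f ∉ Q ∧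
      ∀ f' : B, f ∣ f' → ∀ (B' : Type u) [CommRing B'] [Algebra B B'] [IsLocalization.Away f' B'],
        (MvPolynomial.eval₂Hom ((algebraMap B B').comp (algebraMap A B))
          (fun j : ULift.{u} (Fin m ⊕ Fin r) => algebraMap B B' (Sum.elim g' g j.down)) :
            MvPolynomial (ULift.{u} (Fin m ⊕ Fin r)) A →+* B').Etale ∧
        (RingHom.ker (algebraMap B E)).map (algebraMap B B') =
          Ideal.span (Set.range fun k => algebraMap B B' (g k)) := by
  obtain ⟨J, hJ⟩ : ∃ J : Ideal B, J = RingHom.ker (algebraMap B E) := ⟨_, rfl⟩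
  obtain ⟨q, hq⟩ : ∃ q : Ideal B, q = Q.comap (algebraMap B E) := ⟨_, rfl⟩
  haveI : q.IsPrime := hq ▸ Ideal.comap_isPrime _ _
  have hJq : J ≤ q := by
    intro b hb
    rw [hq, Ideal.mem_comap]
    rw [hJ, RingHom.mem_ker] at hb
    rw [hb]
    exact Q.zero_mem
  have hJfg : J.FG := by
    rw [hJ]
    exact Algebra.FinitePresentation.ker_fG_of_surjective (IsScalarTower.toAlgHom A B E) hsurj
  have hsm : Algebra.FormallySmooth A (Localization.AtPrime q) :=
    Algebra.FormallySmooth.comp A B (Localization.AtPrime q)
  -- the quotient `B ⧸ J` is smooth over `A`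
  let eD : (B ⧸ J) ≃ₐ[A] E :=
    (Ideal.quotientEquivAlgOfEq A hJ).trans
      (Ideal.quotientKerAlgEquivOfSurjective (f := IsScalarTower.toAlgHom A B E) hsurj)
  haveI : Algebra.FormallySmooth A (B ⧸ J) := Algebra.FormallySmooth.of_equiv eD.symm
  obtain ⟨Q', hQ'⟩ : ∃ Q' : Ideal (B ⧸ J), Q' = q.map (Ideal.Quotient.mk J) := ⟨_, rfl⟩
  have hker_le : RingHom.ker (Ideal.Quotient.mk J) ≤ q := by rw [Ideal.mk_ker]; exact hJq
  haveI : Q'.IsPrime := hQ' ▸ Ideal.map_isPrime_of_surjective Ideal.Quotient.mk_surjective hker_le
  have hqQ' : q = Q'.comap (Ideal.Quotient.mk J) := by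
    rw [hQ', Ideal.comap_map_of_surjective _ Ideal.Quotient.mk_surjective, ← RingHom.ker_eq_comap_bot,
      sup_eq_left.mpr hker_le]
  haveI : Algebra.IsSmoothAt A Q' :=
    Algebra.FormallySmooth.comp A (B ⧸ J) (Localization.AtPrime Q')
  have hsmJ := (JacobianPoint.isSmoothAt_iff_quotient A B J Q' q hqQ').mp inferInstance
  obtain ⟨r, g, hg, hgen, hmin⟩ := exists_min_generators J q hJfg
  obtain ⟨m, g', hbij⟩ := exists_coords A B J hJfg q hJq hsm hsmJ r g hg hgen hmin
  have hbij' := bijective_linearCombination_comp_equiv _ hbij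
    ((Equiv.ulift.{u}).trans (Equiv.sumComm (Fin m) (Fin r)))
  have hcomp : ((fun i : Fin r ⊕ Fin m => (1 : q.ResidueField) ⊗ₜ[Localization.AtPrime q]
      D A (Localization.AtPrime q) (algebraMap B (Localization.AtPrime q) (Sum.elim g g' i))) ∘
      ⇑((Equiv.ulift.{u}).trans (Equiv.sumComm (Fin m) (Fin r)))) =
      fun j : ULift.{u} (Fin m ⊕ Fin r) => (1 : q.ResidueField) ⊗ₜ[Localization.AtPrime q]
        D A (Localization.AtPrime q)
          (algebraMap B (Localization.AtPrime q) (Sum.elim g' g j.down)) := by
    funext j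
    rcases j with ⟨j | j⟩ <;> rfl
  rw [hcomp] at hbij'
  obtain ⟨f₁, hf₁, h1⟩ := exists_etale_chart' A B q
    (fun j : ULift.{u} (Fin m ⊕ Fin r) => Sum.elim g' g j.down) hbij'
  obtain ⟨f₂, hf₂, h2⟩ := exists_map_eq_span' J hJfg q g hg hgen
  refine ⟨m, r, g', g, f₁ * f₂, ?_, ?_, ?_⟩
  · intro k
    have := hg k
    rwa [hJ, RingHom.mem_ker] at this
  · have : f₁ * f₂ ∉ q := ‹q.IsPrime›.mul_notMem hf₁ hf₂
    rwa [hq, Ideal.mem_comap] at this
  · intro f' hf' B' _ _ _
    refine ⟨h1 f' ((dvd_mul_right _ _).trans hf') B', ?_⟩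
    rw [← hJ]
    exact h2 f' ((dvd_mul_left _ _).trans hf') B'

/-- Translating the coordinates by elements of the base does not affect étaleness. -/
theorem etale_eval₂Hom_sub {A B' : Type u} {σ : Type u} [CommRing A] [CommRing B']
    (φ : A →+* B') (x : σ → B') (a : σ → A)
    (h : (MvPolynomial.eval₂Hom φ x : MvPolynomial σ A →+* B').Etale) :
    (MvPolynomial.eval₂Hom φ (fun j => x j - φ (a j)) : MvPolynomial σ A →+* B').Etale := by
  let τ : MvPolynomial σ A →ₐ[A] MvPolynomial σ A :=
    MvPolynomial.aeval (fun j => MvPolynomial.X j - MvPolynomial.C (a j))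
  let τ' : MvPolynomial σ A →ₐ[A] MvPolynomial σ A :=
    MvPolynomial.aeval (fun j => MvPolynomial.X j + MvPolynomial.C (a j))
  let e : MvPolynomial σ A ≃ₐ[A] MvPolynomial σ A := AlgEquiv.ofAlgHom τ τ'
    (by
      apply MvPolynomial.algHom_ext
      intro j
      simp [τ, τ'])
    (by
      apply MvPolynomial.algHom_ext
      intro j
      simp [τ, τ'])
  have h2 : (MvPolynomial.eval₂Hom φ (fun j => x j - φ (a j)) : MvPolynomial σ A →+* B') =
      (MvPolynomial.eval₂Hom φ x).comp (e : MvPolynomial σ A ≃+* MvPolynomial σ A).toRingHom := by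
    apply MvPolynomial.ringHom_ext
    · intro c
      simp [e, τ]
    · intro j
      simp [e, τ]
  rw [h2]
  exact RingHom.Etale.respectsIso.2 _ (e : MvPolynomial σ A ≃+* MvPolynomial σ A) h

/-- Reindexing the coordinates along an equivalence does not affect étaleness. -/
theorem etale_eval₂Hom_comp_equiv {A B' : Type u} {σ τ : Type u} [CommRing A] [CommRing B']
    (φ : A →+* B') (x : σ → B') (ε : τ ≃ σ)
    (h : (MvPolynomial.eval₂Hom φ x : MvPolynomial σ A →+* B').Etale) :
    (MvPolynomial.eval₂Hom φ (x ∘ ε) : MvPolynomial τ A →+* B').Etale := by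
  have h2 : (MvPolynomial.eval₂Hom φ (x ∘ ε) : MvPolynomial τ A →+* B') =
      (MvPolynomial.eval₂Hom φ x).comp
        ((MvPolynomial.renameEquiv A ε : MvPolynomial τ A ≃+* MvPolynomial σ A)).toRingHom := by
    apply MvPolynomial.ringHom_ext
    · intro c
      simp
    · intro j
      simp
  rw [h2]
  exact RingHom.Etale.respectsIso.2 _
    (MvPolynomial.renameEquiv A ε : MvPolynomial τ A ≃+* MvPolynomial σ A) h


/-- **Étale coordinates along a section.** `B` a smooth `A`-algebra with a retraction
`s : B → A` and `Q` a prime of `A`: there are `f ∈ B` with `s f ∉ Q` and elements `x` of `B`, all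
killed by `s`, which are étale coordinates over `B_{f'}` for every multiple `f'` of `f`. -/
theorem exists_chart_of_section (A B : Type u) [CommRing A] [CommRing B] [Algebra A B]
    [Algebra.Smooth A B] (s : B →ₐ[A] A) (Q : Ideal A) [Q.IsPrime] :
    ∃ (N : ℕ) (x : Fin N → B) (f : B), (∀ k, s (x k) = 0) ∧ s f ∉ Q ∧
      ∀ f' : B, f ∣ f' → ∀ (B' : Type u) [CommRing B'] [Algebra B B'] [IsLocalization.Away f' B'],
        (MvPolynomial.eval₂Hom ((algebraMap B B').comp (algebraMap A B))
          (fun j : ULift.{u} (Fin N) => algebraMap B B' (x j.down)) :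
            MvPolynomial (ULift.{u} (Fin N)) A →+* B').Etale := by
  letI algBA : Algebra B A := s.toRingHom.toAlgebra
  haveI : IsScalarTower A B A := IsScalarTower.of_algebraMap_eq fun a => by
    show a = s (algebraMap A B a)
    rw [s.commutes]
    rfl
  have hsurj : Function.Surjective (algebraMap B A) := fun a => ⟨algebraMap A B a, by
    show s (algebraMap A B a) = a
    rw [s.commutes]
    rfl⟩
  obtain ⟨m, r, g', g, f, hg, hf, H⟩ := exists_chart_of_smooth_pair' A B A hsurj Q
  refine ⟨m + r, fun k => Sum.elim (fun k => g' k - algebraMap A B (s (g' k))) g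
    (finSumFinEquiv.symm k), f, ?_, hf, ?_⟩
  · intro k
    show s (Sum.elim (fun k => g' k - algebraMap A B (s (g' k))) g (finSumFinEquiv.symm k)) = 0
    generalize finSumFinEquiv.symm k = t
    rcases t with j | j
    · rw [Sum.elim_inl, map_sub, s.commutes]
      exact sub_self _
    · rw [Sum.elim_inr]
      exact hg j
  · intro f' hf' B' _ _ _
    obtain ⟨h1, -⟩ := H f' hf' B'
    have h2 := etale_eval₂Hom_sub ((algebraMap B B').comp (algebraMap A B)) _
      (fun j : ULift.{u} (Fin m ⊕ Fin r) => Sum.elim (fun k => s (g' k)) (fun _ => 0) j.down) h1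
    have h3 := etale_eval₂Hom_comp_equiv ((algebraMap B B').comp (algebraMap A B)) _
      ((Equiv.ulift.{u}).trans ((finSumFinEquiv.symm).trans (Equiv.ulift.{u}).symm)) h2
    convert h3 using 2
    funext j
    simp only [Function.comp_apply, Equiv.trans_apply, Equiv.ulift_apply, Equiv.ulift_symm_down]
    rcases finSumFinEquiv.symm j.down with k | k
    · simp
    · simp

end Groth.Agent.Lib.Helper35.JacobianPair
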