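import Mathlib
import Groth.Agent.Lib.Helper35.UnramSplit2

/-!
# Étale-local splitting of the quasi-finite part of a finite type algebra (Stacks 00UL), part 1

Idempotent systems (helper35), modelled on `UnramSplit2`.
-/

set_option autoImplicit false
set_option linter.style.haveILetI false
set_option maxHeartbeats 400000
set_option backward.isDefEq.respectTransparency.types false
universe u

namespace Groth.Agent.Lib.Helper35.QFRing

open TensorProduct Groth.Agent.Lib.Helper35.UnramSplit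

/-- `𝔔` is isolated among the primes over `p'`: every comparable prime over `p'` equals it. -/
def Isol {R' M : Type*} [CommRing R'] [CommRing M] [Algebra R' M] (p' : Ideal R') (𝔔 : Ideal M) :
    Prop :=
  ∀ 𝔔' : Ideal M, 𝔔'.IsPrime → 𝔔'.comap (algebraMap R' M) = p' → (𝔔' ≤ 𝔔 ∨ 𝔔 ≤ 𝔔') → 𝔔' = 𝔔

/-- orthogonal idempotents cutting out finite pieces with exactly one prime over `p'`. -/
structure IsQPre {R' M : Type*} [CommRing R'] [CommRing M] [Algebra R' M] (p' : Ideal R')
    {ι : Type*} (e : ι → M) : Prop where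
  ortho : OrthogonalIdempotents e
  fin : ∀ i, ∃ s : Finset M, ∀ x : M,
    e i * x ∈ Submodule.span R' ((fun y => e i * y) '' (s : Set M))
  prime : ∀ i, ∃ 𝔓 : Ideal M, 𝔓.IsPrime ∧ 𝔓.comap (algebraMap R' M) = p' ∧ e i ∉ 𝔓
  uniq : ∀ i (𝔓 𝔓' : Ideal M), 𝔓.IsPrime → 𝔓'.IsPrime → 𝔓.comap (algebraMap R' M) = p' →
    𝔓'.comap (algebraMap R' M) = p' → e i ∉ 𝔓 → e i ∉ 𝔓' → 𝔓 = 𝔓'

/-- ... and accounting for all isolated primes over `p'`. -/
structure IsQSol {R' M : Type*} [CommRing R'] [CommRing M] [Algebra R' M] (p' : Ideal R')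
    {ι : Type*} (e : ι → M) : Prop extends IsQPre p' e where
  cover : ∀ 𝔔 : Ideal M, 𝔔.IsPrime → 𝔔.comap (algebraMap R' M) = p' → Isol p' 𝔔 → ∃ i, e i ∉ 𝔔

section transport

variable {R' M M' : Type*} [CommRing R'] [CommRing M] [CommRing M'] [Algebra R' M] [Algebra R' M']
  {p' : Ideal R'} {ι : Type*} {e : ι → M}

lemma comap_comap_algEquiv (f : M ≃ₐ[R'] M') (𝔓 : Ideal M') :
    (𝔓.comap f.toRingEquiv.toRingHom).comap (algebraMap R' M) = 𝔓.comap (algebraMap R' M') := by
  rw [Ideal.comap_comap]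
  congr 1
  ext a
  simp

lemma IsQPre.map (h : IsQPre p' e) (f : M ≃ₐ[R'] M') : IsQPre p' (fun i => f (e i)) where
  ortho := h.ortho.map f.toRingEquiv.toRingHom
  fin i := by
    classical
    obtain ⟨s, hs⟩ := h.fin i
    refine ⟨s.image f, fun x => ?_⟩
    have h1 := hs (f.symm x)
    have h2 : f (e i * f.symm x) ∈ Submodule.map f.toLinearMap
        (Submodule.span R' ((fun y => e i * y) '' (s : Set M))) := ⟨_, h1, rfl⟩
    rw [Submodule.map_span, map_mul, AlgEquiv.apply_symm_apply] at h2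
    refine Submodule.span_mono ?_ h2
    rintro _ ⟨_, ⟨y, hy, rfl⟩, rfl⟩
    refine ⟨f y, ?_, ?_⟩
    · simp only [Finset.coe_image]
      exact ⟨y, hy, rfl⟩
    · simp
  prime i := by
    obtain ⟨𝔓, h1, h2, h3⟩ := h.prime i
    refine ⟨𝔓.comap f.symm.toRingEquiv.toRingHom, inferInstance, ?_, ?_⟩
    · rw [comap_comap_algEquiv, h2]
    · simpa [Ideal.mem_comap] using h3
  uniq i 𝔓 𝔓' h1 h1' h2 h2' h3 h3' := by
    have := h.uniq i (𝔓.comap f.toRingEquiv.toRingHom) (𝔓'.comap f.toRingEquiv.toRingHom)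
      inferInstance inferInstance (by rw [comap_comap_algEquiv, h2])
      (by rw [comap_comap_algEquiv, h2']) (by simpa [Ideal.mem_comap] using h3)
      (by simpa [Ideal.mem_comap] using h3')
    ext x
    obtain ⟨y, rfl⟩ := f.surjective x
    have h4 := congrArg (fun I : Ideal M => y ∈ I) this
    simpa [Ideal.mem_comap] using h4

lemma Isol.comap_algEquiv {𝔔 : Ideal M'} (f : M ≃ₐ[R'] M') (h : Isol p' 𝔔) :
    Isol p' (𝔔.comap f.toRingEquiv.toRingHom) := by
  intro 𝔔' h1 h2 h3
  have := h (𝔔'.comap f.symm.toRingEquiv.toRingHom) inferInstance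
    (by rw [comap_comap_algEquiv, h2]) (by
      rcases h3 with h3 | h3
      · left
        intro x hx
        have := h3 hx
        simpa [Ideal.mem_comap] using this
      · right
        intro x hx
        have : f.symm x ∈ 𝔔.comap f.toRingEquiv.toRingHom := by simpa [Ideal.mem_comap] using hx
        exact h3 this)
  ext x
  have h4 := congrArg (fun I : Ideal M' => f x ∈ I) this
  simpa [Ideal.mem_comap] using h4

lemma IsQSol.map (h : IsQSol p' e) (f : M ≃ₐ[R'] M') : IsQSol p' (fun i => f (e i)) where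
  toIsQPre := h.toIsQPre.map f
  cover 𝔔 h1 h2 h3 := by
    obtain ⟨i, hi⟩ := h.cover (𝔔.comap f.toRingEquiv.toRingHom) inferInstance
      (by rw [comap_comap_algEquiv, h2]) (h3.comap_algEquiv f)
    exact ⟨i, by simpa [Ideal.mem_comap] using hi⟩

end transport

section baseChange

variable {R' M : Type u} [CommRing R'] [CommRing M] [Algebra R' M]
  {p' : Ideal R'} [p'.IsPrime] {ι : Type*} {e : ι → M}
  (R'' : Type u) [CommRing R''] [Algebra R' R''] (p'' : Ideal R'') [p''.IsPrime] [p''.LiesOver p']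

omit [p'.IsPrime] [p''.IsPrime] in
lemma comap_includeRight_comap (𝔓 : Ideal (R'' ⊗[R'] M))
    (h : 𝔓.comap (algebraMap R'' (R'' ⊗[R'] M)) = p'') :
    (𝔓.comap (Algebra.TensorProduct.includeRight : M →ₐ[R'] R'' ⊗[R'] M).toRingHom).comap
      (algebraMap R' M) = p' := by
  rw [(p''.over_def p'), Ideal.under, ← h, Ideal.comap_comap, Ideal.comap_comap]
  congr 1
  ext a
  simp only [RingHom.coe_comp, Function.comp_apply, AlgHom.toRingHom_eq_coe, RingHom.coe_coe,
    AlgHom.commutes]
  rw [← IsScalarTower.algebraMap_apply]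

variable (H : Function.Bijective
  (Ideal.ResidueField.mapₐ p' p'' (Algebra.ofId _ _) (p''.over_def p')))

include H in
lemma eq_of_comap_includeRight_eq (𝔓 𝔓' : Ideal (R'' ⊗[R'] M)) [𝔓.IsPrime] [𝔓'.IsPrime]
    (h : 𝔓.comap (algebraMap R'' (R'' ⊗[R'] M)) = p'')
    (h' : 𝔓'.comap (algebraMap R'' (R'' ⊗[R'] M)) = p'')
    (hc : 𝔓.comap (Algebra.TensorProduct.includeRight : M →ₐ[R'] R'' ⊗[R'] M).toRingHom =
      𝔓'.comap (Algebra.TensorProduct.includeRight : M →ₐ[R'] R'' ⊗[R'] M).toRingHom) :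
    𝔓 = 𝔓' := by
  haveI : 𝔓.LiesOver p'' := ⟨h.symm⟩
  haveI : 𝔓'.LiesOver p'' := ⟨h'.symm⟩
  exact Ideal.eq_of_comap_eq_comap_of_bijective_residueFieldMap H 𝔓 𝔓' hc

include H in
lemma Isol.comap_includeRight {𝔔 : Ideal (R'' ⊗[R'] M)} [𝔔.IsPrime]
    (h : 𝔔.comap (algebraMap R'' (R'' ⊗[R'] M)) = p'') (hI : Isol p'' 𝔔) :
    Isol p' (𝔔.comap (Algebra.TensorProduct.includeRight : M →ₐ[R'] R'' ⊗[R'] M).toRingHom) := by
  intro 𝔮' h1 h2 h3
  haveI : 𝔔.LiesOver p'' := ⟨h.symm⟩
  haveI : 𝔮'.LiesOver p' := ⟨h2.symm⟩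
  let Φ := Ideal.fiberIsoOfBijectiveResidueField (S := M) H
  let Q : p''.primesOver (R'' ⊗[R'] M) := ⟨𝔔, inferInstance, inferInstance⟩
  let q' : p'.primesOver M := ⟨𝔮', h1, inferInstance⟩
  let Q' := Φ.symm q'
  have hΦQ : (Φ Q).1 = 𝔔.comap (Algebra.TensorProduct.includeRight : M →ₐ[R'] R'' ⊗[R'] M) :=
    Ideal.comap_fiberIsoOfBijectiveResidueField_apply H Q
  have hΦQ' : Φ Q' = q' := Φ.apply_symm_apply q'
  haveI : Q'.1.IsPrime := Q'.2.1
  have hQ'p : Q'.1.comap (algebraMap R'' (R'' ⊗[R'] M)) = p'' := (Q'.2.2.over).symm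
  have hcmp : Q'.1 ≤ 𝔔 ∨ 𝔔 ≤ Q'.1 := by
    rcases h3 with h3 | h3
    · left
      have : Φ Q' ≤ Φ Q := by
        rw [hΦQ']
        show 𝔮' ≤ (Φ Q).1
        rw [hΦQ]
        exact h3
      exact Φ.le_iff_le.mp this
    · right
      have : Φ Q ≤ Φ Q' := by
        rw [hΦQ']
        show (Φ Q).1 ≤ 𝔮'
        rw [hΦQ]
        exact h3
      exact Φ.le_iff_le.mp this
  have heq : Q'.1 = 𝔔 := hI Q'.1 inferInstance hQ'p hcmp
  have hQQ : Q' = Q := Subtype.ext heq
  have : (Φ Q').1 = (Φ Q).1 := by rw [hQQ]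
  rw [hΦQ', hΦQ] at this
  exact this

include H in
lemma IsQPre.baseChange (h : IsQPre p' e)
    (hp : p''.comap (algebraMap R' R'') = p') :
    IsQPre p'' (fun i => (1 : R'') ⊗ₜ[R'] e i) where
  ortho := h.ortho.map (Algebra.TensorProduct.includeRight : M →ₐ[R'] R'' ⊗[R'] M).toRingHom
  fin i := by
    classical
    obtain ⟨s, hs⟩ := h.fin i
    refine ⟨s.image (fun y => (1 : R'') ⊗ₜ[R'] y), fun x => ?_⟩
    set T'' : Set (R'' ⊗[R'] M) := (fun y => (1 : R'') ⊗ₜ[R'] e i * y) ''
      ((s.image (fun y => (1 : R'') ⊗ₜ[R'] y) : Finset (R'' ⊗[R'] M)) : Set (R'' ⊗[R'] M))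
      with hT''
    have key : ∀ z : M, z ∈ Submodule.span R' ((fun y => e i * y) '' (s : Set M)) →
        (1 : R'') ⊗ₜ[R'] z ∈ Submodule.span R'' T'' := by
      intro z hz
      induction hz using Submodule.span_induction with
      | mem z hz =>
        obtain ⟨y, hy, rfl⟩ := hz
        apply Submodule.subset_span
        refine ⟨(1 : R'') ⊗ₜ[R'] y, ?_, ?_⟩
        · simp only [Finset.coe_image]
          exact ⟨y, hy, rfl⟩
        · simp only [Algebra.TensorProduct.tmul_mul_tmul, mul_one]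
      | zero => rw [tmul_zero]; exact zero_mem _
      | add x y _ _ hx hy => rw [tmul_add]; exact add_mem hx hy
      | smul a x _ hx =>
        have : (1 : R'') ⊗ₜ[R'] (a • x) = (algebraMap R' R'' a) • ((1 : R'') ⊗ₜ[R'] x) := by
          rw [← smul_tmul, TensorProduct.smul_tmul', Algebra.smul_def, mul_one, smul_eq_mul,
            mul_one]
        rw [this]
        exact Submodule.smul_mem _ _ hx
    induction x using TensorProduct.induction_on with
    | zero => rw [mul_zero]; exact zero_mem _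
    | tmul r m =>
      have : (1 : R'') ⊗ₜ[R'] e i * r ⊗ₜ[R'] m = r • ((1 : R'') ⊗ₜ[R'] (e i * m)) := by
        rw [Algebra.TensorProduct.tmul_mul_tmul, one_mul, TensorProduct.smul_tmul', smul_eq_mul,
          mul_one]
      rw [this]
      exact Submodule.smul_mem _ _ (key _ (hs m))
    | add x y hx hy => rw [mul_add]; exact add_mem hx hy
  prime i := by
    obtain ⟨𝔓, h1, h2, h3⟩ := h.prime i
    obtain ⟨𝔓', h4, h5, h6⟩ := exists_prime_tensor (R := R') p'' 𝔓 (by rw [hp, h2])
    refine ⟨𝔓', h4, h5, ?_⟩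
    intro hmem
    apply h3
    rw [← h6]
    exact hmem
  uniq i 𝔓 𝔓' h1 h1' h2 h2' h3 h3' := by
    haveI := h1
    haveI := h1'
    apply eq_of_comap_includeRight_eq R'' p'' H 𝔓 𝔓' h2 h2'
    exact h.uniq i _ _ inferInstance inferInstance (comap_includeRight_comap R'' p'' 𝔓 h2)
      (comap_includeRight_comap R'' p'' 𝔓' h2') h3 h3'

include H in
lemma IsQSol.baseChange (h : IsQSol p' e)
    (hp : p''.comap (algebraMap R' R'') = p') :
    IsQSol p'' (fun i => (1 : R'') ⊗ₜ[R'] e i) where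
  toIsQPre := h.toIsQPre.baseChange R'' p'' H hp
  cover 𝔔 h1 h2 h3 := by
    haveI := h1
    obtain ⟨i, hi⟩ := h.cover _ inferInstance (comap_includeRight_comap R'' p'' 𝔔 h2)
      (Isol.comap_includeRight R'' p'' H h2 h3)
    exact ⟨i, hi⟩

end baseChange

section extend

variable {R' M : Type*} [CommRing R'] [CommRing M] [Algebra R' M] {p' : Ideal R'} {ι : Type*}

/-- extend a solution on `M ⧸ (ε)` by the idempotent `ε`. -/
lemma IsQSol.extend (ε : M) (hε : IsIdempotentElem ε)
    (hfin : ∃ s : Finset M, ∀ x : M,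
      ε * x ∈ Submodule.span R' ((fun y => ε * y) '' (s : Set M)))
    (hp : ∃ 𝔓 : Ideal M, 𝔓.IsPrime ∧ 𝔓.comap (algebraMap R' M) = p' ∧ ε ∉ 𝔓)
    (hu : ∀ (𝔓 𝔓' : Ideal M), 𝔓.IsPrime → 𝔓'.IsPrime → 𝔓.comap (algebraMap R' M) = p' →
      𝔓'.comap (algebraMap R' M) = p' → ε ∉ 𝔓 → ε ∉ 𝔓' → 𝔓 = 𝔓')
    {e : ι → M ⧸ Ideal.span {ε}} (h : IsQSol p' e) :
    ∃ e' : Option ι → M, IsQSol p' e' := by
  classical
  let π := Ideal.Quotient.mk (Ideal.span {ε})
  have hπs : Function.Surjective π := Ideal.Quotient.mk_surjective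
  have hε0 : ε * (1 - ε) = 0 := by rw [mul_sub, mul_one, hε.eq, sub_self]
  have key : ∀ z, π z = 0 → (1 - ε) * z = 0 := by
    intro z hz
    rw [Ideal.Quotient.eq_zero_iff_mem, Ideal.mem_span_singleton'] at hz
    obtain ⟨a, rfl⟩ := hz
    rw [mul_left_comm, mul_comm (1 - ε), hε0, mul_zero]
  have key2 : ∀ z w, π z = π w → (1 - ε) * z = (1 - ε) * w := by
    intro z w hzw
    have := key (z - w) (by rw [map_sub, hzw, sub_self])
    rwa [mul_sub, sub_eq_zero] at this
  have h1ε : (1 - ε) * (1 - ε) = 1 - ε := hε.one_sub.eq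
  have hπε : π (1 - ε) = 1 := by
    rw [map_sub, map_one, Ideal.Quotient.eq_zero_iff_mem.mpr (Ideal.mem_span_singleton_self ε),
      sub_zero]
  choose x hx using fun i => Ideal.Quotient.mk_surjective (e i)
  have mulσ : ∀ y z w, π (y * z) = π w → (1 - ε) * y * ((1 - ε) * z) = (1 - ε) * w := by
    intro y z w hyz
    have h1 := key (y * z - w) (by rw [map_sub, hyz, sub_self])
    rw [mul_sub, sub_eq_zero] at h1
    rw [← h1, mul_mul_mul_comm, h1ε]
  have hpe : ∀ i, π ((1 - ε) * x i) = e i := by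
    intro i
    rw [map_mul, hπε, one_mul, hx]
  -- primes containing `ε` descend
  have hdesc : ∀ 𝔔 : Ideal M, 𝔔.IsPrime → ε ∈ 𝔔 →
      (𝔔.map π).IsPrime ∧ (𝔔.map π).comap π = 𝔔 := by
    intro 𝔔 h1 hεQ
    have hker : RingHom.ker π ≤ 𝔔 := by
      rw [Ideal.mk_ker, Ideal.span_le]
      simpa using hεQ
    refine ⟨Ideal.map_isPrime_of_surjective hπs hker, ?_⟩
    rw [Ideal.comap_map_of_surjective _ hπs, ← RingHom.ker_eq_comap_bot]
    exact sup_eq_left.mpr hker
  have hcomap : ∀ 𝔔 : Ideal (M ⧸ Ideal.span {ε}),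
      (𝔔.comap π).comap (algebraMap R' M) = 𝔔.comap (algebraMap R' (M ⧸ Ideal.span {ε})) := by
    intro 𝔔
    rw [Ideal.comap_comap]
    rfl
  have hεmem : ∀ (i : ι) (𝔓 : Ideal M), 𝔓.IsPrime → (1 - ε) * x i ∉ 𝔓 → ε ∈ 𝔓 := by
    intro i 𝔓 h1 h3
    have : ε * ((1 - ε) * x i) ∈ 𝔓 := by rw [← mul_assoc, hε0, zero_mul]; exact zero_mem _
    exact (h1.mem_or_mem this).resolve_right h3
  refine ⟨fun o => o.elim ε (fun i => (1 - ε) * x i), ⟨⟨⟨?_, ?_⟩, ?_, ?_, ?_⟩, ?_⟩⟩
  · rintro (_ | i)
    · exact hε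
    · exact mulσ (x i) (x i) (x i) (by rw [map_mul, hx, (h.ortho.idem i).eq])
  · rintro (_ | i) (_ | j) hij
    · exact absurd rfl hij
    · show ε * ((1 - ε) * x j) = 0
      rw [← mul_assoc, hε0, zero_mul]
    · show (1 - ε) * x i * ε = 0
      rw [mul_right_comm, mul_comm (1 - ε), hε0, zero_mul]
    · show (1 - ε) * x i * ((1 - ε) * x j) = 0
      have hij' : i ≠ j := fun h => hij (by rw [h])
      rw [mulσ (x i) (x j) 0 (by rw [map_mul, hx, hx, h.ortho.ortho hij', map_zero]), mul_zero]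
  · rintro (_ | i)
    · exact hfin
    · obtain ⟨sb, hsb⟩ := h.fin i
      let lift : M ⧸ Ideal.span {ε} → M := Function.surjInv hπs
      have hlift : ∀ w, π (lift w) = w := Function.surjInv_eq hπs
      refine ⟨sb.image lift, fun y => ?_⟩
      show (1 - ε) * x i * y ∈ _
      set T : Set M := (fun y => (1 - ε) * x i * y) '' ((sb.image lift : Finset M) : Set M)
        with hT
      have hP : ∀ w : M ⧸ Ideal.span {ε},
          w ∈ Submodule.span R' ((fun y => e i * y) '' (sb : Set (M ⧸ Ideal.span {ε}))) →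
          ∀ z, π z = w → (1 - ε) * z ∈ Submodule.span R' T := by
        intro w hw
        induction hw using Submodule.span_induction with
        | mem w hw =>
          obtain ⟨yb, hyb, rfl⟩ := hw
          intro z hz
          have h2 : π z = π (x i * lift yb) := by
            rw [hz, map_mul, hx, hlift]
          rw [key2 _ _ h2, ← mul_assoc]
          apply Submodule.subset_span
          refine ⟨lift yb, ?_, rfl⟩
          simp only [Finset.coe_image]
          exact ⟨yb, hyb, rfl⟩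
        | zero =>
          intro z hz
          rw [key z hz]
          exact zero_mem _
        | add w₁ w₂ _ _ h₁ h₂ =>
          intro z hz
          have h3 : π (z - lift w₁) = w₂ := by rw [map_sub, hz, hlift, add_sub_cancel_left]
          have : (1 - ε) * z = (1 - ε) * lift w₁ + (1 - ε) * (z - lift w₁) := by ring
          rw [this]
          exact add_mem (h₁ _ (hlift w₁)) (h₂ _ h3)
        | smul a w _ h₁ =>
          intro z hz
          have h3 : π z = π (a • lift w) := by
            rw [hz, Algebra.smul_def, Algebra.smul_def, map_mul, hlift]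
            rfl
          rw [key2 _ _ h3, mul_smul_comm]
          exact Submodule.smul_mem _ _ (h₁ _ (hlift w))
      have := hP (e i * π y) (hsb (π y)) (x i * y) (by rw [map_mul, hx])
      rwa [← mul_assoc] at this
  · rintro (_ | i)
    · exact hp
    · obtain ⟨𝔓, h1, h2, h3⟩ := h.prime i
      refine ⟨𝔓.comap π, inferInstance, ?_, ?_⟩
      · rw [hcomap]
        exact h2
      · show (1 - ε) * x i ∉ 𝔓.comap π
        rw [Ideal.mem_comap, hpe]
        exact h3
  · rintro (_ | i) 𝔓 𝔓' h1 h1' h2 h2' h3 h3'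
    · exact hu 𝔓 𝔓' h1 h1' h2 h2' h3 h3'
    · have h3 : (1 - ε) * x i ∉ 𝔓 := h3
      have h3' : (1 - ε) * x i ∉ 𝔓' := h3'
      obtain ⟨hP1, hP2⟩ := hdesc 𝔓 h1 (hεmem i 𝔓 h1 h3)
      obtain ⟨hP1', hP2'⟩ := hdesc 𝔓' h1' (hεmem i 𝔓' h1' h3')
      have hne : e i ∉ 𝔓.map π := by
        intro hmem
        apply h3
        rw [← hP2, Ideal.mem_comap, hpe]
        exact hmem
      have hne' : e i ∉ 𝔓'.map π := by
        intro hmem
        apply h3'
        rw [← hP2', Ideal.mem_comap, hpe]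
        exact hmem
      have := h.uniq i (𝔓.map π) (𝔓'.map π) hP1 hP1' (by rw [← hcomap, hP2, h2])
        (by rw [← hcomap, hP2', h2']) hne hne'
      rw [← hP2, ← hP2', this]
  · intro 𝔔 h1 h2 h3
    by_cases hεQ : ε ∈ 𝔔
    · obtain ⟨hQ1, hQ2⟩ := hdesc 𝔔 h1 hεQ
      have hIs : Isol p' (𝔔.map π) := by
        intro 𝔔b hb1 hb2 hb3
        have h4 := h3 (𝔔b.comap π) inferInstance (by rw [hcomap, hb2]) (by
          rcases hb3 with hb3 | hb3
          · left
            rw [← hQ2]
            exact Ideal.comap_mono hb3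
          · right
            rw [← hQ2]
            exact Ideal.comap_mono hb3)
        rw [← Ideal.map_comap_of_surjective π hπs 𝔔b, h4]
      obtain ⟨i, hi⟩ := h.cover (𝔔.map π) hQ1 (by rw [← hcomap, hQ2, h2]) hIs
      refine ⟨some i, fun hmem => hi ?_⟩
      rw [← hpe]
      exact Ideal.mem_map_of_mem π hmem
    · exact ⟨none, hεQ⟩

end extend

section misc

lemma closure_range_residueField_eq_top {R : Type*} [CommRing R] (p : Ideal R) [p.IsPrime] :
    Subfield.closure (Set.range (algebraMap R p.ResidueField)) = ⊤ := by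
  rw [eq_top_iff]
  intro z _
  obtain ⟨x, y, hy, rfl⟩ := IsFractionRing.div_surjective (A := R ⧸ p) z
  obtain ⟨a, rfl⟩ := Ideal.Quotient.mk_surjective x
  obtain ⟨b, rfl⟩ := Ideal.Quotient.mk_surjective y
  apply Subfield.div_mem
  · apply Subfield.subset_closure
    exact ⟨a, rfl⟩
  · apply Subfield.subset_closure
    exact ⟨b, rfl⟩

lemma closure_eq_top_of_bijective {R R' : Type*} [CommRing R] [CommRing R'] [Algebra R R']
    (p : Ideal R) [p.IsPrime] (p' : Ideal R') [p'.IsPrime] [p'.LiesOver p]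
    (H : Function.Bijective (Ideal.ResidueField.mapₐ p p' (Algebra.ofId _ _) (p'.over_def p))) :
    Subfield.closure (Set.range (algebraMap R p'.ResidueField)) = ⊤ := by
  set f := Ideal.ResidueField.mapₐ p p' (Algebra.ofId _ _) (p'.over_def p) with hf
  have h1 : Set.range (algebraMap R p'.ResidueField) =
      f.toRingHom '' Set.range (algebraMap R p.ResidueField) := by
    rw [← Set.range_comp]
    congr 1
    ext a
    simp
  rw [h1, ← RingHom.map_field_closure, closure_range_residueField_eq_top, eq_top_iff]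
  intro z _
  obtain ⟨w, rfl⟩ := H.2 z
  exact ⟨w, Subfield.mem_top w, rfl⟩


lemma quasiFiniteAt_iff_isol {R S : Type*} [CommRing R] [CommRing S] [Algebra R S]
    [Algebra.FiniteType R S] (p : Ideal R) (q : Ideal S) [q.IsPrime]
    (hq : q.comap (algebraMap R S) = p) : Algebra.QuasiFiniteAt R q ↔ Isol p q := by
  subst hq
  let qq : PrimeSpectrum S := ⟨q, inferInstance⟩
  let pp : PrimeSpectrum R := qq.comap (algebraMap R S)
  let e := PrimeSpectrum.preimageHomeomorphFiber R S pp
  let o := PrimeSpectrum.preimageOrderIsoFiber R S pp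
  let a : PrimeSpectrum.comap (algebraMap R S) ⁻¹' {pp} := ⟨qq, rfl⟩
  have h1 : Algebra.QuasiFiniteAt R q ↔ IsOpen ({e a} : Set (PrimeSpectrum (pp.asIdeal.Fiber S))) := by
    rw [← Set.image_singleton, e.isOpen_image]
    exact Algebra.quasiFiniteAt_iff_isOpen_singleton_fiber qq
  haveI : IsNoetherianRing (pp.asIdeal.Fiber S) :=
    Algebra.FiniteType.isNoetherianRing pp.asIdeal.ResidueField _
  haveI : IsJacobsonRing (pp.asIdeal.Fiber S) :=
    isJacobsonRing_of_finiteType (A := pp.asIdeal.ResidueField)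
  have h2 : IsOpen ({e a} : Set (PrimeSpectrum (pp.asIdeal.Fiber S))) ↔
      IsClosed ({e a} : Set (PrimeSpectrum (pp.asIdeal.Fiber S))) ∧
        StableUnderGeneralization ({e a} : Set (PrimeSpectrum (pp.asIdeal.Fiber S))) :=
    (PrimeSpectrum.isOpen_singleton_tfae_of_isNoetherian_of_isJacobsonRing (e a)).out 0 2
  rw [h1, h2,
    PrimeSpectrum.isClosed_singleton_iff_isMaximal, ← PrimeSpectrum.isMax_iff,
    PrimeSpectrum.stableUnderGeneralization_singleton, ← PrimeSpectrum.isMin_iff]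
  show IsMax (o a) ∧ IsMin (o a) ↔ _
  rw [o.isMax_apply, o.isMin_apply]
  constructor
  · rintro ⟨hmax, hmin⟩ 𝔔' h1 h2 h3
    let b : PrimeSpectrum.comap (algebraMap R S) ⁻¹' {pp} := ⟨⟨𝔔', h1⟩, PrimeSpectrum.ext h2⟩
    rcases h3 with h3 | h3
    · have hba : b ≤ a := h3
      have := hmin hba
      exact le_antisymm h3 this
    · have hab : a ≤ b := h3
      have := hmax hab
      exact le_antisymm this h3
  · intro h
    constructor
    · intro b hab
      have := h b.1.asIdeal b.1.2 (congrArg PrimeSpectrum.asIdeal b.2) (Or.inr hab)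
      exact this.le
    · intro b hba
      have := h b.1.asIdeal b.1.2 (congrArg PrimeSpectrum.asIdeal b.2) (Or.inl hba)
      exact this.ge

lemma isolSet_finite {R S : Type*} [CommRing R] [CommRing S] [Algebra R S]
    [Algebra.FiniteType R S] (p : Ideal R) [p.IsPrime] :
    {q : Ideal S | q.IsPrime ∧ q.comap (algebraMap R S) = p ∧ Isol p q}.Finite := by
  haveI : IsNoetherianRing (p.Fiber S) :=
    Algebra.FiniteType.isNoetherianRing p.ResidueField _
  have hfin := minimalPrimes.finite_of_isNoetherianRing (p.Fiber S)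
  refine (hfin.image (fun P : Ideal (p.Fiber S) =>
    P.comap (Algebra.TensorProduct.includeRight : S →ₐ[R] p.Fiber S))).subset ?_
  rintro q ⟨hq1, hq2, hq3⟩
  let o := PrimeSpectrum.primesOverOrderIsoFiber R S p
  let a : p.primesOver S := ⟨q, hq1, ⟨hq2.symm⟩⟩
  refine ⟨(o a).asIdeal, ⟨⟨(o a).2, bot_le⟩, ?_⟩, ?_⟩
  · rintro P' ⟨hP', -⟩ hle
    let b : PrimeSpectrum (p.Fiber S) := ⟨P', hP'⟩
    have h1 : o.symm b ≤ a := by
      rw [← o.symm_apply_apply a]
      exact o.symm.le_iff_le.mpr hle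
    have h2 : (o.symm b).1 = q := hq3 _ (o.symm b).2.1 ((o.symm b).2.2.over).symm (Or.inl h1)
    have h3 : o.symm b = a := Subtype.ext h2
    have h4 : b = o a := by rw [← h3, o.apply_symm_apply]
    exact (congrArg PrimeSpectrum.asIdeal h4).ge
  · have := congrArg Subtype.val (o.symm_apply_apply a)
    exact this


lemma fin_of_finite_away {R' M : Type*} [CommRing R'] [CommRing M] [Algebra R' M] (ε : M)
    (hε : IsIdempotentElem ε) [Module.Finite R' (Localization.Away ε)] :
    ∃ s : Finset M, ∀ x : M, ε * x ∈ Submodule.span R' ((fun y => ε * y) '' (s : Set M)) := by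
  classical
  let L : M →ₗ[R'] Localization.Away ε := (IsScalarTower.toAlgHom R' M (Localization.Away ε)).toLinearMap
  have hL : Function.Surjective L :=
    IsLocalization.Away.algebraMap_surjective_of_isIdempotentElem ε hε
  obtain ⟨t, ht⟩ := (Module.Finite.fg_top : (⊤ : Submodule R' (Localization.Away ε)).FG)
  let lift : Localization.Away ε → M := Function.surjInv hL
  have hlift : ∀ w, L (lift w) = w := Function.surjInv_eq hL
  refine ⟨t.image lift, fun x => ?_⟩
  have h1 : L x ∈ Submodule.map L (Submodule.span R' ((t.image lift : Finset M) : Set M)) := by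
    rw [Submodule.map_span]
    have : L '' ((t.image lift : Finset M) : Set M) = (t : Set (Localization.Away ε)) := by
      ext w
      simp only [Finset.coe_image, Set.mem_image, Finset.mem_coe]
      constructor
      · rintro ⟨_, ⟨v, hv, rfl⟩, rfl⟩
        rwa [hlift]
      · intro hw
        exact ⟨lift w, ⟨w, hw, rfl⟩, hlift w⟩
    rw [this, ht]
    exact Submodule.mem_top
  obtain ⟨y, hy, hyx⟩ := h1
  have h2 : ε * x = ε * y := by
    have h3 : algebraMap M (Localization.Away ε) y = algebraMap M (Localization.Away ε) x := hyx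
    rw [IsLocalization.eq_iff_exists (Submonoid.powers ε)] at h3
    obtain ⟨⟨_, n, rfl⟩, hc⟩ := h3
    simp only at hc
    have h4 : ∀ n : ℕ, ε * ε ^ n = ε := by
      intro n
      induction n with
      | zero => simp
      | succ n ih => rw [pow_succ, ← mul_assoc, ih, hε.eq]
    have h4 := h4 n
    calc ε * x = ε * ε ^ n * x := by rw [h4]
      _ = ε * (ε ^ n * x) := by ring
      _ = ε * (ε ^ n * y) := by rw [hc]
      _ = ε * ε ^ n * y := by ring
      _ = ε * y := by rw [h4]
  rw [h2]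
  have h5 : ε * y ∈ Submodule.map (LinearMap.mulLeft R' ε)
      (Submodule.span R' ((t.image lift : Finset M) : Set M)) := ⟨y, hy, rfl⟩
  rw [Submodule.map_span] at h5
  exact h5

end misc

end Groth.Agent.Lib.Helper35.QFRing
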