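import Mathlib
import Groth.Agent.Lib.Helper35.QFRing

/-!
# Étale-local splitting of the quasi-finite part of a finite type algebra (Stacks 00UL), part 2

The main induction (helper35).
-/

set_option autoImplicit false
set_option linter.style.haveILetI false
set_option maxHeartbeats 400000
set_option backward.isDefEq.respectTransparency.types false
universe u

namespace Groth.Agent.Lib.Helper35.QFRing

open TensorProduct Groth.Agent.Lib.Helper35.UnramSplit

/-- the set of isolated primes over `p`. -/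
def isolSet (R S : Type*) [CommRing R] [CommRing S] [Algebra R S] (p : Ideal R) : Set (Ideal S) :=
  {q : Ideal S | q.IsPrime ∧ q.comap (algebraMap R S) = p ∧ Isol p q}

lemma isolSet_finite' {R S : Type*} [CommRing R] [CommRing S] [Algebra R S]
    [Algebra.FiniteType R S] (p : Ideal R) [p.IsPrime] : (isolSet R S p).Finite :=
  isolSet_finite p

section quot

variable {M : Type*} [CommRing M] (ε : M)

lemma quot_desc (𝔔 : Ideal M) (h1 : 𝔔.IsPrime) (hεQ : ε ∈ 𝔔) :
    (𝔔.map (Ideal.Quotient.mk (Ideal.span {ε}))).IsPrime ∧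
      (𝔔.map (Ideal.Quotient.mk (Ideal.span {ε}))).comap (Ideal.Quotient.mk (Ideal.span {ε})) =
        𝔔 := by
  have hπs : Function.Surjective (Ideal.Quotient.mk (Ideal.span {ε})) :=
    Ideal.Quotient.mk_surjective
  have hker : RingHom.ker (Ideal.Quotient.mk (Ideal.span {ε})) ≤ 𝔔 := by
    rw [Ideal.mk_ker, Ideal.span_le]
    simpa using hεQ
  refine ⟨Ideal.map_isPrime_of_surjective hπs hker, ?_⟩
  rw [Ideal.comap_map_of_surjective _ hπs, ← RingHom.ker_eq_comap_bot]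
  exact sup_eq_left.mpr hker

lemma isol_comap_quot {R' : Type*} [CommRing R'] [Algebra R' M] (p' : Ideal R')
    (hε : IsIdempotentElem ε) (Q : Ideal (M ⧸ Ideal.span {ε})) [Q.IsPrime] (hQ : Isol p' Q) :
    Isol p' (Q.comap (Ideal.Quotient.mk (Ideal.span {ε}))) := by
  have hπs : Function.Surjective (Ideal.Quotient.mk (Ideal.span {ε})) :=
    Ideal.Quotient.mk_surjective
  have hεQ : ε ∈ Q.comap (Ideal.Quotient.mk (Ideal.span {ε})) := by
    rw [Ideal.mem_comap, Ideal.Quotient.eq_zero_iff_mem.mpr (Ideal.mem_span_singleton_self ε)]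
    exact zero_mem _
  intro 𝔔' h1 h2 h3
  by_cases hε' : ε ∈ 𝔔'
  · obtain ⟨hP1, hP2⟩ := quot_desc ε 𝔔' h1 hε'
    have h4 := hQ (𝔔'.map (Ideal.Quotient.mk (Ideal.span {ε}))) hP1 (by
      rw [← h2]
      conv_rhs => rw [← hP2]
      rw [Ideal.comap_comap]
      rfl) (by
      rcases h3 with h3 | h3
      · left
        rw [← Ideal.map_comap_of_surjective _ hπs Q]
        exact Ideal.map_mono h3
      · right
        rw [← Ideal.map_comap_of_surjective _ hπs Q]
        exact Ideal.map_mono h3)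
    rw [← hP2, h4]
  · exfalso
    have h1ε : 1 - ε ∈ 𝔔' := by
      have : ε * (1 - ε) ∈ 𝔔' := by
        rw [mul_sub, mul_one, hε.eq, sub_self]
        exact zero_mem _
      exact (h1.mem_or_mem this).resolve_left hε'
    rcases h3 with h3 | h3
    · have h5 : 1 - ε ∈ Q.comap (Ideal.Quotient.mk (Ideal.span {ε})) := h3 h1ε
      have : (1 : M) ∈ Q.comap (Ideal.Quotient.mk (Ideal.span {ε})) := by
        have := add_mem hεQ h5
        rwa [add_sub_cancel] at this
      exact (Ideal.IsPrime.ne_top inferInstance) ((Ideal.eq_top_iff_one _).mpr this)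
    · exact hε' (h3 hεQ)

end quot

section measure

variable {R S R₁ : Type u} [CommRing R] [CommRing S] [Algebra R S] [Algebra.FiniteType R S]
  [CommRing R₁] [Algebra R R₁] (p : Ideal R) [p.IsPrime] (p₁ : Ideal R₁) [p₁.IsPrime]
  [p₁.LiesOver p]

lemma ncard_isolSet_quotient_lt
    (H : Function.Bijective (Ideal.ResidueField.mapₐ p p₁ (Algebra.ofId _ _) (p₁.over_def p)))
    (q : Ideal S) (hq : q ∈ isolSet R S p) (ε : R₁ ⊗[R] S) (hε : IsIdempotentElem ε)
    (𝔓 : Ideal (R₁ ⊗[R] S)) [𝔓.IsPrime]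
    (h𝔓 : 𝔓.comap (algebraMap R₁ (R₁ ⊗[R] S)) = p₁)
    (h𝔓q : 𝔓.comap (Algebra.TensorProduct.includeRight : S →ₐ[R] R₁ ⊗[R] S).toRingHom = q)
    (hε𝔓 : ε ∉ 𝔓) :
    (isolSet R₁ ((R₁ ⊗[R] S) ⧸ Ideal.span {ε}) p₁).ncard < (isolSet R S p).ncard := by
  have hfin := isolSet_finite' (S := S) p
  refine lt_of_le_of_lt ?_ (Set.ncard_sdiff_singleton_lt_of_mem hq hfin)
  let π := Ideal.Quotient.mk (Ideal.span {ε})
  have hπs : Function.Surjective π := Ideal.Quotient.mk_surjective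
  let g : Ideal ((R₁ ⊗[R] S) ⧸ Ideal.span {ε}) → Ideal S := fun Q =>
    (Q.comap π).comap (Algebra.TensorProduct.includeRight : S →ₐ[R] R₁ ⊗[R] S).toRingHom
  have hover : ∀ Q : Ideal ((R₁ ⊗[R] S) ⧸ Ideal.span {ε}),
      Q.comap (algebraMap R₁ ((R₁ ⊗[R] S) ⧸ Ideal.span {ε})) = p₁ →
      (Q.comap π).comap (algebraMap R₁ (R₁ ⊗[R] S)) = p₁ := by
    intro Q hQ
    rw [← hQ, Ideal.comap_comap]
    rfl
  have hεmem : ∀ Q : Ideal ((R₁ ⊗[R] S) ⧸ Ideal.span {ε}), ε ∈ Q.comap π := by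
    intro Q
    rw [Ideal.mem_comap, Ideal.Quotient.eq_zero_iff_mem.mpr (Ideal.mem_span_singleton_self ε)]
    exact zero_mem _
  refine Set.ncard_le_ncard_of_injOn g ?_ ?_ (hfin.subset Set.sdiff_subset)
  · rintro Q ⟨hQ1, hQ2, hQ3⟩
    haveI := hQ1
    have hI : Isol p₁ (Q.comap π) := isol_comap_quot ε p₁ hε Q hQ3
    refine ⟨⟨inferInstance, comap_includeRight_comap R₁ p₁ _ (hover Q hQ2),
      Isol.comap_includeRight R₁ p₁ H (hover Q hQ2) hI⟩, ?_⟩
    intro hgq
    have hgq' : g Q = q := hgq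
    have := eq_of_comap_includeRight_eq R₁ p₁ H (Q.comap π) 𝔓 (hover Q hQ2) h𝔓
      (hgq'.trans h𝔓q.symm)
    apply hε𝔓
    rw [← this]
    exact hεmem Q
  · rintro Q ⟨hQ1, hQ2, hQ3⟩ Q' ⟨hQ1', hQ2', hQ3'⟩ hgg
    haveI := hQ1
    haveI := hQ1'
    have := eq_of_comap_includeRight_eq R₁ p₁ H (Q.comap π) (Q'.comap π) (hover Q hQ2)
      (hover Q' hQ2') hgg
    rw [← Ideal.map_comap_of_surjective π hπs Q, this, Ideal.map_comap_of_surjective π hπs Q']

end measure

section existence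

theorem exists_isQSol_aux (n : ℕ) : ∀ (R S : Type u) [CommRing R] [CommRing S] [Algebra R S]
    [Algebra.FiniteType R S] (p : Ideal R) [p.IsPrime],
    (isolSet R S p).ncard ≤ n →
    ∃ (R' : Type u) (_ : CommRing R') (_ : Algebra R R') (_ : Algebra.Etale R R') (p' : Ideal R')
      (_ : p'.IsPrime) (_ : p'.LiesOver p) (ι : Type) (_ : Fintype ι) (e : ι → R' ⊗[R] S),
      Function.Bijective (Ideal.ResidueField.mapₐ p p' (Algebra.ofId _ _) (p'.over_def p)) ∧
      IsQSol p' e := by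
  induction n using Nat.strong_induction_on with
  | _ n ih =>
  intro R S _ _ _ _ p _ hn
  by_cases hne : (isolSet R S p).Nonempty
  · obtain ⟨q, hqmem⟩ := hne
    obtain ⟨hq1, hq2, hq3⟩ := hqmem
    haveI := hq1
    haveI : q.LiesOver p := ⟨hq2.symm⟩
    haveI : Algebra.QuasiFiniteAt R q := (quasiFiniteAt_iff_isol p q hq2).mpr hq3
    obtain ⟨R₁, _, _, _, p₁, _, _, ε, hε, 𝔓, _, _, h𝔓q, hε𝔓, H₁, hfinA, huniq⟩ :=
      Algebra.exists_etale_isIdempotentElem_forall_liesOver_eq p q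
    let M₁ := R₁ ⊗[R] S
    let S₁ := M₁ ⧸ Ideal.span {ε}
    haveI : Algebra.FiniteType R₁ S₁ :=
      Algebra.FiniteType.of_surjective (Ideal.Quotient.mkₐ R₁ (Ideal.span {ε}))
        (Ideal.Quotient.mkₐ_surjective R₁ _)
    have hlt : (isolSet R₁ S₁ p₁).ncard < (isolSet R S p).ncard :=
      ncard_isolSet_quotient_lt p p₁ H₁ q ⟨hq1, hq2, hq3⟩ ε hε 𝔓 (𝔓.over_def p₁).symm h𝔓q hε𝔓
    obtain ⟨R₂, _, _, _, p₂, _, _, ι, _, e, H₂, he⟩ :=
      ih _ (lt_of_lt_of_le hlt hn) R₁ S₁ p₁ le_rfl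
    letI : Algebra R R₂ := ((algebraMap R₁ R₂).comp (algebraMap R R₁)).toAlgebra
    haveI : IsScalarTower R R₁ R₂ := .of_algebraMap_eq' rfl
    haveI : Algebra.Etale R R₂ := Algebra.Etale.comp R R₁ R₂
    haveI : p₂.LiesOver p := Ideal.LiesOver.trans p₂ p₁ p
    let ε₂ : R₂ ⊗[R] S := Algebra.TensorProduct.rTensor S (Algebra.ofId R₁ R₂) ε
    let τ : R₂ ⊗[R₁] S₁ ≃ₐ[R₂] (R₂ ⊗[R] S) ⧸ Ideal.span {ε₂} :=
      Algebra.tensorQuotientTensorEquiv R₂ ε
    have he' := he.map τ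
    have hpre : IsQPre p₁ (fun _ : Unit => ε) :=
      { ortho := ⟨fun _ => hε, fun i j hij => absurd (Subsingleton.elim i j) hij⟩
        fin := fun _ => fin_of_finite_away ε hε
        prime := fun _ => ⟨𝔓, inferInstance, (𝔓.over_def p₁).symm, hε𝔓⟩
        uniq := fun _ 𝔔 𝔔' h1 h1' h2 h2' h3 h3' => by
          rw [huniq 𝔔 h1 ⟨h2.symm⟩ h3, huniq 𝔔' h1' ⟨h2'.symm⟩ h3'] }
    have hpre₂ := (hpre.baseChange R₂ p₂ H₂ (p₂.over_def p₁).symm).map
      (Algebra.TensorProduct.cancelBaseChange R R₁ R₂ R₂ S)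
    simp only [cancelBaseChange_one_tmul] at hpre₂
    obtain ⟨e', he''⟩ := IsQSol.extend ε₂ (hε.map _) (hpre₂.fin ()) (hpre₂.prime ())
      (hpre₂.uniq ()) he'
    have H : Function.Bijective
        (Ideal.ResidueField.mapₐ p p₂ (Algebra.ofId _ _) (p₂.over_def p)) := by
      convert H₂.comp H₁
      rw [← @AlgHom.coe_restrictScalars' R R₁, ← AlgHom.coe_comp]
      congr 1
      ext
    exact ⟨R₂, inferInstance, inferInstance, inferInstance, p₂, inferInstance, inferInstance,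
      Option ι, inferInstance, e', H, he''⟩
  · have H : Function.Bijective
        (Ideal.ResidueField.mapₐ p p (Algebra.ofId R R) ((⟨rfl⟩ : p.LiesOver p).over)) := by
      rw! [Algebra.ofId_self, Ideal.ResidueField.mapₐ_id]
      exact Function.bijective_id
    haveI hpp : p.LiesOver p := ⟨rfl⟩
    refine ⟨R, inferInstance, inferInstance, inferInstance, p, inferInstance, hpp, Empty,
      inferInstance, Empty.elim, H, ⟨⟨⟨fun i => i.elim, fun i => i.elim⟩, fun i => i.elim,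
      fun i => i.elim, fun i => i.elim⟩, ?_⟩⟩
    intro 𝔔 h1 h2 h3
    exfalso
    apply hne
    haveI := h1
    exact ⟨𝔔.comap (Algebra.TensorProduct.includeRight : S →ₐ[R] R ⊗[R] S).toRingHom,
      inferInstance, comap_includeRight_comap R p 𝔔 h2,
      Isol.comap_includeRight R p H h2 h3⟩

end existence

section product

lemma IsQSol.reindex {R' M : Type*} [CommRing R'] [CommRing M] [Algebra R' M] {p' : Ideal R'}
    {ι κ : Type*} {e : ι → M} (h : IsQSol p' e) (σ : κ ≃ ι) :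
    IsQSol p' (fun k => e (σ k)) where
  ortho := ⟨fun k => h.ortho.idem _, fun i j hij => h.ortho.ortho (fun h' => hij (σ.injective h'))⟩
  fin k := h.fin _
  prime k := h.prime _
  uniq k := h.uniq _
  cover 𝔔 h1 h2 h3 := by
    obtain ⟨i, hi⟩ := h.cover 𝔔 h1 h2 h3
    exact ⟨σ.symm i, by simpa using hi⟩

lemma finite_quot_of_fin {R' M : Type*} [CommRing R'] [CommRing M] [Algebra R' M] (ε : M)
    (hfin : ∃ s : Finset M, ∀ x : M,
      ε * x ∈ Submodule.span R' ((fun y => ε * y) '' (s : Set M))) :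
    Module.Finite R' (M ⧸ Ideal.span {1 - ε}) := by
  classical
  obtain ⟨s, hs⟩ := hfin
  let π₁ : M →ₗ[R'] M ⧸ Ideal.span {1 - ε} := (Ideal.Quotient.mkₐ R' (Ideal.span {1 - ε})).toLinearMap
  have hπε : ∀ x, π₁ (ε * x) = π₁ x := by
    intro x
    show Ideal.Quotient.mk _ (ε * x) = Ideal.Quotient.mk _ x
    rw [Ideal.Quotient.eq, Ideal.mem_span_singleton']
    exact ⟨-x, by ring⟩
  refine ⟨⟨s.image π₁, ?_⟩⟩
  rw [eq_top_iff]
  rintro y -
  obtain ⟨x, rfl⟩ := Ideal.Quotient.mk_surjective y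
  have h1 : π₁ (ε * x) ∈ Submodule.map π₁
      (Submodule.span R' ((fun y => ε * y) '' (s : Set M))) := ⟨_, hs x, rfl⟩
  rw [Submodule.map_span, hπε] at h1
  refine Submodule.span_mono ?_ h1
  rintro _ ⟨_, ⟨y, hy, rfl⟩, rfl⟩
  simp only [Finset.coe_image]
  exact ⟨y, hy, (hπε y).symm⟩

lemma existsUnique_prime_quot {R' M : Type*} [CommRing R'] [CommRing M] [Algebra R' M]
    (p' : Ideal R') (ε : M) (hε : IsIdempotentElem ε)
    (hp : ∃ 𝔓 : Ideal M, 𝔓.IsPrime ∧ 𝔓.comap (algebraMap R' M) = p' ∧ ε ∉ 𝔓)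
    (hu : ∀ (𝔓 𝔓' : Ideal M), 𝔓.IsPrime → 𝔓'.IsPrime → 𝔓.comap (algebraMap R' M) = p' →
      𝔓'.comap (algebraMap R' M) = p' → ε ∉ 𝔓 → ε ∉ 𝔓' → 𝔓 = 𝔓') :
    ∃! r : Ideal (M ⧸ Ideal.span {1 - ε}),
      r.IsPrime ∧ r.comap (algebraMap R' (M ⧸ Ideal.span {1 - ε})) = p' := by
  obtain ⟨𝔓, h1, h2, h3⟩ := hp
  have hπs : Function.Surjective (Ideal.Quotient.mk (Ideal.span {1 - ε})) :=
    Ideal.Quotient.mk_surjective
  have h1ε : 1 - ε ∈ 𝔓 := by
    have : ε * (1 - ε) ∈ 𝔓 := by rw [mul_sub, mul_one, hε.eq, sub_self]; exact zero_mem _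
    exact (h1.mem_or_mem this).resolve_left h3
  obtain ⟨hP1, hP2⟩ := quot_desc (1 - ε) 𝔓 h1 h1ε
  have hcomap : ∀ r : Ideal (M ⧸ Ideal.span {1 - ε}),
      (r.comap (Ideal.Quotient.mk (Ideal.span {1 - ε}))).comap (algebraMap R' M) =
        r.comap (algebraMap R' (M ⧸ Ideal.span {1 - ε})) := by
    intro r
    rw [Ideal.comap_comap]
    rfl
  refine ⟨𝔓.map (Ideal.Quotient.mk (Ideal.span {1 - ε})), ⟨hP1, ?_⟩, ?_⟩
  · rw [← hcomap, hP2, h2]
  · rintro r ⟨hr1, hr2⟩
    haveI := hr1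
    have hεr : ε ∉ r.comap (Ideal.Quotient.mk (Ideal.span {1 - ε})) := by
      intro hmem
      rw [Ideal.mem_comap] at hmem
      have h4 : Ideal.Quotient.mk (Ideal.span {1 - ε}) ε = 1 := by
        rw [← map_one (Ideal.Quotient.mk (Ideal.span {1 - ε})), Ideal.Quotient.eq,
          Ideal.mem_span_singleton']
        exact ⟨-1, by ring⟩
      rw [h4] at hmem
      exact hr1.ne_top ((Ideal.eq_top_iff_one _).mpr hmem)
    have := hu _ _ inferInstance h1 (by rw [hcomap, hr2]) h2 hεr h3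
    rw [← Ideal.map_comap_of_surjective _ hπs r, this]

/-- from the idempotent form to the product form. -/
theorem IsQSol.exists_prod {R' M : Type u} [CommRing R'] [CommRing M] [Algebra R' M]
    [Algebra.FiniteType R' M] {p' : Ideal R'}
    {ι : Type} [Fintype ι] {e : ι → M} (he : IsQSol p' e) :
    ∃ (n : ℕ) (A : Fin n → Type u) (_ : ∀ i, CommRing (A i))
      (_ : ∀ i, Algebra R' (A i)) (B : Type u) (_ : CommRing B) (_ : Algebra R' B),
      Nonempty (M ≃ₐ[R'] ((∀ i, A i) × B)) ∧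
        (∀ i, Module.Finite R' (A i) ∧
          ∃! r : Ideal (A i), r.IsPrime ∧ r.comap (algebraMap R' (A i)) = p') ∧
        ∀ (q : Ideal B) [q.IsPrime], q.comap (algebraMap R' B) = p' →
          ¬ Algebra.QuasiFiniteAt R' q := by
  classical
  let n := Fintype.card ι
  let σ : Fin n ≃ ι := (Fintype.equivFin ι).symm
  have he' := he.reindex σ
  set s := ∑ i, e (σ i) with hs
  have hes : ∀ i, e (σ i) * s = e (σ i) := by
    intro i
    rw [hs, Finset.mul_sum, Finset.sum_eq_single i, (he'.ortho.idem i).eq]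
    · intro j _ hji
      exact he'.ortho.ortho hji.symm
    · intro h
      exact absurd (Finset.mem_univ i) h
  have hss : IsIdempotentElem s := by
    show s * s = s
    conv_lhs => rw [hs, Finset.sum_mul]
    exact Finset.sum_congr rfl fun i _ => hes i
  refine ⟨n, fun i => M ⧸ Ideal.span {1 - e (σ i)}, fun i => inferInstance, fun i => inferInstance,
    M ⧸ Ideal.span {s}, inferInstance, inferInstance,
    ⟨AlgEquiv.ofBijective _ (bijective_prod_of_orthogonalIdempotents _ he'.ortho)⟩, ?_, ?_⟩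
  · intro i
    exact ⟨finite_quot_of_fin _ (he'.fin i),
      existsUnique_prime_quot p' _ (he'.ortho.idem i) (he'.prime i) (he'.uniq i)⟩
  · intro q hq hqp hqf
    haveI : Algebra.FiniteType R' (M ⧸ Ideal.span {s}) :=
      Algebra.FiniteType.of_surjective (Ideal.Quotient.mkₐ R' (Ideal.span {s}))
        (Ideal.Quotient.mkₐ_surjective R' _)
    have hI : Isol p' q := (quasiFiniteAt_iff_isol p' q hqp).mp hqf
    have hI' := isol_comap_quot s p' hss q hI
    obtain ⟨i, hi⟩ := he'.cover (q.comap (Ideal.Quotient.mk (Ideal.span {s})))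
      inferInstance (by rw [Ideal.comap_comap]; exact hqp) hI'
    apply hi
    rw [Ideal.mem_comap, ← hes i, map_mul,
      Ideal.Quotient.eq_zero_iff_mem.mpr (Ideal.mem_span_singleton_self _), mul_zero]
    exact zero_mem _

end product

end Groth.Agent.Lib.Helper35.QFRing
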