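import Groth.Agent.Lib.Helper35.RegSlice2
import Groth.Agent.S0387

set_option autoImplicit false
set_option linter.style.haveILetI false
set_option maxHeartbeats 800000
universe u

namespace Groth.Agent.Lib.Helper35.RegSlice3

open TensorProduct
open scoped Pointwise
open Groth.Agent.Lib.Helper54
open Groth.Agent.Lib.Helper35.RegSlice1
open Groth.Agent.Lib.Helper35.RegSlice2

theorem finitePresentation_quotSMulTop {B : Type*} [CommRing B] (g : B) :
    Module.FinitePresentation B (QuotSMulTop g B) := by
  refine Module.finitePresentation_of_surjective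
    (Submodule.mkQ (g • (⊤ : Submodule B B))) (Submodule.mkQ_surjective _) ?_
  rw [Submodule.ker_mkQ, smul_top_eq_span]
  exact Submodule.fg_span_singleton g

/-- **Slicing lemma (ring level).** `A → B` finitely presented, `q` a prime of `B` at which `B` is
flat over `A`, `g ∈ B` regular on the fibre local ring at `q`. Then there is `w ∉ q` such that on
`B_w`, `g` is a nonzerodivisor and `B_w/(g)` is flat over `A`. -/
theorem exists_slice {A B : Type u} [CommRing A] [CommRing B] [Algebra A B]
    [Algebra.FinitePresentation A B] (q : Ideal B) [q.IsPrime] (g : B)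
    (K : Type u) [Field K] [Algebra A K]
    (hK : ∀ a : A, algebraMap A K a = 0 ↔ algebraMap A B a ∈ q)
    (hflat : Module.Flat A (LocalizedModule q.primeCompl B))
    (hfib : ∀ z : B ⊗[A] K, g • z = 0 → ∃ w, w ∉ q ∧ w • z = 0) :
    ∃ w : B, w ∉ q ∧ ∀ (B' : Type u) [CommRing B'] [Algebra B B'] [Algebra A B']
      [IsScalarTower A B B'] [IsLocalization.Away w B'],
      algebraMap B B' g ∈ nonZeroDivisors B' ∧
        Module.Flat A (B' ⧸ Ideal.span {algebraMap B B' g}) := by
  classical
  obtain ⟨hker, hflQ⟩ := RegFibre5.core B q g K hK hflat hfib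
  haveI := finitePresentation_quotSMulTop g
  have hopen := Groth.Agent.S0387.result (R := A) (S := B) (M := QuotSMulTop g B)
  have hqΩ : (⟨q, inferInstance⟩ : PrimeSpectrum B) ∈ {P : PrimeSpectrum B |
      Module.Flat A (LocalizedModule P.asIdeal.primeCompl (QuotSMulTop g B))} := hflQ
  obtain ⟨_, ⟨w₁, rfl⟩, hw₁q, hsub⟩ :=
    PrimeSpectrum.isTopologicalBasis_basic_opens.exists_subset_of_mem_open hqΩ hopen
  have hw₁q' : w₁ ∉ q := hw₁q
  have hΩ : ∀ P : PrimeSpectrum B, w₁ ∉ P.asIdeal →
      Module.Flat A (LocalizedModule P.asIdeal.primeCompl (QuotSMulTop g B)) :=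
    fun P hP => hsub hP
  -- the first localization
  haveI : Algebra.FinitePresentation A (Localization.Away w₁) :=
    Algebra.FinitePresentation.trans A B (Localization.Away w₁)
  have hfl₁ := flat_quot_of_forall (A := A) g w₁ hΩ (Localization.Away w₁)
  obtain ⟨s, hs1, hs2⟩ := ann_fg (A := A) (algebraMap B (Localization.Away w₁) g) hfl₁
  -- each generator is killed by an element outside `q`
  have hkill : ∀ k ∈ s, ∃ u : B, u ∉ q ∧ algebraMap B (Localization.Away w₁) u * k = 0 := by
    intro k hk
    obtain ⟨⟨b, t⟩, hbt⟩ := IsLocalization.surj (Submonoid.powers w₁) k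
    simp only at hbt
    have hunit : IsUnit (algebraMap B (Localization.Away w₁) t.1) :=
      IsLocalization.map_units _ t
    have h1 : algebraMap B (Localization.Away w₁) (g * b) = 0 := by
      rw [map_mul, ← hbt, ← mul_assoc, hs1 k hk, zero_mul]
    rw [IsLocalization.map_eq_zero_iff (Submonoid.powers w₁)] at h1
    obtain ⟨⟨_, m, rfl⟩, hm⟩ := h1
    simp only at hm
    have h2 : g • (w₁ ^ m * b) = 0 := by
      rw [smul_eq_mul, ← hm]; ring
    obtain ⟨u, huq, hu⟩ := hker _ h2
    refine ⟨u, huq, ?_⟩
    have h3 : algebraMap B (Localization.Away w₁) u * k * algebraMap B (Localization.Away w₁) t.1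
        * algebraMap B (Localization.Away w₁) (w₁ ^ m) = 0 := by
      rw [mul_assoc (algebraMap B (Localization.Away w₁) u), hbt, ← map_mul, ← map_mul]
      rw [smul_eq_mul] at hu
      rw [show u * b * w₁ ^ m = u * (w₁ ^ m * b) by ring, hu, map_zero]
    have hunit2 : IsUnit (algebraMap B (Localization.Away w₁) (w₁ ^ m)) :=
      IsLocalization.map_units _ (⟨w₁ ^ m, m, rfl⟩ : Submonoid.powers w₁)
    exact (hunit.mul_left_eq_zero).1 ((hunit2.mul_left_eq_zero).1 h3)
  choose! u hu1 hu2 using hkill
  obtain ⟨U, hU⟩ : ∃ U : B, U = ∏ k ∈ s, u k := ⟨_, rfl⟩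
  have hUq : U ∉ q := by
    rw [hU]
    exact Submonoid.prod_mem q.primeCompl (fun k hk => hu1 k hk)
  have hUs : ∀ k ∈ s, algebraMap B (Localization.Away w₁) U * k = 0 := by
    intro k hk
    obtain ⟨c, hc⟩ := Finset.dvd_prod_of_mem u hk
    rw [hU, hc, mul_comm (u k) c, map_mul, mul_assoc, hu2 k hk, mul_zero]
  have hUann : ∀ b₁ : Localization.Away w₁,
      algebraMap B (Localization.Away w₁) g * b₁ = 0 →
      algebraMap B (Localization.Away w₁) U * b₁ = 0 := by
    intro b₁ hb₁
    have hle : Ideal.span (s : Set (Localization.Away w₁)) ≤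
        LinearMap.ker (LinearMap.lsmul (Localization.Away w₁) (Localization.Away w₁)
          (algebraMap B (Localization.Away w₁) U)) := by
      rw [Ideal.span_le]
      intro k hk
      exact hUs k hk
    exact hle (hs2 b₁ hb₁)
  refine ⟨w₁ * U, fun h => (Ideal.IsPrime.mem_or_mem inferInstance h).elim hw₁q' hUq, ?_⟩
  intro B' _ _ _ _ _
  constructor
  · apply mem_nonZeroDivisors_of_kills (w₁ * U) g
    intro b hb
    have h1 : algebraMap B (Localization.Away w₁) U * algebraMap B (Localization.Away w₁) b = 0 := by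
      apply hUann
      rw [← map_mul, hb, map_zero]
    rw [← map_mul, IsLocalization.map_eq_zero_iff (Submonoid.powers w₁)] at h1
    obtain ⟨⟨_, m, rfl⟩, hm⟩ := h1
    simp only at hm
    refine ⟨m + 1, ?_⟩
    calc (w₁ * U) ^ (m + 1) * b = (w₁ * U ^ m) * (w₁ ^ m * (U * b)) := by ring
      _ = 0 := by rw [hm, mul_zero]
  · apply flat_quot_of_forall (A := A) g (w₁ * U) _ B'
    intro P hP
    apply hΩ
    intro hw
    exact hP (Ideal.mul_mem_right _ _ hw)

end Groth.Agent.Lib.Helper35.RegSlice3
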