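import Groth.Agent.Lib.Helper35.RegSlice3
import Mathlib.RingTheory.Localization.BaseChange
import Mathlib.RingTheory.RingHom.Flat

set_option autoImplicit false
set_option linter.style.haveILetI false
set_option maxHeartbeats 800000
universe u

namespace Groth.Agent.Lib.Helper35.RegSlice4

open TensorProduct
open scoped Pointwise
open Groth.Agent.Lib.Helper35.RegSlice3

/-- **Slicing lemma, stalk form.** -/
theorem exists_slice_stalk {A B : Type u} [CommRing A] [CommRing B] [Algebra A B]
    [Algebra.FinitePresentation A B]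
    (p : Ideal A) [p.IsPrime] (q : Ideal B) [q.IsPrime] [q.LiesOver p]
    (Ap : Type u) [CommRing Ap] [IsLocalRing Ap] [Algebra A Ap] [IsLocalization.AtPrime Ap p]
    (Bq : Type u) [CommRing Bq] [Algebra B Bq] [IsLocalization.AtPrime Bq q]
    (σ : Ap →+* Bq) (hσ : σ.comp (algebraMap A Ap) = (algebraMap B Bq).comp (algebraMap A B))
    (hflat : σ.Flat) (g : B)
    (hreg : Ideal.Quotient.mk ((IsLocalRing.maximalIdeal Ap).map σ) (algebraMap B Bq g) ∈
      nonZeroDivisors (Bq ⧸ (IsLocalRing.maximalIdeal Ap).map σ)) :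
    ∃ w : B, w ∉ q ∧ ∀ (B' : Type u) [CommRing B'] [Algebra B B'] [Algebra A B']
      [IsScalarTower A B B'] [IsLocalization.Away w B'],
      algebraMap B B' g ∈ nonZeroDivisors B' ∧
        Module.Flat A (B' ⧸ Ideal.span {algebraMap B B' g}) := by
  classical
  letI algApBq : Algebra Ap Bq := σ.toAlgebra
  letI algABq : Algebra A Bq := ((algebraMap B Bq).comp (algebraMap A B)).toAlgebra
  haveI : IsScalarTower A B Bq := IsScalarTower.of_algebraMap_eq (fun _ => rfl)
  haveI : IsScalarTower A Ap Bq :=
    IsScalarTower.of_algebraMap_eq (fun a => (congr($hσ a)).symm)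
  let K := IsLocalRing.ResidueField Ap
  have hK : ∀ a : A, algebraMap A K a = 0 ↔ algebraMap A B a ∈ q := by
    intro a
    rw [IsScalarTower.algebraMap_apply A Ap K, IsLocalRing.ResidueField.algebraMap_eq,
      IsLocalRing.residue_eq_zero_iff, IsLocalization.AtPrime.to_map_mem_maximal_iff Ap p,
      Ideal.LiesOver.over (p := p) (P := q), Ideal.mem_comap]
  have hflat' : Module.Flat A (LocalizedModule q.primeCompl B) := by
    haveI : Module.Flat Ap Bq := hflat
    haveI : Module.Flat A Ap := IsLocalization.flat Ap p.primeCompl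
    haveI : Module.Flat A Bq := Module.Flat.trans A Ap Bq
    exact Module.Flat.of_linearEquiv
      ((IsLocalizedModule.iso q.primeCompl (Algebra.linearMap B Bq)).restrictScalars A)
  refine exists_slice q g K hK hflat' ?_
  intro z hz
  let ℓ : B →ₗ[B] Bq := Algebra.linearMap B Bq
  let L : B ⊗[A] K →ₗ[B] Bq ⊗[A] K := AlgebraTensorModule.rTensor A K ℓ
  haveI : IsLocalizedModule q.primeCompl L := inferInstance
  suffices ht : L z = 0 by
    obtain ⟨w, hw⟩ := (IsLocalizedModule.eq_zero_iff q.primeCompl L).1 ht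
    exact ⟨w.1, w.2, hw⟩
  haveI : TensorProduct.CompatibleSMul A Ap Bq K :=
    IsLocalization.tensorProduct_compatibleSMul p.primeCompl Ap Bq K
  -- the comparison with the fibre local ring
  let κ : K →+* Bq ⧸ (IsLocalRing.maximalIdeal Ap).map σ :=
    Ideal.Quotient.lift (IsLocalRing.maximalIdeal Ap)
      ((Ideal.Quotient.mk ((IsLocalRing.maximalIdeal Ap).map σ)).comp σ)
      (fun a ha => Ideal.Quotient.eq_zero_iff_mem.2 (Ideal.mem_map_of_mem σ ha))
  have hκ : ∀ a : Ap, κ (IsLocalRing.residue Ap a) =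
      Ideal.Quotient.mk ((IsLocalRing.maximalIdeal Ap).map σ) (σ a) := fun a => rfl
  have hsm : ∀ (a : A) (k : K), a • k = IsLocalRing.residue Ap (algebraMap A Ap a) * k := by
    intro a k
    rw [Algebra.smul_def, IsScalarTower.algebraMap_apply A Ap K,
      IsLocalRing.ResidueField.algebraMap_eq]
  have hsmB : ∀ (a : A) (y : Bq), a • y = σ (algebraMap A Ap a) * y := by
    intro a y
    rw [Algebra.smul_def, IsScalarTower.algebraMap_apply A Ap Bq]
    rfl
  let τ : Bq ⊗[A] K →+ Bq ⧸ (IsLocalRing.maximalIdeal Ap).map σ :=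
    TensorProduct.liftAddHom
      { toFun := fun y =>
          { toFun := fun k => Ideal.Quotient.mk _ y * κ k
            map_zero' := by simp
            map_add' := fun a b => by rw [map_add, mul_add] }
        map_zero' := by ext k; simp
        map_add' := fun y y' => by ext k; simp [add_mul] }
      (by
        intro a y k
        show Ideal.Quotient.mk _ (a • y) * κ k = Ideal.Quotient.mk _ y * κ (a • k)
        rw [hsm, hsmB, map_mul, map_mul, hκ]
        ring)
  have hτ : ∀ (y : Bq) (k : K), τ (y ⊗ₜ[A] k) = Ideal.Quotient.mk _ y * κ k := fun y k => rfl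
  let μ : Bq →ₗ[Bq] Bq ⊗[A] K :=
    { toFun := fun y => y ⊗ₜ[A] (1 : K)
      map_add' := fun y y' => TensorProduct.add_tmul _ _ _
      map_smul' := fun c y => by simp [TensorProduct.smul_tmul'] }
  have hμ : ∀ y, μ y = y ⊗ₜ[A] (1 : K) := fun y => rfl
  have hμI : ((IsLocalRing.maximalIdeal Ap).map σ : Submodule Bq Bq) ≤ LinearMap.ker μ := by
    rw [Ideal.map, Ideal.span_le]
    rintro _ ⟨a, ha, rfl⟩
    show μ (σ a) = 0
    have h1 : σ a = a • (1 : Bq) := by
      rw [Algebra.smul_def, mul_one]; rfl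
    rw [hμ, h1, TensorProduct.smul_tmul]
    have h2 : a • (1 : K) = 0 := by
      rw [Algebra.smul_def, mul_one, IsLocalRing.ResidueField.algebraMap_eq,
        IsLocalRing.residue_eq_zero_iff]
      exact ha
    rw [h2, TensorProduct.tmul_zero]
  let ν : (Bq ⧸ (IsLocalRing.maximalIdeal Ap).map σ) →ₗ[Bq] Bq ⊗[A] K :=
    Submodule.liftQ _ μ hμI
  have hν : ∀ y : Bq, ν (Ideal.Quotient.mk _ y) = y ⊗ₜ[A] (1 : K) := fun y => rfl
  have hντ : ∀ t : Bq ⊗[A] K, ν (τ t) = t := by
    intro t
    induction t with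
    | zero => simp
    | add x y hx hy => rw [map_add, map_add, hx, hy]
    | tmul y k =>
      obtain ⟨a, rfl⟩ := IsLocalRing.residue_surjective k
      rw [hτ, hκ, ← map_mul, hν]
      have h1 : y * σ a = a • y := by
        rw [Algebra.smul_def, mul_comm]; rfl
      have h2 : a • (1 : K) = IsLocalRing.residue Ap a := by
        rw [Algebra.smul_def, mul_one, IsLocalRing.ResidueField.algebraMap_eq]
      rw [h1, TensorProduct.smul_tmul, h2]
  have hτg : ∀ t : Bq ⊗[A] K, τ (g • t) = Ideal.Quotient.mk _ (algebraMap B Bq g) * τ t := by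
    intro t
    induction t with
    | zero => simp
    | add x y hx hy => rw [smul_add, map_add, map_add, hx, hy, mul_add]
    | tmul y k =>
      rw [TensorProduct.smul_tmul', hτ, hτ, Algebra.smul_def, map_mul, mul_assoc]
  have h1 : τ (g • L z) = 0 := by
    rw [← map_smul, hz, map_zero, map_zero]
  rw [hτg] at h1
  have h2 : τ (L z) = 0 := by
    rw [mem_nonZeroDivisors_iff] at hreg
    exact hreg.1 _ h1
  rw [← hντ (L z), h2, map_zero]

end Groth.Agent.Lib.Helper35.RegSlice4
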