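import Groth.Agent.Lib.Helper35.RegSlice4
import Mathlib.RingTheory.Regular.RegularSequence
import Mathlib.RingTheory.Ideal.Quotient.Operations

set_option autoImplicit false
set_option linter.style.haveILetI false
set_option maxHeartbeats 800000
universe u

namespace Groth.Agent.Lib.Helper35.RegSlice7

open TensorProduct
open scoped Pointwise
open Groth.Agent.Lib.Helper54
open Groth.Agent.Lib.Helper35.RegSlice1
open Groth.Agent.Lib.Helper35.RegSlice2
open Groth.Agent.Lib.Helper35.RegSlice3

/-- **Slicing lemma (ring level), intrinsic form.** -/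
theorem exists_slice_intrinsic {A B : Type u} [CommRing A] [CommRing B] [Algebra A B]
    [Algebra.FinitePresentation A B] (q : Ideal B) [q.IsPrime] (g : B)
    (K : Type u) [Field K] [Algebra A K]
    (hK : ∀ a : A, algebraMap A K a = 0 ↔ algebraMap A B a ∈ q)
    (hflat : Module.Flat A (LocalizedModule q.primeCompl B))
    (hfib : ∀ z : B ⊗[A] K, g • z = 0 → ∃ w, w ∉ q ∧ w • z = 0) :
    ∃ w : B, w ∉ q ∧ (∀ b : B, g * b = 0 → ∃ n : ℕ, w ^ n * b = 0) ∧
      ∀ P : PrimeSpectrum B, w ∉ P.asIdeal →
        Module.Flat A (LocalizedModule P.asIdeal.primeCompl (QuotSMulTop g B)) := by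
  classical
  obtain ⟨hker, hflQ⟩ := RegFibre5.core B q g K hK hflat hfib
  haveI := finitePresentation_quotSMulTop g
  have hopen := Groth.Agent.S0387.result (R := A) (S := B) (M := QuotSMulTop g B)
  have hqΩ : (⟨q, inferInstance⟩ : PrimeSpectrum B) ∈ {P : PrimeSpectrum B |
      Module.Flat A (LocalizedModule P.asIdeal.primeCompl (QuotSMulTop g B))} := hflQ
  obtain ⟨_, ⟨w₁, rfl⟩, hw₁q, hsub⟩ :=
    PrimeSpectrum.isTopologicalBasis_basic_opens.exists_subset_of_mem_open hqΩ hopen
  have hw₁q' : w₁ ∉ q := hw₁q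
  have hΩ : ∀ P : PrimeSpectrum B, w₁ ∉ P.asIdeal →
      Module.Flat A (LocalizedModule P.asIdeal.primeCompl (QuotSMulTop g B)) :=
    fun P hP => hsub hP
  -- the first localization
  haveI : Algebra.FinitePresentation A (Localization.Away w₁) :=
    Algebra.FinitePresentation.trans A B (Localization.Away w₁)
  have hfl₁ := flat_quot_of_forall (A := A) g w₁ hΩ (Localization.Away w₁)
  obtain ⟨s, hs1, hs2⟩ := ann_fg (A := A) (algebraMap B (Localization.Away w₁) g) hfl₁
  -- each generator is killed by an element outside `q`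
  have hkill : ∀ k ∈ s, ∃ u : B, u ∉ q ∧ algebraMap B (Localization.Away w₁) u * k = 0 := by
    intro k hk
    obtain ⟨⟨b, t⟩, hbt⟩ := IsLocalization.surj (Submonoid.powers w₁) k
    simp only at hbt
    have hunit : IsUnit (algebraMap B (Localization.Away w₁) t.1) :=
      IsLocalization.map_units _ t
    have h1 : algebraMap B (Localization.Away w₁) (g * b) = 0 := by
      rw [map_mul, ← hbt, ← mul_assoc, hs1 k hk, zero_mul]
    rw [IsLocalization.map_eq_zero_iff (Submonoid.powers w₁)] at h1
    obtain ⟨⟨_, m, rfl⟩, hm⟩ := h1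
    simp only at hm
    have h2 : g • (w₁ ^ m * b) = 0 := by
      rw [smul_eq_mul, ← hm]; ring
    obtain ⟨u, huq, hu⟩ := hker _ h2
    refine ⟨u, huq, ?_⟩
    have h3 : algebraMap B (Localization.Away w₁) u * k * algebraMap B (Localization.Away w₁) t.1
        * algebraMap B (Localization.Away w₁) (w₁ ^ m) = 0 := by
      rw [mul_assoc (algebraMap B (Localization.Away w₁) u), hbt, ← map_mul, ← map_mul]
      rw [smul_eq_mul] at hu
      rw [show u * b * w₁ ^ m = u * (w₁ ^ m * b) by ring, hu, map_zero]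
    have hunit2 : IsUnit (algebraMap B (Localization.Away w₁) (w₁ ^ m)) :=
      IsLocalization.map_units _ (⟨w₁ ^ m, m, rfl⟩ : Submonoid.powers w₁)
    exact (hunit.mul_left_eq_zero).1 ((hunit2.mul_left_eq_zero).1 h3)
  choose! u hu1 hu2 using hkill
  obtain ⟨U, hU⟩ : ∃ U : B, U = ∏ k ∈ s, u k := ⟨_, rfl⟩
  have hUq : U ∉ q := by
    rw [hU]
    exact Submonoid.prod_mem q.primeCompl (fun k hk => hu1 k hk)
  have hUs : ∀ k ∈ s, algebraMap B (Localization.Away w₁) U * k = 0 := by
    intro k hk
    obtain ⟨c, hc⟩ := Finset.dvd_prod_of_mem u hk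
    rw [hU, hc, mul_comm (u k) c, map_mul, mul_assoc, hu2 k hk, mul_zero]
  have hUann : ∀ b₁ : Localization.Away w₁,
      algebraMap B (Localization.Away w₁) g * b₁ = 0 →
      algebraMap B (Localization.Away w₁) U * b₁ = 0 := by
    intro b₁ hb₁
    have hle : Ideal.span (s : Set (Localization.Away w₁)) ≤
        LinearMap.ker (LinearMap.lsmul (Localization.Away w₁) (Localization.Away w₁)
          (algebraMap B (Localization.Away w₁) U)) := by
      rw [Ideal.span_le]
      intro k hk
      exact hUs k hk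
    exact hle (hs2 b₁ hb₁)
  refine ⟨w₁ * U, fun h => (Ideal.IsPrime.mem_or_mem inferInstance h).elim hw₁q' hUq, ?_, ?_⟩
  · intro b hb
    have h1 : algebraMap B (Localization.Away w₁) U * algebraMap B (Localization.Away w₁) b = 0 := by
      apply hUann
      rw [← map_mul, hb, map_zero]
    rw [← map_mul, IsLocalization.map_eq_zero_iff (Submonoid.powers w₁)] at h1
    obtain ⟨⟨_, m, rfl⟩, hm⟩ := h1
    simp only at hm
    refine ⟨m + 1, ?_⟩
    calc (w₁ * U) ^ (m + 1) * b = (w₁ * U ^ m) * (w₁ ^ m * (U * b)) := by ring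
      _ = 0 := by rw [hm, mul_zero]
  · intro P hP
    apply hΩ
    intro hw
    exact hP (Ideal.mul_mem_right _ _ hw)

/-- Flatness of a localization `B_w` from pointwise flatness on `D(w)`. -/
theorem flat_of_forall {A B : Type u} [CommRing A] [CommRing B] [Algebra A B] (w : B)
    (hΩ : ∀ P : PrimeSpectrum B, w ∉ P.asIdeal →
      Module.Flat A (LocalizedModule P.asIdeal.primeCompl B))
    (B' : Type u) [CommRing B'] [Algebra B B'] [Algebra A B'] [IsScalarTower A B B']
    [IsLocalization.Away w B'] :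
    Module.Flat A B' := by
  haveI : IsLocalizedModule (Submonoid.powers w) (Algebra.linearMap B B') :=
    (isLocalizedModule_iff_isLocalization).2 inferInstance
  refine Groth.Agent.Lib.Helper54.FlatOpenA.flat_localized_of_forall_ker B (Submonoid.powers w)
    (Algebra.linearMap B B') ?_
  intro J z hz
  have hrad : w ∈ ((Submodule.span B {z}).annihilator).radical := by
    rw [Ideal.radical_eq_sInf, Ideal.mem_sInf]
    rintro P ⟨hle, hP⟩
    by_contra hw
    haveI := hΩ ⟨P, hP⟩ hw
    obtain ⟨v, hvP, hvz⟩ := Groth.Agent.Lib.Helper54.FlatOpenA.forall_ker_of_flat_localized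
      (N := B) (N' := LocalizedModule P.primeCompl B) B P.primeCompl
      (LocalizedModule.mkLinearMap P.primeCompl B) J z hz
    exact hvP (hle ((Submodule.mem_annihilator_span_singleton _ _).2 hvz))
  obtain ⟨n, hn⟩ := hrad
  exact ⟨w ^ n, ⟨n, rfl⟩, (Submodule.mem_annihilator_span_singleton _ _).1 hn⟩

/-- Openness of flatness of `B` itself near `q`. -/
theorem exists_flat_away {A B : Type u} [CommRing A] [CommRing B] [Algebra A B]
    [Algebra.FinitePresentation A B] (q : Ideal B) [q.IsPrime]
    (hflat : Module.Flat A (LocalizedModule q.primeCompl B)) :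
    ∃ w : B, w ∉ q ∧ ∀ P : PrimeSpectrum B, w ∉ P.asIdeal →
      Module.Flat A (LocalizedModule P.asIdeal.primeCompl B) := by
  have hopen := Groth.Agent.S0387.result (R := A) (S := B) (M := B)
  have hqΩ : (⟨q, inferInstance⟩ : PrimeSpectrum B) ∈ {P : PrimeSpectrum B |
      Module.Flat A (LocalizedModule P.asIdeal.primeCompl B)} := hflat
  obtain ⟨_, ⟨w₁, rfl⟩, hw₁q, hsub⟩ :=
    PrimeSpectrum.isTopologicalBasis_basic_opens.exists_subset_of_mem_open hqΩ hopen
  exact ⟨w₁, hw₁q, fun P hP => hsub hP⟩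

/-- **Slicing lemma, stalk form.** -/
theorem exists_slice_stalk_intrinsic {A B : Type u} [CommRing A] [CommRing B] [Algebra A B]
    [Algebra.FinitePresentation A B]
    (p : Ideal A) [p.IsPrime] (q : Ideal B) [q.IsPrime] [q.LiesOver p]
    (Ap : Type u) [CommRing Ap] [IsLocalRing Ap] [Algebra A Ap] [IsLocalization.AtPrime Ap p]
    (Bq : Type u) [CommRing Bq] [Algebra B Bq] [IsLocalization.AtPrime Bq q]
    (σ : Ap →+* Bq) (hσ : σ.comp (algebraMap A Ap) = (algebraMap B Bq).comp (algebraMap A B))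
    (hflat : σ.Flat) (g : B)
    (hreg : Ideal.Quotient.mk ((IsLocalRing.maximalIdeal Ap).map σ) (algebraMap B Bq g) ∈
      nonZeroDivisors (Bq ⧸ (IsLocalRing.maximalIdeal Ap).map σ)) :
    ∃ w : B, w ∉ q ∧ (∀ b : B, g * b = 0 → ∃ n : ℕ, w ^ n * b = 0) ∧
      ∀ P : PrimeSpectrum B, w ∉ P.asIdeal →
        Module.Flat A (LocalizedModule P.asIdeal.primeCompl (QuotSMulTop g B)) := by
  classical
  letI algApBq : Algebra Ap Bq := σ.toAlgebra
  letI algABq : Algebra A Bq := ((algebraMap B Bq).comp (algebraMap A B)).toAlgebra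
  haveI : IsScalarTower A B Bq := IsScalarTower.of_algebraMap_eq (fun _ => rfl)
  haveI : IsScalarTower A Ap Bq :=
    IsScalarTower.of_algebraMap_eq (fun a => (congr($hσ a)).symm)
  let K := IsLocalRing.ResidueField Ap
  have hK : ∀ a : A, algebraMap A K a = 0 ↔ algebraMap A B a ∈ q := by
    intro a
    rw [IsScalarTower.algebraMap_apply A Ap K, IsLocalRing.ResidueField.algebraMap_eq,
      IsLocalRing.residue_eq_zero_iff, IsLocalization.AtPrime.to_map_mem_maximal_iff Ap p,
      Ideal.LiesOver.over (p := p) (P := q), Ideal.mem_comap]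
  have hflat' : Module.Flat A (LocalizedModule q.primeCompl B) := by
    haveI : Module.Flat Ap Bq := hflat
    haveI : Module.Flat A Ap := IsLocalization.flat Ap p.primeCompl
    haveI : Module.Flat A Bq := Module.Flat.trans A Ap Bq
    exact Module.Flat.of_linearEquiv
      ((IsLocalizedModule.iso q.primeCompl (Algebra.linearMap B Bq)).restrictScalars A)
  refine exists_slice_intrinsic q g K hK hflat' ?_
  intro z hz
  let ℓ : B →ₗ[B] Bq := Algebra.linearMap B Bq
  let L : B ⊗[A] K →ₗ[B] Bq ⊗[A] K := AlgebraTensorModule.rTensor A K ℓ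
  haveI : IsLocalizedModule q.primeCompl L := inferInstance
  suffices ht : L z = 0 by
    obtain ⟨w, hw⟩ := (IsLocalizedModule.eq_zero_iff q.primeCompl L).1 ht
    exact ⟨w.1, w.2, hw⟩
  haveI : TensorProduct.CompatibleSMul A Ap Bq K :=
    IsLocalization.tensorProduct_compatibleSMul p.primeCompl Ap Bq K
  -- the comparison with the fibre local ring
  let κ : K →+* Bq ⧸ (IsLocalRing.maximalIdeal Ap).map σ :=
    Ideal.Quotient.lift (IsLocalRing.maximalIdeal Ap)
      ((Ideal.Quotient.mk ((IsLocalRing.maximalIdeal Ap).map σ)).comp σ)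
      (fun a ha => Ideal.Quotient.eq_zero_iff_mem.2 (Ideal.mem_map_of_mem σ ha))
  have hκ : ∀ a : Ap, κ (IsLocalRing.residue Ap a) =
      Ideal.Quotient.mk ((IsLocalRing.maximalIdeal Ap).map σ) (σ a) := fun a => rfl
  have hsm : ∀ (a : A) (k : K), a • k = IsLocalRing.residue Ap (algebraMap A Ap a) * k := by
    intro a k
    rw [Algebra.smul_def, IsScalarTower.algebraMap_apply A Ap K,
      IsLocalRing.ResidueField.algebraMap_eq]
  have hsmB : ∀ (a : A) (y : Bq), a • y = σ (algebraMap A Ap a) * y := by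
    intro a y
    rw [Algebra.smul_def, IsScalarTower.algebraMap_apply A Ap Bq]
    rfl
  let τ : Bq ⊗[A] K →+ Bq ⧸ (IsLocalRing.maximalIdeal Ap).map σ :=
    TensorProduct.liftAddHom
      { toFun := fun y =>
          { toFun := fun k => Ideal.Quotient.mk _ y * κ k
            map_zero' := by simp
            map_add' := fun a b => by rw [map_add, mul_add] }
        map_zero' := by ext k; simp
        map_add' := fun y y' => by ext k; simp [add_mul] }
      (by
        intro a y k
        show Ideal.Quotient.mk _ (a • y) * κ k = Ideal.Quotient.mk _ y * κ (a • k)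
        rw [hsm, hsmB, map_mul, map_mul, hκ]
        ring)
  have hτ : ∀ (y : Bq) (k : K), τ (y ⊗ₜ[A] k) = Ideal.Quotient.mk _ y * κ k := fun y k => rfl
  let μ : Bq →ₗ[Bq] Bq ⊗[A] K :=
    { toFun := fun y => y ⊗ₜ[A] (1 : K)
      map_add' := fun y y' => TensorProduct.add_tmul _ _ _
      map_smul' := fun c y => by simp [TensorProduct.smul_tmul'] }
  have hμ : ∀ y, μ y = y ⊗ₜ[A] (1 : K) := fun y => rfl
  have hμI : ((IsLocalRing.maximalIdeal Ap).map σ : Submodule Bq Bq) ≤ LinearMap.ker μ := by
    rw [Ideal.map, Ideal.span_le]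
    rintro _ ⟨a, ha, rfl⟩
    show μ (σ a) = 0
    have h1 : σ a = a • (1 : Bq) := by
      rw [Algebra.smul_def, mul_one]; rfl
    rw [hμ, h1, TensorProduct.smul_tmul]
    have h2 : a • (1 : K) = 0 := by
      rw [Algebra.smul_def, mul_one, IsLocalRing.ResidueField.algebraMap_eq,
        IsLocalRing.residue_eq_zero_iff]
      exact ha
    rw [h2, TensorProduct.tmul_zero]
  let ν : (Bq ⧸ (IsLocalRing.maximalIdeal Ap).map σ) →ₗ[Bq] Bq ⊗[A] K :=
    Submodule.liftQ _ μ hμI
  have hν : ∀ y : Bq, ν (Ideal.Quotient.mk _ y) = y ⊗ₜ[A] (1 : K) := fun y => rfl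
  have hντ : ∀ t : Bq ⊗[A] K, ν (τ t) = t := by
    intro t
    induction t with
    | zero => simp
    | add x y hx hy => rw [map_add, map_add, hx, hy]
    | tmul y k =>
      obtain ⟨a, rfl⟩ := IsLocalRing.residue_surjective k
      rw [hτ, hκ, ← map_mul, hν]
      have h1 : y * σ a = a • y := by
        rw [Algebra.smul_def, mul_comm]; rfl
      have h2 : a • (1 : K) = IsLocalRing.residue Ap a := by
        rw [Algebra.smul_def, mul_one, IsLocalRing.ResidueField.algebraMap_eq]
      rw [h1, TensorProduct.smul_tmul, h2]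
  have hτg : ∀ t : Bq ⊗[A] K, τ (g • t) = Ideal.Quotient.mk _ (algebraMap B Bq g) * τ t := by
    intro t
    induction t with
    | zero => simp
    | add x y hx hy => rw [smul_add, map_add, map_add, hx, hy, mul_add]
    | tmul y k =>
      rw [TensorProduct.smul_tmul', hτ, hτ, Algebra.smul_def, map_mul, mul_assoc]
  have h1 : τ (g • L z) = 0 := by
    rw [← map_smul, hz, map_zero, map_zero]
  rw [hτg] at h1
  have h2 : τ (L z) = 0 := by
    rw [mem_nonZeroDivisors_iff] at hreg
    exact hreg.1 _ h1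
  rw [← hντ (L z), h2, map_zero]


end Groth.Agent.Lib.Helper35.RegSlice7
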