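import Mathlib.RingTheory.Smooth.Kaehler
import Mathlib.RingTheory.Smooth.Basic
import Mathlib.RingTheory.LocalRing.ResidueField.Basic
import Mathlib.RingTheory.Nakayama
import Mathlib.LinearAlgebra.TensorProduct.Quotient
import Mathlib.RingTheory.Noetherian.Basic

set_option autoImplicit false
set_option linter.style.haveILetI false
set_option maxHeartbeats 400000

universe u

namespace Groth.Agent.Lib.Helper35.SepCotangent

open IsLocalRing TensorProduct KaehlerDifferential

/-- For a surjection `P → S` of `R`-algebras with `S` formally smooth over `R`,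
`I/I² → S ⊗ Ω[P/R]` is injective. -/
theorem kerCotangentToTensor_injective {R P S : Type u} [CommRing R] [CommRing P] [CommRing S]
    [Algebra R P] [Algebra P S] [Algebra R S] [IsScalarTower R P S]
    (hsurj : Function.Surjective (algebraMap P S)) [Algebra.FormallySmooth R S] :
    Function.Injective (kerCotangentToTensor R P S) := by
  obtain ⟨φ, hφ⟩ : ∃ φ, φ = (IsScalarTower.toAlgHom R P S).kerSquareLift := ⟨_, rfl⟩
  have hφs : Function.Surjective φ := by
    intro z
    obtain ⟨a, rfl⟩ := hsurj z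
    exact ⟨Ideal.Quotient.mk _ a, by rw [hφ]; rfl⟩
  have hφn : IsNilpotent (RingHom.ker φ) := by
    refine ⟨2, ?_⟩
    rw [hφ]
    have := AlgHom.ker_kerSquareLift (IsScalarTower.toAlgHom R P S)
    exact (congrArg (· ^ 2) this).trans (Ideal.cotangentIdeal_square _)
  obtain ⟨g, hg⟩ : ∃ g, g = Algebra.FormallySmooth.liftOfSurjective
      (AlgHom.id R S) φ hφs hφn := ⟨_, rfl⟩
  have hcomp : φ.comp g = AlgHom.id R S := by
    rw [hg]; exact Algebra.FormallySmooth.comp_liftOfSurjective _ _ _ _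
  obtain ⟨l, hl⟩ := (retractionKerCotangentToTensorEquivSection (R := R) (P := P)
    (S := S) hsurj).symm ⟨g, by rw [← hφ]; exact hcomp⟩
  intro a b hab
  have := congrArg l hab
  have h1 := LinearMap.congr_fun hl a
  have h2 := LinearMap.congr_fun hl b
  simp only [LinearMap.coe_comp, Function.comp_apply, LinearMap.id_coe, id_eq] at h1 h2
  rw [← h1, ← h2, this]

/-- `1 ⊗ x = 0` in `κ ⊗ M` iff `x ∈ 𝔪 M`. -/
theorem one_tmul_eq_zero_iff (C : Type u) [CommRing C] [IsLocalRing C] {M : Type u}
    [AddCommGroup M] [Module C M] (x : M) :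
    (1 : ResidueField C) ⊗ₜ[C] x = 0 ↔ x ∈ maximalIdeal C • (⊤ : Submodule C M) := by
  have h1 : TensorProduct.quotTensorEquivQuotSMul M (maximalIdeal C)
      ((1 : C ⧸ maximalIdeal C) ⊗ₜ[C] x) = Submodule.Quotient.mk x :=
    TensorProduct.quotTensorEquivQuotSMul_mk_one_tmul _ x
  constructor
  · intro h
    have h2 : ((1 : C ⧸ maximalIdeal C) ⊗ₜ[C] x) = 0 := h
    rw [h2, map_zero] at h1
    exact (Submodule.Quotient.mk_eq_zero _).mp h1.symm
  · intro h
    have h2 := (Submodule.Quotient.mk_eq_zero _).mpr h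
    rw [← h1] at h2
    exact (TensorProduct.quotTensorEquivQuotSMul M (maximalIdeal C)).injective
      (h2.trans (map_zero _).symm)

/-- **Key ring lemma.** `R → C` local rings, residue field extension formally smooth, the fibre ring
`C/𝔪_R C` Noetherian and not a field. Then some `t ∈ 𝔪_C` has `dt ≠ 0` in `κ ⊗ Ω[C/R]`. -/
theorem exists_mem_tmul_D_ne_zero (R C : Type u) [CommRing R] [CommRing C] [IsLocalRing R]
    [IsLocalRing C] [Algebra R C] [Algebra (ResidueField R) (ResidueField C)]
    (hcompat : ∀ r : R, algebraMap (ResidueField R) (ResidueField C) (residue R r) =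
      residue C (algebraMap R C r))
    [Algebra.FormallySmooth (ResidueField R) (ResidueField C)]
    (hN : IsNoetherianRing (C ⧸ (maximalIdeal R).map (algebraMap R C)))
    (t₀ : C) (ht₀ : t₀ ∈ maximalIdeal C) (ht₀' : t₀ ∉ (maximalIdeal R).map (algebraMap R C)) :
    ∃ t ∈ maximalIdeal C, (1 : ResidueField C) ⊗ₜ[C] D R C t ≠ 0 := by
  obtain ⟨I, hI⟩ : ∃ I : Ideal C, I = (maximalIdeal R).map (algebraMap R C) := ⟨_, rfl⟩
  rw [← hI] at hN ht₀'
  have hIm : I ≤ maximalIdeal C := by
    rw [hI, Ideal.map_le_iff_le_comap]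
    intro r hr
    rw [Ideal.mem_comap, ← residue_eq_zero_iff, ← hcompat, (residue_eq_zero_iff r).mpr hr, map_zero]
  have hIR : ∀ r ∈ maximalIdeal R, algebraMap R (C ⧸ I) r = 0 := by
    intro r hr
    rw [IsScalarTower.algebraMap_apply R C (C ⧸ I), Ideal.Quotient.algebraMap_eq,
      Ideal.Quotient.eq_zero_iff_mem, hI]
    exact Ideal.mem_map_of_mem _ hr
  letI algkF : Algebra (ResidueField R) (C ⧸ I) :=
    (Ideal.Quotient.lift (maximalIdeal R) (algebraMap R (C ⧸ I)) hIR).toAlgebra
  haveI : IsScalarTower R (ResidueField R) (C ⧸ I) := IsScalarTower.of_algebraMap_eq fun _ => rfl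
  letI algFκ : Algebra (C ⧸ I) (ResidueField C) :=
    (Ideal.Quotient.lift I (residue C) fun a ha => (residue_eq_zero_iff a).mpr (hIm ha)).toAlgebra
  haveI : IsScalarTower C (C ⧸ I) (ResidueField C) := IsScalarTower.of_algebraMap_eq fun _ => rfl
  haveI : IsScalarTower (ResidueField R) (C ⧸ I) (ResidueField C) :=
    IsScalarTower.of_algebraMap_eq fun x => by
      obtain ⟨r, rfl⟩ := residue_surjective x
      rw [hcompat]
      rfl
  haveI : SMulCommClass (ResidueField R) C (C ⧸ I) := ⟨fun s a b => by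
    rw [Algebra.smul_def, Algebra.smul_def, Algebra.smul_def, Algebra.smul_def]
    ring⟩
  have hsurj : Function.Surjective (algebraMap (C ⧸ I) (ResidueField C)) := by
    intro z
    obtain ⟨c, rfl⟩ := residue_surjective z
    exact ⟨Ideal.Quotient.mk I c, rfl⟩
  obtain ⟨J, hJ⟩ : ∃ J : Ideal (C ⧸ I), J = RingHom.ker (algebraMap (C ⧸ I) (ResidueField C)) :=
    ⟨_, rfl⟩
  have hJmem : ∀ c : C, Ideal.Quotient.mk I c ∈ J ↔ c ∈ maximalIdeal C := by
    intro c
    rw [hJ, RingHom.mem_ker]
    exact residue_eq_zero_iff c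
  -- Nakayama: `J ≠ J²`
  have hJjac : J ≤ Ideal.jacobson ⊥ := by
    intro a ha
    obtain ⟨c, rfl⟩ := Ideal.Quotient.mk_surjective a
    rw [Ideal.mem_jacobson_bot]
    intro b
    obtain ⟨d, rfl⟩ := Ideal.Quotient.mk_surjective b
    have hc := (hJmem c).mp ha
    have hu : IsUnit (c * d + 1) := by
      by_contra hnu
      have h1 : c * d + 1 ∈ maximalIdeal C := (mem_maximalIdeal _).mpr hnu
      have h2 : c * d ∈ maximalIdeal C := Ideal.mul_mem_right _ _ hc
      have h3 : (1 : C) ∈ maximalIdeal C := by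
        have := Ideal.sub_mem _ h1 h2
        rwa [add_sub_cancel_left] at this
      exact (Ideal.ne_top_iff_one _).mp (maximalIdeal.isMaximal C).ne_top h3
    have := hu.map (Ideal.Quotient.mk I)
    rwa [map_add, map_mul, map_one] at this
  have hJne : ¬ J ≤ J ^ 2 := by
    intro hle
    have hfg : (J : Submodule (C ⧸ I) (C ⧸ I)).FG := (isNoetherianRing_iff_ideal_fg _).mp hN J
    have h0 : J = ⊥ := by
      apply Submodule.eq_bot_of_le_smul_of_le_jacobson_bot J J hfg _ hJjac
      rw [smul_eq_mul, ← pow_two]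
      exact hle
    have h1 : Ideal.Quotient.mk I t₀ ∈ J := (hJmem t₀).mpr ht₀
    rw [h0, Ideal.mem_bot, Ideal.Quotient.eq_zero_iff_mem] at h1
    exact ht₀' h1
  obtain ⟨tb, htb, htb2⟩ := Set.not_subset.mp hJne
  obtain ⟨t, rfl⟩ := Ideal.Quotient.mk_surjective tb
  have htm : t ∈ maximalIdeal C := (hJmem t).mp htb
  refine ⟨t, htm, fun h0 => ?_⟩
  -- transfer to the fibre ring
  have h1 : D R C t ∈ maximalIdeal C • (⊤ : Submodule C Ω[C⁄R]) :=
    (one_tmul_eq_zero_iff C _).mp h0
  have h2 : D (ResidueField R) (C ⧸ I) (Ideal.Quotient.mk I t) ∈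
      maximalIdeal C • (⊤ : Submodule C Ω[(C ⧸ I)⁄(ResidueField R)]) := by
    have h3 := Submodule.mem_map_of_mem (f := KaehlerDifferential.map R (ResidueField R) C (C ⧸ I)) h1
    rw [Submodule.map_smul'', KaehlerDifferential.map_D] at h3
    exact Submodule.smul_mono le_rfl le_top h3
  have h4 : (1 : ResidueField C) ⊗ₜ[C ⧸ I]
      D (ResidueField R) (C ⧸ I) (Ideal.Quotient.mk I t) = 0 := by
    refine Submodule.smul_induction_on h2 (fun a ha ω _ => ?_) (fun x y hx hy => ?_)
    · rw [← IsScalarTower.algebraMap_smul (C ⧸ I) a ω, ← TensorProduct.smul_tmul,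
        Algebra.smul_def, mul_one]
      have : algebraMap (C ⧸ I) (ResidueField C) (algebraMap C (C ⧸ I) a) = 0 :=
        (residue_eq_zero_iff a).mpr ha
      rw [this, TensorProduct.zero_tmul]
    · rw [TensorProduct.tmul_add, hx, hy, add_zero]
  have hmem : Ideal.Quotient.mk I t ∈ RingHom.ker (algebraMap (C ⧸ I) (ResidueField C)) := by
    rw [← hJ]; exact htb
  have h5 : kerCotangentToTensor (ResidueField R) (C ⧸ I) (ResidueField C)
      (Ideal.toCotangent _ ⟨Ideal.Quotient.mk I t, hmem⟩) = 0 := by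
    rw [kerCotangentToTensor_toCotangent]; exact h4
  have h6 := kerCotangentToTensor_injective (R := ResidueField R) hsurj (h5.trans (map_zero _).symm)
  rw [Ideal.toCotangent_eq_zero] at h6
  apply htb2
  rw [hJ]
  exact h6

end Groth.Agent.Lib.Helper35.SepCotangent
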