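import Groth.Agent.Lib.Helper35.SmoothSlice
import Mathlib.RingTheory.Jacobson.Ring
import Mathlib.RingTheory.Unramified.Field
import Mathlib.RingTheory.Unramified.LocalRing
import Mathlib.RingTheory.LocalRing.ResidueField.Ideal
import Mathlib.RingTheory.LocalRing.ResidueField.Fiber
import Mathlib.FieldTheory.Perfect
import Mathlib.RingTheory.SurjectiveOnStalks
import Mathlib.RingTheory.Spectrum.Prime.Chevalley
import Mathlib.RingTheory.Unramified.LocalStructure
import Mathlib.RingTheory.Smooth.Flat
import Mathlib.Algebra.MvPolynomial.Funext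

set_option autoImplicit false
set_option maxHeartbeats 400000
set_option backward.isDefEq.respectTransparency.types false
universe u

namespace Groth.Agent.Lib.Helper35.SepPoint

open IsLocalRing TensorProduct

/-- residue field of a prime with formally unramified quotient. -/
theorem formallyUnramified_residueField_of_quotient {R A : Type u} [CommRing R] [CommRing A]
    [Algebra R A] (Q : Ideal A) [Q.IsPrime] [Algebra.FormallyUnramified R (A ⧸ Q)] :
    Algebra.FormallyUnramified R Q.ResidueField := by
  haveI : Algebra.FormallyUnramified (A ⧸ Q) Q.ResidueField :=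
    Algebra.FormallyUnramified.of_isLocalization (nonZeroDivisors (A ⧸ Q))
  exact Algebra.FormallyUnramified.comp R (A ⧸ Q) Q.ResidueField

/-- perfect case: any maximal ideal works. -/
theorem exists_prime_of_perfect {k F : Type u} [Field k] [PerfectField k] [CommRing F]
    [Algebra k F] [Algebra.FiniteType k F] [Nontrivial F] :
    ∃ (Q : Ideal F) (_ : Q.IsPrime), Algebra.FormallyUnramified k Q.ResidueField := by
  obtain ⟨Q, hQ⟩ := Ideal.exists_maximal F
  letI : Field (F ⧸ Q) := Ideal.Quotient.field Q
  haveI : Algebra.FiniteType k (F ⧸ Q) :=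
    Algebra.FiniteType.of_surjective (Ideal.Quotient.mkₐ k Q) (Ideal.Quotient.mkₐ_surjective k Q)
  haveI : Module.Finite k (F ⧸ Q) := finite_of_finite_type_of_isJacobsonRing k (F ⧸ Q)
  haveI : Algebra.IsSeparable k (F ⧸ Q) := Algebra.IsAlgebraic.isSeparable_of_perfectField
  haveI : Algebra.FormallyUnramified k (F ⧸ Q) := Algebra.FormallyUnramified.of_isSeparable k _
  exact ⟨Q, hQ.isPrime, formallyUnramified_residueField_of_quotient Q⟩

/-- transfer of unramifiedness of the residue field along a map surjective on stalks. -/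
theorem formallyUnramified_residueField_comap {R A A' : Type u} [CommRing R] [CommRing A]
    [CommRing A'] [Algebra R A] [Algebra R A'] (φ : A →ₐ[R] A')
    (hφ : φ.toRingHom.SurjectiveOnStalks) (J : Ideal A') [J.IsPrime]
    [Algebra.FormallyUnramified R J.ResidueField] :
    Algebra.FormallyUnramified R (J.comap φ.toRingHom).ResidueField := by
  have hbij := hφ.residueFieldMap_bijective (J.comap φ.toRingHom) J rfl
  let e : (J.comap φ.toRingHom).ResidueField ≃ₐ[R] J.ResidueField :=
    AlgEquiv.ofBijective (Ideal.ResidueField.mapₐ (J.comap φ.toRingHom) J φ rfl) hbij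
  exact Algebra.FormallyUnramified.of_equiv e.symm

/-- infinite case: a rational point of affine space in the image. -/
theorem exists_prime_of_infinite {k F : Type u} [Field k] [Infinite k] [CommRing F]
    [Algebra k F] [Algebra.Smooth k F] [Nontrivial F] :
    ∃ (Q : Ideal F) (_ : Q.IsPrime), Algebra.FormallyUnramified k Q.ResidueField := by
  classical
  obtain ⟨Q₀, hQ₀⟩ := Ideal.exists_maximal F
  haveI : Q₀.IsPrime := hQ₀.isPrime
  haveI : Algebra.IsSmoothAt k Q₀ := inferInstance
  obtain ⟨f, hf, n, _, _, hstd⟩ :=
    Algebra.IsSmoothAt.exists_isStandardEtale_mvPolynomial (R := k) (p := Q₀)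
  haveI : Algebra.Etale (MvPolynomial (Fin n) k) (Localization.Away f) := inferInstance
  haveI : Module.Flat (MvPolynomial (Fin n) k) (Localization.Away f) := Algebra.Smooth.flat _ _
  have hopen : IsOpenMap (PrimeSpectrum.comap
      (algebraMap (MvPolynomial (Fin n) k) (Localization.Away f))) :=
    PrimeSpectrum.isOpenMap_comap_of_hasGoingDown_of_finitePresentation
  have hdisj : Disjoint (Submonoid.powers f : Set F) ↑Q₀ :=
    (Ideal.disjoint_powers_iff_notMem_of_isPrime _).mpr hf
  let P₀ : PrimeSpectrum (Localization.Away f) := ⟨Q₀.map (algebraMap F (Localization.Away f)),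
    IsLocalization.isPrime_of_isPrime_disjoint (Submonoid.powers f) _ Q₀ inferInstance hdisj⟩
  obtain ⟨_, ⟨_, ⟨h, rfl⟩, rfl⟩, hmem, hsub⟩ :=
    PrimeSpectrum.isBasis_basic_opens.exists_subset_of_mem_open
      (Set.mem_range_self P₀) hopen.isOpen_range
  have hh0 : h ≠ 0 := by
    rintro rfl
    simp at hmem
  obtain ⟨a, ha⟩ : ∃ a : Fin n → k, MvPolynomial.eval a h ≠ 0 := by
    by_contra hcon
    push Not at hcon
    exact hh0 (MvPolynomial.funext (fun x => by simpa using hcon x))
  let ma : PrimeSpectrum (MvPolynomial (Fin n) k) :=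
    ⟨RingHom.ker (MvPolynomial.eval a), RingHom.ker_isPrime _⟩
  have hma : ma ∈ (PrimeSpectrum.basicOpen h : Set (PrimeSpectrum (MvPolynomial (Fin n) k))) := by
    show h ∉ RingHom.ker (MvPolynomial.eval a)
    rwa [RingHom.mem_ker]
  obtain ⟨Q', hQ'⟩ := hsub hma
  have hQ'I : Ideal.comap (algebraMap (MvPolynomial (Fin n) k) (Localization.Away f)) Q'.asIdeal =
      RingHom.ker (MvPolynomial.eval a) := congrArg PrimeSpectrum.asIdeal hQ'
  haveI : Algebra.FormallyUnramified (Localization.Away f) (Localization.AtPrime Q'.asIdeal) :=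
    Algebra.FormallyUnramified.of_isLocalization Q'.asIdeal.primeCompl
  haveI : Algebra.FormallyUnramified (MvPolynomial (Fin n) k) (Localization.AtPrime Q'.asIdeal) :=
    Algebra.FormallyUnramified.comp _ (Localization.Away f) _
  haveI : Algebra.FormallyUnramified (MvPolynomial (Fin n) k) Q'.asIdeal.ResidueField :=
    Algebra.FormallyUnramified.comp _ (Localization.AtPrime Q'.asIdeal) _
  letI : Algebra (MvPolynomial (Fin n) k) k := (MvPolynomial.eval a).toAlgebra
  haveI : IsScalarTower (MvPolynomial (Fin n) k) k Q'.asIdeal.ResidueField := by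
    refine IsScalarTower.of_algebraMap_eq fun p => ?_
    show algebraMap _ Q'.asIdeal.ResidueField p =
      algebraMap k Q'.asIdeal.ResidueField (MvPolynomial.eval a p)
    have h1 : p - MvPolynomial.C (MvPolynomial.eval a p) ∈ RingHom.ker (MvPolynomial.eval a) := by
      rw [RingHom.mem_ker, map_sub, MvPolynomial.eval_C, sub_self]
    rw [← hQ'I, Ideal.mem_comap] at h1
    have h2 := Ideal.algebraMap_residueField_eq_zero.mpr h1
    rw [← IsScalarTower.algebraMap_apply, map_sub, sub_eq_zero] at h2
    rw [h2, ← MvPolynomial.algebraMap_eq, ← IsScalarTower.algebraMap_apply]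
  haveI : Algebra.FormallyUnramified k Q'.asIdeal.ResidueField :=
    Algebra.FormallyUnramified.of_restrictScalars (MvPolynomial (Fin n) k) k _
  have := formallyUnramified_residueField_comap (R := k)
    (IsScalarTower.toAlgHom k F (Localization.Away f))
    (RingHom.surjectiveOnStalks_of_isLocalization (.powers f) _) Q'.asIdeal
  exact ⟨_, inferInstance, this⟩

/-- a nonzero smooth algebra over a field has a prime with formally unramified residue field. -/
theorem exists_prime_of_smooth_field {k F : Type u} [Field k] [CommRing F]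
    [Algebra k F] [Algebra.Smooth k F] [Nontrivial F] :
    ∃ (Q : Ideal F) (_ : Q.IsPrime), Algebra.FormallyUnramified k Q.ResidueField := by
  rcases finite_or_infinite k with hfin | hinf
  · haveI : Fintype k := Fintype.ofFinite k
    exact exists_prime_of_perfect
  · exact exists_prime_of_infinite

theorem formallyUnramified_residueField_trans {R k F : Type u} [CommRing R] [CommRing k]
    [CommRing F] [Algebra R k] [Algebra k F] [Algebra R F] [IsScalarTower R k F] (Q : Ideal F)
    [Q.IsPrime] [Algebra.FormallyUnramified R k] [Algebra.FormallyUnramified k Q.ResidueField] :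
    Algebra.FormallyUnramified R Q.ResidueField :=
  Algebra.FormallyUnramified.comp R k _

/-- **Separable points in smooth fibres**: for a smooth algebra `B₀ → C₀` and a prime `p` of `B₀`
in the image, there is a prime `q` over `p` whose residue field is formally unramified over `B₀`. -/
theorem exists_prime_formallyUnramified {B₀ C₀ : Type u} [CommRing B₀] [CommRing C₀]
    [Algebra B₀ C₀] [Algebra.Smooth B₀ C₀] (p : Ideal B₀) [p.IsPrime] (q₀ : Ideal C₀) [q₀.IsPrime]
    [q₀.LiesOver p] :
    ∃ (q : Ideal C₀) (_ : q.IsPrime), q.LiesOver p ∧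
      Algebra.FormallyUnramified B₀ q.ResidueField := by
  haveI : Nontrivial (p.Fiber C₀) := by
    let Q₀ := (PrimeSpectrum.primesOverOrderIsoFiber B₀ C₀ p) ⟨q₀, inferInstance, inferInstance⟩
    exact Q₀.nontrivial
  obtain ⟨Q, hQ, hQu⟩ := exists_prime_of_smooth_field (k := p.ResidueField) (F := p.Fiber C₀)
  haveI : Algebra.FormallyUnramified B₀ (Localization.AtPrime p) :=
    Algebra.FormallyUnramified.of_isLocalization p.primeCompl
  haveI : Algebra.FormallyUnramified B₀ p.ResidueField :=
    Algebra.FormallyUnramified.comp B₀ (Localization.AtPrime p) _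
  haveI : Algebra.FormallyUnramified B₀ Q.ResidueField :=
    formallyUnramified_residueField_trans (R := B₀) (k := p.ResidueField) Q
  have h := formallyUnramified_residueField_comap (R := B₀)
    (Algebra.TensorProduct.includeRight : C₀ →ₐ[B₀] p.Fiber C₀)
    (RingHom.SurjectiveOnStalks.baseChange' (Ideal.surjectiveOnStalks_residueField p)) Q
  refine ⟨_, inferInstance, ⟨?_⟩, h⟩
  refine (Q.over_def p).trans ?_
  rw [Ideal.under_def, Ideal.under_def, Ideal.comap_comap]
  congr 1
  ext b
  exact ((Algebra.TensorProduct.includeRight : C₀ →ₐ[B₀] p.Fiber C₀).commutes b).symm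

end Groth.Agent.Lib.Helper35.SepPoint
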