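import Groth.Agent.Lib.Helper35.SmallExtLift
import Mathlib.RingTheory.Smooth.Locus
import Mathlib.RingTheory.Etale.Basic
import Mathlib.RingTheory.LocalRing.Module

set_option autoImplicit false
set_option linter.style.haveILetI false
set_option maxHeartbeats 400000
universe u

namespace Groth.Agent.Lib.Helper35.SmallExtFT

open IsLocalRing Groth.Agent.Lib.Helper35

/-- Artinian quotients of the localization of a finite type algebra at a maximal ideal are of
finite type. -/
theorem finiteType_quotient_localization {R T : Type u} [CommRing R] [CommRing T] [Algebra R T]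
    [Algebra.FiniteType R T] (Q : Ideal T) [Q.IsPrime] (hQ : Q.IsMaximal)
    (K' : Ideal (Localization.AtPrime Q)) (m : ℕ)
    (hm : maximalIdeal (Localization.AtPrime Q) ^ m ≤ K') :
    Algebra.FiniteType R (Localization.AtPrime Q ⧸ K') := by
  let ι : T →ₐ[R] Localization.AtPrime Q ⧸ K' :=
    (Ideal.Quotient.mkₐ R K').comp (IsScalarTower.toAlgHom R T (Localization.AtPrime Q))
  refine Algebra.FiniteType.of_surjective ι ?_
  intro z
  obtain ⟨z, rfl⟩ := Ideal.Quotient.mk_surjective z
  obtain ⟨a, s, rfl⟩ := IsLocalization.exists_mk'_eq Q.primeCompl z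
  obtain ⟨y, i, hi, hys⟩ := hQ.exists_inv s.2
  have hι : ∀ t : T, ι t = Ideal.Quotient.mk K' (algebraMap T (Localization.AtPrime Q) t) :=
    fun t => rfl
  have hi0 : ι i ^ m = 0 := by
    rw [hι, ← map_pow, Ideal.Quotient.eq_zero_iff_mem]
    apply hm
    apply Ideal.pow_mem_pow
    exact (IsLocalization.AtPrime.to_map_mem_maximal_iff (Localization.AtPrime Q) Q i).mpr hi
  let w : T := y * ∑ k ∈ Finset.range m, i ^ k
  have hsw : ι (s : T) * ι w = 1 := by
    rw [← map_mul]
    have : (s : T) * w = 1 - i ^ m := by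
      have h1 : (s : T) * y = 1 - i := by rw [← hys]; ring
      show (s : T) * (y * ∑ k ∈ Finset.range m, i ^ k) = _
      rw [← mul_assoc, h1, mul_neg_geom_sum]
    rw [this, map_sub, map_one, map_pow, hi0, sub_zero]
  refine ⟨a * w, ?_⟩
  rw [map_mul, hι a, ← IsLocalization.mk'_spec (Localization.AtPrime Q) a s, map_mul, ← hι,
    mul_assoc, hsw, mul_one]

theorem backward_ft {R S : Type u} [CommRing R] [IsNoetherianRing R]
    [CommRing S] [Algebra R S] [Algebra.FiniteType R S] (q : Ideal S) [q.IsPrime] (hqmax : q.IsMaximal)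
    (H : ∀ (B' B : Type u) [CommRing B'] [CommRing B] [IsLocalRing B'] [IsLocalRing B]
        [IsArtinianRing B'] [IsArtinianRing B] [Algebra R B'] [Algebra R B]
        [Algebra.FiniteType R B'] (π : B' →ₐ[R] B),
        Function.Surjective π →
        (∃ t : B', RingHom.ker π.toRingHom = Ideal.span {t} ∧
          ∀ a ∈ IsLocalRing.maximalIdeal B', a * t = 0) →
        ∀ g : S →ₐ[R] B, (IsLocalRing.maximalIdeal B).comap g = q →
          ∃ g' : S →ₐ[R] B', π.comp g' = g) :
    Algebra.IsSmoothAt R q := by
  obtain ⟨n, ψ, hψ⟩ := (Algebra.FiniteType.iff_quotient_mvPolynomial''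
    (R := R) (S := S)).mp inferInstance
  let Q : Ideal (MvPolynomial (Fin n) R) := q.comap (ψ : MvPolynomial (Fin n) R →+* S)
  haveI : Q.IsPrime := Ideal.comap_isPrime _ _
  have hQmax : Q.IsMaximal := Ideal.comap_isMaximal_of_surjective _ hψ
  let σ : Localization.AtPrime Q →+* Localization.AtPrime q :=
    Localization.localRingHom Q q (ψ : MvPolynomial (Fin n) R →+* S) rfl
  have hσ : Function.Surjective σ := by
    intro z
    obtain ⟨s, t, rfl⟩ := IsLocalization.exists_mk'_eq q.primeCompl z
    obtain ⟨a, rfl⟩ := hψ s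
    obtain ⟨b, hb⟩ := hψ t.1
    have hbQ : b ∈ Q.primeCompl := by
      show b ∉ Q
      intro hbq
      apply t.2
      rw [← hb]
      exact hbq
    refine ⟨IsLocalization.mk' _ a ⟨b, hbQ⟩, ?_⟩
    rw [Localization.localRingHom_mk']
    congr 1
    exact Subtype.ext hb
  letI : Algebra (Localization.AtPrime Q) (Localization.AtPrime q) := σ.toAlgebra
  haveI : IsScalarTower R (Localization.AtPrime Q) (Localization.AtPrime q) :=
    IsScalarTower.of_algebraMap_eq fun r => by
      show algebraMap R (Localization.AtPrime q) r = σ (algebraMap R (Localization.AtPrime Q) r)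
      rw [IsScalarTower.algebraMap_apply R (MvPolynomial (Fin n) R) (Localization.AtPrime Q),
        Localization.localRingHom_to_map,
        IsScalarTower.algebraMap_apply R S (Localization.AtPrime q)]
      simp
  haveI : Algebra.FormallySmooth R (Localization.AtPrime Q) :=
    Algebra.FormallySmooth.comp R (MvPolynomial (Fin n) R) (Localization.AtPrime Q)
  haveI : Algebra.EssFiniteType R (Localization.AtPrime Q) :=
    Algebra.EssFiniteType.comp R (MvPolynomial (Fin n) R) (Localization.AtPrime Q)
  haveI : Module.Free (Localization.AtPrime Q) Ω[(Localization.AtPrime Q)⁄R] :=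
    Module.free_of_flat_of_isLocalRing
  haveI : IsNoetherianRing (MvPolynomial (Fin n) R) := inferInstance
  haveI : IsNoetherianRing (Localization.AtPrime Q) :=
    IsLocalization.isNoetherianRing Q.primeCompl _ inferInstance
  show Algebra.FormallySmooth R (Localization.AtPrime q)
  refine formallySmooth_of_small_lifts (A := R) (P := Localization.AtPrime Q)
    (B := Localization.AtPrime q) hσ ?_
  intro K' c hK'top ⟨m, hm⟩ hmJ hcJ hImap
  have hJm : RingHom.ker (algebraMap (Localization.AtPrime Q) (Localization.AtPrime q)) ≤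
      maximalIdeal (Localization.AtPrime Q) := le_maximalIdeal (RingHom.ker_ne_top _)
  haveI : Nontrivial (Localization.AtPrime Q ⧸ K') := Ideal.Quotient.nontrivial_iff.mpr hK'top
  haveI : IsLocalRing (Localization.AtPrime Q ⧸ K') :=
    IsLocalRing.of_surjective' (Ideal.Quotient.mk K') Ideal.Quotient.mk_surjective
  have hmT : maximalIdeal (Localization.AtPrime Q ⧸ K') =
      (maximalIdeal (Localization.AtPrime Q)).map (Ideal.Quotient.mk K') :=
    (map_maximalIdeal_of_surjective _ Ideal.Quotient.mk_surjective).symm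
  haveI : IsArtinianRing (Localization.AtPrime Q ⧸ K') := by
    rw [isArtinianRing_iff_isNilpotent_maximalIdeal]
    refine ⟨m, ?_⟩
    rw [hmT, ← Ideal.map_pow, Ideal.zero_eq_bot, Ideal.map_eq_bot_iff_le_ker, Ideal.mk_ker]
    exact hm
  haveI : Algebra.FiniteType R (Localization.AtPrime Q ⧸ K') :=
    finiteType_quotient_localization Q hQmax K' m hm
  obtain ⟨I, hI⟩ : ∃ I : Ideal (Localization.AtPrime Q ⧸ K'),
    I = (RingHom.ker (algebraMap (Localization.AtPrime Q) (Localization.AtPrime q))).map
      (Ideal.Quotient.mk K') := ⟨_, rfl⟩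
  rw [← hI] at hImap ⊢
  have hIm : I ≤ maximalIdeal (Localization.AtPrime Q ⧸ K') := by
    rw [hmT, hI]
    exact Ideal.map_mono hJm
  have hItop : I ≠ ⊤ := fun h =>
    (maximalIdeal.isMaximal (Localization.AtPrime Q ⧸ K')).ne_top (top_le_iff.mp (h ▸ hIm))
  haveI : Nontrivial ((Localization.AtPrime Q ⧸ K') ⧸ I) :=
    Ideal.Quotient.nontrivial_iff.mpr hItop
  haveI : IsLocalRing ((Localization.AtPrime Q ⧸ K') ⧸ I) :=
    IsLocalRing.of_surjective' (Ideal.Quotient.mk I) Ideal.Quotient.mk_surjective
  haveI : IsArtinianRing ((Localization.AtPrime Q ⧸ K') ⧸ I) := inferInstance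
  let π : (Localization.AtPrime Q ⧸ K') →ₐ[R] (Localization.AtPrime Q ⧸ K') ⧸ I :=
    Ideal.Quotient.mkₐ R I
  have hπ : Function.Surjective π := Ideal.Quotient.mk_surjective
  haveI hπloc : IsLocalHom (π : (Localization.AtPrime Q ⧸ K') →+*
      (Localization.AtPrime Q ⧸ K') ⧸ I) :=
    IsLocalHom.of_surjective (π : (Localization.AtPrime Q ⧸ K') →+*
      (Localization.AtPrime Q ⧸ K') ⧸ I) hπ
  let qB : Localization.AtPrime Q →ₐ[R] (Localization.AtPrime Q ⧸ K') ⧸ I :=
    π.comp (Ideal.Quotient.mkₐ R K')
  have hqBsurj : Function.Surjective qB := hπ.comp Ideal.Quotient.mk_surjective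
  have hqB : RingHom.ker (algebraMap (Localization.AtPrime Q) (Localization.AtPrime q)) ≤
      RingHom.ker (qB : Localization.AtPrime Q →+* (Localization.AtPrime Q ⧸ K') ⧸ I) := by
    intro x hx
    rw [RingHom.mem_ker]
    show Ideal.Quotient.mk I (Ideal.Quotient.mk K' x) = 0
    rw [Ideal.Quotient.eq_zero_iff_mem, hI]
    exact Ideal.mem_map_of_mem _ hx
  let liftB : Localization.AtPrime q →+* (Localization.AtPrime Q ⧸ K') ⧸ I :=
    (algebraMap (Localization.AtPrime Q) (Localization.AtPrime q)).liftOfSurjective hσ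
      ⟨(qB : Localization.AtPrime Q →+* (Localization.AtPrime Q ⧸ K') ⧸ I), hqB⟩
  have hliftB : ∀ x : Localization.AtPrime Q,
      liftB (algebraMap (Localization.AtPrime Q) (Localization.AtPrime q) x) = qB x := fun x =>
    RingHom.liftOfSurjective_comp_apply _ hσ ⟨(qB : Localization.AtPrime Q →+* (Localization.AtPrime Q ⧸ K') ⧸ I), hqB⟩ x
  have hliftBsurj : Function.Surjective liftB := by
    intro b
    obtain ⟨x, rfl⟩ := hqBsurj b
    exact ⟨_, hliftB x⟩
  haveI : IsLocalHom liftB := IsLocalHom.of_surjective _ hliftBsurj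
  let g : S →ₐ[R] (Localization.AtPrime Q ⧸ K') ⧸ I :=
    { toRingHom := liftB.comp (algebraMap S (Localization.AtPrime q))
      commutes' := fun r => by
        show liftB (algebraMap S (Localization.AtPrime q) (algebraMap R S r)) = _
        rw [← IsScalarTower.algebraMap_apply R S (Localization.AtPrime q),
          IsScalarTower.algebraMap_apply R (Localization.AtPrime Q) (Localization.AtPrime q),
          hliftB]
        exact qB.commutes r }
  have hgq : (maximalIdeal ((Localization.AtPrime Q ⧸ K') ⧸ I)).comap g = q := by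
    ext s
    rw [Ideal.mem_comap]
    show liftB (algebraMap S (Localization.AtPrime q) s) ∈ _ ↔ _
    rw [← Ideal.mem_comap, maximalIdeal_comap liftB,
      IsLocalization.AtPrime.to_map_mem_maximal_iff (Localization.AtPrime q) q]
  have hsmall : ∃ t : Localization.AtPrime Q ⧸ K', RingHom.ker π.toRingHom = Ideal.span {t} ∧
      ∀ a ∈ maximalIdeal (Localization.AtPrime Q ⧸ K'), a * t = 0 := by
    refine ⟨Ideal.Quotient.mk K' c, ?_, ?_⟩
    · rw [← hImap]
      exact Ideal.mk_ker
    · intro a ha
      rw [hmT] at ha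
      obtain ⟨a₀, ha₀, rfl⟩ := (Ideal.mem_map_iff_of_surjective _
        Ideal.Quotient.mk_surjective).mp ha
      rw [← map_mul, Ideal.Quotient.eq_zero_iff_mem]
      exact hmJ (Ideal.mul_mem_mul ha₀ hcJ)
  obtain ⟨g', hg'⟩ := H (Localization.AtPrime Q ⧸ K') ((Localization.AtPrime Q ⧸ K') ⧸ I) π hπ
    hsmall g hgq
  have hunit' : ∀ y : q.primeCompl, IsUnit (g' y) := by
    intro y
    have h1 : IsUnit (g (y : S)) := by
      show IsUnit (liftB (algebraMap S (Localization.AtPrime q) y))
      exact (IsLocalization.map_units (Localization.AtPrime q) y).map liftB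
    have h2 : π (g' y) = g y := congr($hg' y)
    rw [← h2] at h1
    exact isUnit_of_map_unit (π : (Localization.AtPrime Q ⧸ K') →+*
      (Localization.AtPrime Q ⧸ K') ⧸ I) _ h1
  let ĝ' : Localization.AtPrime q →ₐ[R] Localization.AtPrime Q ⧸ K' :=
    IsLocalization.liftAlgHom (M := q.primeCompl) (f := g') hunit'
  refine ⟨ĝ', fun x => ?_⟩
  rw [← Ideal.Quotient.eq]
  -- compare two ring homs out of the localization
  let φ₁ : Localization.AtPrime Q →+* (Localization.AtPrime Q ⧸ K') ⧸ I :=
    (Ideal.Quotient.mk I).comp ((ĝ' : Localization.AtPrime q →+* Localization.AtPrime Q ⧸ K').comp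
      (algebraMap (Localization.AtPrime Q) (Localization.AtPrime q)))
  have hφ : φ₁ = (qB : Localization.AtPrime Q →+* (Localization.AtPrime Q ⧸ K') ⧸ I) := by
    apply IsLocalization.ringHom_ext Q.primeCompl
    ext a
    · show Ideal.Quotient.mk I (ĝ' (σ (algebraMap _ _ (MvPolynomial.C a)))) =
        qB (algebraMap _ _ (MvPolynomial.C a))
      rw [Localization.localRingHom_to_map]
      have h1 : ĝ' (algebraMap S (Localization.AtPrime q) (ψ (MvPolynomial.C a))) =
          g' (ψ (MvPolynomial.C a)) := IsLocalization.lift_eq _ _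
      rw [RingHom.coe_coe, h1]
      have h2 : π (g' (ψ (MvPolynomial.C a))) = g (ψ (MvPolynomial.C a)) := congr($hg' _)
      show π (g' (ψ (MvPolynomial.C a))) = _
      rw [h2]
      show liftB (algebraMap S (Localization.AtPrime q) (ψ (MvPolynomial.C a))) = _
      rw [← hliftB]
      congr 1
      exact (Localization.localRingHom_to_map Q q (ψ : MvPolynomial (Fin n) R →+* S) rfl _).symm
    · show Ideal.Quotient.mk I (ĝ' (σ (algebraMap _ _ (MvPolynomial.X a)))) =
        qB (algebraMap _ _ (MvPolynomial.X a))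
      rw [Localization.localRingHom_to_map]
      have h1 : ĝ' (algebraMap S (Localization.AtPrime q) (ψ (MvPolynomial.X a))) =
          g' (ψ (MvPolynomial.X a)) := IsLocalization.lift_eq _ _
      rw [RingHom.coe_coe, h1]
      have h2 : π (g' (ψ (MvPolynomial.X a))) = g (ψ (MvPolynomial.X a)) := congr($hg' _)
      show π (g' (ψ (MvPolynomial.X a))) = _
      rw [h2]
      show liftB (algebraMap S (Localization.AtPrime q) (ψ (MvPolynomial.X a))) = _
      rw [← hliftB]
      congr 1
      exact (Localization.localRingHom_to_map Q q (ψ : MvPolynomial (Fin n) R →+* S) rfl _).symm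
  exact congr($hφ x)


end Groth.Agent.Lib.Helper35.SmallExtFT
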