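import Groth.Agent.Lib.Helper35.ArtinLiftSmooth

set_option autoImplicit false
set_option maxHeartbeats 400000
universe u

namespace Groth.Agent.Lib.Helper35

open IsLocalRing TensorProduct KaehlerDifferential

section S2

variable {A P B : Type u} [CommRing A] [CommRing P] [CommRing B]
    [IsLocalRing P] [IsLocalRing B] [IsNoetherianRing P]
    [Algebra A P] [Algebra P B] [Algebra A B] [IsScalarTower A P B]

/-- Jacobian criterion via lifts to "small" (principal kernel) Artinian quotients of `P`. -/
theorem formallySmooth_of_small_lifts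
    [Algebra.FormallySmooth A P] [Module.Free P Ω[P⁄A]] [Module.Finite P Ω[P⁄A]]
    (hσ : Function.Surjective (algebraMap P B))
    (H : ∀ (K' : Ideal P) (c : P), K' ≠ ⊤ → (∃ n, maximalIdeal P ^ n ≤ K') →
        maximalIdeal P * RingHom.ker (algebraMap P B) ≤ K' →
        c ∈ RingHom.ker (algebraMap P B) →
        (RingHom.ker (algebraMap P B)).map (Ideal.Quotient.mk K') =
          Ideal.span {Ideal.Quotient.mk K' c} →
        ∃ g : B →ₐ[A] P ⧸ K', ∀ x : P, g (algebraMap P B x) - Ideal.Quotient.mk K' x ∈
          (RingHom.ker (algebraMap P B)).map (Ideal.Quotient.mk K')) :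
    Algebra.FormallySmooth A B := by
  rw [Algebra.FormallySmooth.iff_injective_cotangentComplexBaseChange_residueField P hσ
    (IsNoetherian.noetherian _)]
  rw [injective_iff_map_eq_zero]
  intro t ht
  haveI := IsLocalHom.of_surjective (algebraMap P B) hσ
  have hκ : Function.Surjective (algebraMap P (ResidueField B)) := by
    rw [IsScalarTower.algebraMap_eq P B]
    exact residue_surjective.comp hσ
  have hker : RingHom.ker (algebraMap P (ResidueField B)) = maximalIdeal P := by
    ext p
    rw [RingHom.mem_ker, IsScalarTower.algebraMap_apply P B, ResidueField.algebraMap_eq,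
      residue_eq_zero_iff, ← maximalIdeal_comap (algebraMap P B), Ideal.mem_comap]
  obtain ⟨c, hc⟩ := TensorProduct.mk_surjective P (RingHom.ker (algebraMap P B))
    (ResidueField B) hκ t
  subst hc
  rw [TensorProduct.mk_apply] at ht ⊢
  rw [KaehlerDifferential.cotangentComplexBaseChange_tmul, one_smul,
    KaehlerDifferential.kerToTensor_apply] at ht
  have hD : D A P (c : P) ∈ maximalIdeal P • (⊤ : Submodule P Ω[P⁄A]) := by
    rw [← hker]
    exact (one_tmul_eq_zero_iff hκ _).mp ht
  have hJm : RingHom.ker (algebraMap P B) ≤ maximalIdeal P :=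
    le_maximalIdeal (RingHom.ker_ne_top _)
  have key : ∀ n : ℕ, 0 < n →
      (c : P) ∈ maximalIdeal P * RingHom.ker (algebraMap P B) + maximalIdeal P ^ n := by
    intro n hn
    by_contra hcK
    -- a maximal ideal among those containing `K_n` and missing `c`
    obtain ⟨K', ⟨hK'n, hcK'⟩, hmax⟩ := set_has_maximal_iff_noetherian.mpr
      (inferInstance : IsNoetherian P P)
      {K' : Ideal P | maximalIdeal P * RingHom.ker (algebraMap P B) + maximalIdeal P ^ n ≤ K' ∧
        (c : P) ∉ K'} ⟨_, le_rfl, hcK⟩
    have hK'top : K' ≠ ⊤ := fun h => hcK' (h ▸ Submodule.mem_top)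
    have hJK' : RingHom.ker (algebraMap P B) ≤ K' ⊔ Ideal.span {(c : P)} := by
      intro x hx
      by_cases hxK : x ∈ K'
      · exact Ideal.mem_sup_left hxK
      · have hlt : K' < K' ⊔ Ideal.span {x} := by
          refine lt_of_le_of_ne le_sup_left (fun h => hxK ?_)
          rw [h]
          exact Ideal.mem_sup_right (Ideal.subset_span rfl)
        have hcmem : (c : P) ∈ K' ⊔ Ideal.span {x} := by
          by_contra hcon
          exact hmax _ ⟨hK'n.trans le_sup_left, hcon⟩ hlt
        obtain ⟨k, hk, y, hy, hky⟩ := Submodule.mem_sup.mp hcmem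
        obtain ⟨a, rfl⟩ := Ideal.mem_span_singleton'.mp hy
        have ha : IsUnit a := by
          by_contra hau
          have ham : a ∈ maximalIdeal P := (mem_maximalIdeal _).mpr hau
          have : a * x ∈ K' := hK'n (Ideal.mem_sup_left (Ideal.mul_mem_mul ham hx))
          exact hcK' (hky ▸ K'.add_mem hk this)
        obtain ⟨a', ha'⟩ := ha.exists_left_inv
        have hxeq : x = a' * (c : P) - a' * k := by
          rw [← hky]
          ring_nf
          rw [ha', one_mul]
        rw [hxeq]
        refine Submodule.sub_mem _ (Ideal.mem_sup_right ?_) (Ideal.mem_sup_left ?_)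
        · exact Ideal.mul_mem_left _ _ (Ideal.subset_span rfl)
        · exact Ideal.mul_mem_left _ _ hk
    have hImap : (RingHom.ker (algebraMap P B)).map (Ideal.Quotient.mk K') =
        Ideal.span {Ideal.Quotient.mk K' (c : P)} := by
      apply le_antisymm
      · rw [Ideal.map_le_iff_le_comap]
        intro x hx
        obtain ⟨k, hk, y, hy, rfl⟩ := Submodule.mem_sup.mp (hJK' hx)
        obtain ⟨a, rfl⟩ := Ideal.mem_span_singleton'.mp hy
        rw [Ideal.mem_comap, map_add, Ideal.Quotient.eq_zero_iff_mem.mpr hk, zero_add, map_mul]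
        exact Ideal.mul_mem_left _ _ (Ideal.subset_span rfl)
      · rw [Ideal.span_singleton_le_iff_mem]
        exact Ideal.mem_map_of_mem _ c.2
    obtain ⟨g, hg⟩ := H K' c hK'top ⟨n, le_sup_right.trans hK'n⟩ (le_sup_left.trans hK'n)
      c.2 hImap
    obtain ⟨I, hI⟩ : ∃ I : Ideal (P ⧸ K'),
      I = (RingHom.ker (algebraMap P B)).map (Ideal.Quotient.mk K') := ⟨_, rfl⟩
    rw [← hI] at hg
    have hIm : I * (maximalIdeal P).map (Ideal.Quotient.mk K') = ⊥ := by
      rw [hI, ← Ideal.map_mul, Ideal.map_eq_bot_iff_le_ker, Ideal.mk_ker, mul_comm]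
      exact le_sup_left.trans hK'n
    have hI2 : I ^ 2 = ⊥ := by
      rw [pow_two, ← le_bot_iff, ← hIm]
      refine Ideal.mul_mono_right ?_
      rw [hI]
      exact Ideal.map_mono hJm
    let u₁ : P →ₐ[A] P ⧸ K' := g.comp (IsScalarTower.toAlgHom A P B)
    have e : (Ideal.Quotient.mkₐ A I).comp u₁ = IsScalarTower.toAlgHom A P ((P ⧸ K') ⧸ I) :=
      AlgHom.ext fun p => Ideal.Quotient.eq.mpr (hg p)
    let Dn : Derivation A P I := derivationToSquareZeroOfLift I hI2 u₁ e
    let l : Ω[P⁄A] →ₗ[P] I := Dn.liftKaehlerDifferential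
    have hl : l (D A P c) = Dn c := Derivation.liftKaehlerDifferential_comp_D Dn c
    have hl0 : ∀ y ∈ maximalIdeal P • (⊤ : Submodule P Ω[P⁄A]), l y = 0 := by
      intro y hy
      refine Submodule.smul_induction_on hy (fun p hp ω _ => ?_)
        (fun y z hy hz => by rw [map_add, hy, hz, add_zero])
      rw [map_smul]
      apply Subtype.ext
      show (p • (l ω : P ⧸ K')) = 0
      rw [Algebra.smul_def, Ideal.Quotient.algebraMap_eq, mul_comm]
      have : (l ω : P ⧸ K') * Ideal.Quotient.mk K' p ∈
          I * (maximalIdeal P).map (Ideal.Quotient.mk K') :=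
        Ideal.mul_mem_mul (l ω).2 (Ideal.mem_map_of_mem _ hp)
      rwa [hIm, Ideal.mem_bot] at this
    have h0 : (Dn c : P ⧸ K') = 0 := by
      rw [← hl, hl0 _ hD]
      rfl
    rw [derivationToSquareZeroOfLift_apply] at h0
    have hc0 : u₁ c = 0 := by
      show g (algebraMap P B c) = 0
      rw [(RingHom.mem_ker).mp c.2, map_zero]
    rw [hc0, zero_sub, neg_eq_zero] at h0
    exact hcK' (Ideal.Quotient.eq_zero_iff_mem.mp h0)
  have hcm := mem_mul_of_forall_mem_mul_add_pow _ (c : P) key
  rw [one_tmul_eq_zero_iff hκ, hker, Submodule.mem_smul_top_iff]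
  simpa [smul_eq_mul] using hcm

end S2

end Groth.Agent.Lib.Helper35
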