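import Mathlib.RingTheory.MvPolynomial.Ideal
import Mathlib.RingTheory.Regular.RegularSequence

set_option autoImplicit false

namespace Groth.Agent.Lib.Helper35.VarReg

open MvPolynomial RingTheory.Sequence

theorem mem_span_X_image_of_X_mul_mem {σ A : Type*} [CommRing A] (s : Set σ) (i : σ) (hi : i ∉ s)
    (p : MvPolynomial σ A)
    (h : X i * p ∈ Ideal.span (MvPolynomial.X '' s : Set (MvPolynomial σ A))) :
    p ∈ Ideal.span (MvPolynomial.X '' s : Set (MvPolynomial σ A)) := by
  classical
  rw [mem_ideal_span_X_image] at h ⊢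
  intro m hm
  have hm' : Finsupp.single i 1 + m ∈ (X i * p).support := by
    rw [support_X_mul]
    exact Finset.mem_map.2 ⟨m, hm, rfl⟩
  obtain ⟨j, hj, hne⟩ := h _ hm'
  refine ⟨j, hj, ?_⟩
  have hji : j ≠ i := fun e => hi (e ▸ hj)
  rw [Finsupp.add_apply, Finsupp.single_apply, if_neg (Ne.symm hji), zero_add] at hne
  exact hne

/-- Distinct variables form a weakly regular sequence on a polynomial ring. -/
theorem isWeaklyRegular_map_X {σ A : Type*} [CommRing A] (l : List σ) (hl : l.Nodup) :
    IsWeaklyRegular (MvPolynomial σ A) (l.map (X : σ → MvPolynomial σ A)) := by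
  rw [isWeaklyRegular_iff]
  intro i hi
  have hi' : i < l.length := by simpa using hi
  have hset : (Ideal.ofList ((l.map (X : σ → MvPolynomial σ A)).take i) • ⊤ :
      Submodule (MvPolynomial σ A) (MvPolynomial σ A)) =
      Ideal.span (MvPolynomial.X '' {j | j ∈ l.take i} : Set (MvPolynomial σ A)) := by
    rw [smul_eq_mul, Ideal.mul_top]
    show Ideal.span _ = _
    congr 1
    ext r
    have : List.take i (List.map (X : σ → MvPolynomial σ A) l) = (List.take i l).map X :=
      (List.map_take).symm
    rw [Set.mem_ofPred_eq, this, List.mem_map]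
    rfl
  have hnot : l[i] ∉ {j | j ∈ l.take i} := by
    intro hmem
    have hmem' : l[i] ∈ l.take i := hmem
    rw [List.mem_take_iff_getElem] at hmem'
    obtain ⟨k, hk, hkeq⟩ := hmem'
    have hk' : k < i := (lt_min_iff.1 hk).1
    have := (List.Nodup.getElem_inj_iff hl (hi := (lt_min_iff.1 hk).2) (hj := hi')).1 hkeq
    omega
  rw [isSMulRegular_iff_right_eq_zero_of_smul]
  intro y hy
  obtain ⟨p, rfl⟩ := Submodule.Quotient.mk_surjective _ y
  rw [← Submodule.Quotient.mk_smul, Submodule.Quotient.mk_eq_zero, hset] at hy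
  rw [Submodule.Quotient.mk_eq_zero, hset]
  have hget : (l.map (X : σ → MvPolynomial σ A))[i] = X l[i] := by simp
  rw [hget, smul_eq_mul] at hy
  exact mem_span_X_image_of_X_mul_mem _ _ hnot p hy

end Groth.Agent.Lib.Helper35.VarReg
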