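import Groth.Agent.Lib.Helper35.JacobianPair
import Groth.Agent.Lib.Helper35.VarReg
import Mathlib.RingTheory.Regular.Flat

set_option autoImplicit false
set_option linter.style.haveILetI false
set_option maxHeartbeats 400000
universe u

namespace Groth.Agent.Lib.Helper35.SmoothPairReg

open RingTheory.Sequence

/-- **Regular generators for a smooth pair.** `B ↠ E` a surjection of smooth `A`-algebras, `Q` a
prime of `E`: there are `f ∈ B` not vanishing at `Q` and a list `gs` of elements of the kernel such
that over every `B' = B_{f'}` (`f ∣ f'`) the kernel is generated by `gs`, which is a weakly regular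
sequence on `B'`. -/
theorem exists_regular_gens (A B E : Type u) [CommRing A] [CommRing B] [CommRing E]
    [Algebra A B] [Algebra B E] [Algebra A E] [IsScalarTower A B E] [Algebra.Smooth A B]
    [Algebra.Smooth A E] (hsurj : Function.Surjective (algebraMap B E)) (Q : Ideal E) [Q.IsPrime] :
    ∃ (gs : List B) (f : B), algebraMap B E f ∉ Q ∧
      ∀ f' : B, f ∣ f' → ∀ (B' : Type u) [CommRing B'] [Algebra B B'] [IsLocalization.Away f' B'],
        IsWeaklyRegular B' (gs.map (algebraMap B B')) ∧
        (RingHom.ker (algebraMap B E)).map (algebraMap B B') =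
          Ideal.ofList (gs.map (algebraMap B B')) := by
  obtain ⟨m, r, g', g, f, hg, hf, H⟩ := JacobianPair.exists_chart_of_smooth_pair' A B E hsurj Q
  refine ⟨List.ofFn g, f, hf, fun f' hf' B' _ _ _ => ?_⟩
  obtain ⟨hét, hker⟩ := H f' hf' B'
  have hmap : (List.ofFn g).map (algebraMap B B') = List.ofFn (fun k => algebraMap B B' (g k)) := by
    rw [List.map_ofFn]
    rfl
  refine ⟨?_, ?_⟩
  · rw [hmap]
    let φ : MvPolynomial (ULift.{u} (Fin m ⊕ Fin r)) A →+* B' :=
      MvPolynomial.eval₂Hom ((algebraMap B B').comp (algebraMap A B))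
        (fun j : ULift.{u} (Fin m ⊕ Fin r) => algebraMap B B' (Sum.elim g' g j.down))
    letI : Algebra (MvPolynomial (ULift.{u} (Fin m ⊕ Fin r)) A) B' := φ.toAlgebra
    haveI : Algebra.Etale (MvPolynomial (ULift.{u} (Fin m ⊕ Fin r)) A) B' :=
      RingHom.etale_algebraMap.mp hét
    have hl : (List.ofFn (fun k : Fin r => (⟨Sum.inr k⟩ : ULift.{u} (Fin m ⊕ Fin r)))).Nodup := by
      rw [List.nodup_ofFn]
      intro a b hab
      have := congrArg ULift.down hab
      exact Sum.inr_injective this
    have h1 := VarReg.isWeaklyRegular_map_X (A := A) _ hl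
    have h2 := IsWeaklyRegular.of_flat (S := B') h1
    rw [List.map_ofFn, List.map_ofFn] at h2
    convert h2 using 2
    funext k
    show algebraMap B B' (g k) = φ (MvPolynomial.X ⟨Sum.inr k⟩)
    rw [MvPolynomial.coe_eval₂Hom, MvPolynomial.eval₂_X]
    rfl
  · rw [hker, hmap]
    show _ = Ideal.span _
    congr 1
    ext b
    simp [List.mem_ofFn]

end Groth.Agent.Lib.Helper35.SmoothPairReg
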