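import Groth.Agent.Lib.Helper35.SmoothPairReg
import Groth.Agent.Lib.Helper35.FiberSmoothRing
import Mathlib.RingTheory.Localization.Ideal

set_option autoImplicit false
set_option linter.style.haveILetI false
set_option maxHeartbeats 800000
universe u

namespace Groth.Agent.Lib.Helper35.SmoothPairReg2

open RingTheory.Sequence TensorProduct

/-- splitting a weakly regular sequence on a ring along the quotient by the first part. -/
theorem isWeaklyRegular_append_iff_quot {R : Type*} [CommRing R] (J : Ideal R) (rs₁ rs₂ : List R)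
    (hJ : Ideal.ofList rs₁ = J) :
    IsWeaklyRegular R (rs₁ ++ rs₂) ↔
      IsWeaklyRegular R rs₁ ∧ IsWeaklyRegular (R ⧸ J) (rs₂.map (Ideal.Quotient.mk J)) := by
  rw [isWeaklyRegular_append_iff]
  refine and_congr_right' ?_
  have h1 : (Ideal.ofList rs₁ • ⊤ : Submodule R R) = J := by
    rw [smul_eq_mul, Ideal.mul_top, hJ]
  rw [(Submodule.quotEquivOfEq _ _ h1).isWeaklyRegular_congr rs₂]
  exact (isWeaklyRegular_map_algebraMap_iff (R := R) (S := R ⧸ J) (M := R ⧸ J) rs₂).symm


theorem exists_list_map_eq {α β : Type*} (f : α → β) (hf : Function.Surjective f) (l : List β) :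
    ∃ l' : List α, l'.map f = l := by
  induction l with
  | nil => exact ⟨[], rfl⟩
  | cons b l ih =>
    obtain ⟨l', hl'⟩ := ih
    obtain ⟨a, rfl⟩ := hf b
    exact ⟨a :: l', by rw [List.map_cons, hl']⟩

/-- **Relative version of `exists_regular_gens`.** `A → B` smooth, `E` a quotient of both `A` and
`B` compatibly, with `ker (A → E)` generated by a weakly regular sequence `rs`. Then locally around
a prime `Q` of `E` the kernel of `B → E` is generated by `rs` followed by a list `gs`, the whole
being a weakly regular sequence. -/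
theorem exists_regular_gens_rel (A B E : Type u) [CommRing A] [CommRing B] [CommRing E]
    [Algebra A B] [Algebra B E] [Algebra A E] [IsScalarTower A B E] [Algebra.Smooth A B]
    (hAE : Function.Surjective (algebraMap A E)) (hBE : Function.Surjective (algebraMap B E))
    (rs : List A) (hrs : IsWeaklyRegular A rs)
    (hker : RingHom.ker (algebraMap A E) = Ideal.ofList rs) (Q : Ideal E) [Q.IsPrime] :
    ∃ (gs : List B) (f : B), algebraMap B E f ∉ Q ∧
      ∀ f' : B, f ∣ f' → ∀ (B' : Type u) [CommRing B'] [Algebra B B'] [IsLocalization.Away f' B'],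
        IsWeaklyRegular B' ((rs.map (algebraMap A B) ++ gs).map (algebraMap B B')) ∧
        (RingHom.ker (algebraMap B E)).map (algebraMap B B') =
          Ideal.ofList ((rs.map (algebraMap A B) ++ gs).map (algebraMap B B')) := by
  obtain ⟨I, hI⟩ : ∃ I : Ideal A, I = RingHom.ker (algebraMap A E) := ⟨_, rfl⟩
  have hIBle : I.map (algebraMap A B) ≤ RingHom.ker (algebraMap B E) := by
    rw [Ideal.map_le_iff_le_comap]
    intro a ha
    rw [Ideal.mem_comap, RingHom.mem_ker, ← IsScalarTower.algebraMap_apply]
    rw [hI] at ha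
    exact ha
  -- the algebra structures on `E`
  letI algAE : Algebra (A ⧸ I) E :=
    (Ideal.Quotient.lift I (algebraMap A E) (fun a ha => by rw [hI] at ha; exact ha)).toAlgebra
  letI algBE : Algebra (B ⧸ I.map (algebraMap A B)) E :=
    (Ideal.Quotient.lift (I.map (algebraMap A B)) (algebraMap B E) (fun b hb => hIBle hb)).toAlgebra
  have hAEmk : ∀ a : A, algebraMap (A ⧸ I) E (Ideal.Quotient.mk I a) = algebraMap A E a :=
    fun a => rfl
  have hBEmk : ∀ b : B, algebraMap (B ⧸ I.map (algebraMap A B)) E
      (Ideal.Quotient.mk (I.map (algebraMap A B)) b) = algebraMap B E b := fun b => rfl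
  haveI : IsScalarTower (A ⧸ I) (B ⧸ I.map (algebraMap A B)) E := by
    refine IsScalarTower.of_algebraMap_eq fun x => ?_
    obtain ⟨a, rfl⟩ := Ideal.Quotient.mk_surjective x
    rw [hAEmk, Ideal.Quotient.algebraMap_quotient_map_quotient, hBEmk,
      ← IsScalarTower.algebraMap_apply]
  -- smoothness
  haveI : Algebra.Smooth (A ⧸ I) (B ⧸ I.map (algebraMap A B)) :=
    ⟨FiberSmoothRing.formallySmooth_quotient A B I,
      Algebra.FinitePresentation.equiv
        (Algebra.TensorProduct.quotIdealMapEquivQuotTensor B I).symm⟩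
  have hbij : Function.Bijective (algebraMap (A ⧸ I) E) := by
    refine ⟨?_, fun e => ?_⟩
    · rw [injective_iff_map_eq_zero]
      intro x hx
      obtain ⟨a, rfl⟩ := Ideal.Quotient.mk_surjective x
      rw [hAEmk] at hx
      rw [Ideal.Quotient.eq_zero_iff_mem, hI]
      exact hx
    · obtain ⟨a, rfl⟩ := hAE e
      exact ⟨Ideal.Quotient.mk I a, rfl⟩
  haveI : Algebra.Smooth (A ⧸ I) E :=
    Algebra.Smooth.of_equiv (AlgEquiv.ofBijective (Algebra.ofId (A ⧸ I) E) hbij)
  have hsurj : Function.Surjective (algebraMap (B ⧸ I.map (algebraMap A B)) E) := by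
    intro e
    obtain ⟨b, rfl⟩ := hBE e
    exact ⟨Ideal.Quotient.mk _ b, rfl⟩
  obtain ⟨gs', f₀, hf₀, H⟩ := SmoothPairReg.exists_regular_gens (A ⧸ I)
    (B ⧸ I.map (algebraMap A B)) E hsurj Q
  obtain ⟨gs, rfl⟩ := exists_list_map_eq _ Ideal.Quotient.mk_surjective gs'
  obtain ⟨f, rfl⟩ := Ideal.Quotient.mk_surjective f₀
  refine ⟨gs, f, hf₀, fun f' hf' B' _ _ _ => ?_⟩
  -- the localized quotient
  haveI hloc : IsLocalization.Away (Ideal.Quotient.mk (I.map (algebraMap A B)) f')
      (B' ⧸ (I.map (algebraMap A B)).map (algebraMap B B')) := by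
    have h1 : IsLocalization (Algebra.algebraMapSubmonoid (B ⧸ I.map (algebraMap A B))
        (Submonoid.powers f')) (B' ⧸ (I.map (algebraMap A B)).map (algebraMap B B')) :=
      inferInstance
    have h2 : Algebra.algebraMapSubmonoid (B ⧸ I.map (algebraMap A B)) (Submonoid.powers f') =
        Submonoid.powers (Ideal.Quotient.mk (I.map (algebraMap A B)) f') := by
      rw [Algebra.algebraMapSubmonoid, Submonoid.map_powers]
      rfl
    rw [h2] at h1
    exact h1
  obtain ⟨hreg, hkerq⟩ := H (Ideal.Quotient.mk (I.map (algebraMap A B)) f')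
    (map_dvd (Ideal.Quotient.mk (I.map (algebraMap A B))) hf')
    (B' ⧸ (I.map (algebraMap A B)).map (algebraMap B B'))
  -- notation
  have hofl : Ideal.ofList ((rs.map (algebraMap A B)).map (algebraMap B B')) =
      (I.map (algebraMap A B)).map (algebraMap B B') := by
    rw [← Ideal.map_ofList, ← Ideal.map_ofList, ← hker, ← hI]
  have hsq : ∀ l : List B, (l.map (algebraMap B B')).map
      (Ideal.Quotient.mk ((I.map (algebraMap A B)).map (algebraMap B B'))) =
      (l.map (Ideal.Quotient.mk (I.map (algebraMap A B)))).map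
        (algebraMap (B ⧸ I.map (algebraMap A B)) (B' ⧸ (I.map (algebraMap A B)).map
          (algebraMap B B'))) := by
    intro l
    rw [List.map_map, List.map_map]
    rfl
  refine ⟨?_, ?_⟩
  · rw [List.map_append, isWeaklyRegular_append_iff_quot _ _ _ hofl]
    refine ⟨?_, ?_⟩
    · haveI : Module.Flat B B' := IsLocalization.flat B' (Submonoid.powers f')
      exact IsWeaklyRegular.of_flat (IsWeaklyRegular.of_flat hrs)
    · rw [hsq]
      exact hreg
  · have hcomp : (algebraMap (B ⧸ I.map (algebraMap A B)) E).comp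
        (Ideal.Quotient.mk (I.map (algebraMap A B))) = algebraMap B E := RingHom.ext fun _ => rfl
    have hK : (RingHom.ker (algebraMap B E)).map (Ideal.Quotient.mk (I.map (algebraMap A B))) =
        RingHom.ker (algebraMap (B ⧸ I.map (algebraMap A B)) E) := by
      rw [← hcomp, ← RingHom.comap_ker,
        Ideal.map_comap_of_surjective _ Ideal.Quotient.mk_surjective]
    have hsqr : (Ideal.Quotient.mk ((I.map (algebraMap A B)).map (algebraMap B B'))).comp
        (algebraMap B B') = (algebraMap (B ⧸ I.map (algebraMap A B))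
          (B' ⧸ (I.map (algebraMap A B)).map (algebraMap B B'))).comp
          (Ideal.Quotient.mk (I.map (algebraMap A B))) := RingHom.ext fun _ => rfl
    have hL : ((RingHom.ker (algebraMap B E)).map (algebraMap B B')).map
        (Ideal.Quotient.mk ((I.map (algebraMap A B)).map (algebraMap B B'))) =
        Ideal.ofList ((gs.map (Ideal.Quotient.mk (I.map (algebraMap A B)))).map
          (algebraMap (B ⧸ I.map (algebraMap A B)) (B' ⧸ (I.map (algebraMap A B)).map
            (algebraMap B B')))) := by
      rw [Ideal.map_map (I := RingHom.ker (algebraMap B E)) (algebraMap B B')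
        (Ideal.Quotient.mk ((I.map (algebraMap A B)).map (algebraMap B B'))), hsqr,
        ← Ideal.map_map (I := RingHom.ker (algebraMap B E)), hK, hkerq]
    have hR : (Ideal.ofList ((rs.map (algebraMap A B) ++ gs).map (algebraMap B B'))).map
        (Ideal.Quotient.mk ((I.map (algebraMap A B)).map (algebraMap B B'))) =
        Ideal.ofList ((gs.map (Ideal.Quotient.mk (I.map (algebraMap A B)))).map
          (algebraMap (B ⧸ I.map (algebraMap A B)) (B' ⧸ (I.map (algebraMap A B)).map
            (algebraMap B B')))) := by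
      rw [List.map_append, Ideal.ofList_append, Ideal.map_sup, hofl, Ideal.map_quotient_self,
        bot_sup_eq, Ideal.map_ofList, hsq]
    have hcm : ∀ J : Ideal B', (I.map (algebraMap A B)).map (algebraMap B B') ≤ J →
        (J.map (Ideal.Quotient.mk ((I.map (algebraMap A B)).map (algebraMap B B')))).comap
          (Ideal.Quotient.mk ((I.map (algebraMap A B)).map (algebraMap B B'))) = J := by
      intro J hJ
      rw [Ideal.comap_map_of_surjective _ Ideal.Quotient.mk_surjective, ← RingHom.ker_eq_comap_bot,
        Ideal.mk_ker, sup_eq_left.2 hJ]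
    rw [← hcm _ (Ideal.map_mono hIBle), hL, ← hR, hcm]
    rw [List.map_append, Ideal.ofList_append, hofl]
    exact le_sup_left

end Groth.Agent.Lib.Helper35.SmoothPairReg2
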