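import Groth.Agent.Lib.Helper35.JacobianDivisor
import Groth.Agent.S0501

set_option autoImplicit false
set_option linter.style.haveILetI false
set_option maxHeartbeats 800000
set_option backward.isDefEq.respectTransparency.types false
universe u

namespace Groth.Agent.Lib.Helper35.SmoothSection

open TensorProduct IsLocalRing KaehlerDifferential Groth.Agent.Lib.Helper35.JacobianPair
open Groth.Agent.Lib.Helper35

/-- **Sections of smooth algebras over henselian local rings.** -/
theorem exists_section_of_henselian (A : Type u) [CommRing A] [HenselianLocalRing A]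
    (B : Type u) [CommRing B] [Algebra A B] [Algebra.Smooth A B]
    (ū : B →+* ResidueField A) (hū : ū.comp (algebraMap A B) = residue A) :
    ∃ σ : B →+* A, σ.comp (algebraMap A B) = RingHom.id A ∧ (residue A).comp σ = ū := by
  classical
  obtain ⟨q, hq⟩ : ∃ q : Ideal B, q = RingHom.ker ū := ⟨_, rfl⟩
  haveI : q.IsPrime := hq ▸ RingHom.ker_isPrime ū
  haveI : Algebra.FinitePresentation A B := inferInstance
  haveI : Algebra.FormallySmooth B (Localization.AtPrime q) :=
    Algebra.FormallySmooth.of_isLocalization q.primeCompl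
  haveI : Algebra.FormallySmooth A (Localization.AtPrime q) :=
    Algebra.FormallySmooth.comp A B (Localization.AtPrime q)
  haveI : Algebra.EssFiniteType B (Localization.AtPrime q) :=
    Algebra.EssFiniteType.of_isLocalization (Localization.AtPrime q) q.primeCompl
  haveI : Algebra.EssFiniteType A (Localization.AtPrime q) :=
    Algebra.EssFiniteType.comp A B (Localization.AtPrime q)
  have hTspan : Submodule.span (ResidueField (Localization.AtPrime q)) (Set.range fun b : B =>
      (1 : ResidueField (Localization.AtPrime q)) ⊗ₜ[Localization.AtPrime q]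
        D A (Localization.AtPrime q) (algebraMap B (Localization.AtPrime q) b)) = ⊤ := by
    have h0 := KaehlerDifferential.span_range_map_derivation_of_isLocalization A B
      (Localization.AtPrime q) q.primeCompl
    have heq : (⇑(KaehlerDifferential.map A A B (Localization.AtPrime q)) ∘ ⇑(D A B)) =
        fun b : B => D A (Localization.AtPrime q) (algebraMap B (Localization.AtPrime q) b) :=
      funext fun b => by rw [Function.comp_apply, KaehlerDifferential.map_D]
    rw [heq] at h0
    exact JacobianPoint.span_tmul_eq_top _ h0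
  obtain ⟨m, w, hwT, hbij⟩ := exists_extend_basis
    (fun i : Fin 0 => (i.elim0 : ResidueField (Localization.AtPrime q) ⊗[Localization.AtPrime q]
      Ω[Localization.AtPrime q⁄A])) linearIndependent_empty_type _ hTspan
  choose g' hg' using hwT
  let x : ULift.{u} (Fin 0 ⊕ Fin m) → B := fun j => Sum.elim (fun i => i.elim0) g' j.down
  have hbij' := bijective_linearCombination_comp_equiv _ hbij (Equiv.ulift.{u})
  have hcomp : (Sum.elim (fun i : Fin 0 => (i.elim0 : ResidueField (Localization.AtPrime q)
      ⊗[Localization.AtPrime q] Ω[Localization.AtPrime q⁄A])) w ∘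
      ⇑(Equiv.ulift.{u} : ULift.{u} (Fin 0 ⊕ Fin m) ≃ Fin 0 ⊕ Fin m)) =
      fun j : ULift.{u} (Fin 0 ⊕ Fin m) => (1 : ResidueField (Localization.AtPrime q))
        ⊗ₜ[Localization.AtPrime q]
        D A (Localization.AtPrime q) (algebraMap B (Localization.AtPrime q) (x j)) := by
    funext j
    rcases j with ⟨j | j⟩
    · exact j.elim0
    · exact (hg' j).symm
  rw [hcomp] at hbij'
  obtain ⟨f₁, hf₁, h1⟩ := JacobianDivisor.exists_etale_chart_loc A B q (Localization.AtPrime q)
    x hbij'
  have hét := h1 f₁ dvd_rfl (Localization.Away f₁)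
  -- extend `ū` to `B' = B[1/f₁]`
  have hu : IsUnit (ū f₁) := by
    rw [isUnit_iff_ne_zero]
    intro h0
    exact hf₁ (hq ▸ RingHom.mem_ker.mpr h0)
  obtain ⟨ū', hū'⟩ : ∃ ū' : Localization.Away f₁ →+* ResidueField A,
      ∀ b, ū' (algebraMap B (Localization.Away f₁) b) = ū b :=
    ⟨IsLocalization.Away.lift f₁ hu, fun b => IsLocalization.Away.lift_eq f₁ hu b⟩
  choose a ha using fun j => residue_surjective (ū (x j))
  letI algPB' : Algebra (MvPolynomial (ULift.{u} (Fin 0 ⊕ Fin m)) A) (Localization.Away f₁) :=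
    (MvPolynomial.eval₂Hom ((algebraMap B (Localization.Away f₁)).comp (algebraMap A B))
      (fun i => algebraMap B (Localization.Away f₁) (x i))).toAlgebra
  haveI : Algebra.Etale (MvPolynomial (ULift.{u} (Fin 0 ⊕ Fin m)) A) (Localization.Away f₁) :=
    RingHom.etale_algebraMap.mp hét
  letI algPA : Algebra (MvPolynomial (ULift.{u} (Fin 0 ⊕ Fin m)) A) A :=
    (MvPolynomial.aeval a : MvPolynomial (ULift.{u} (Fin 0 ⊕ Fin m)) A →ₐ[A] A).toRingHom.toAlgebra
  obtain ⟨q', hq'⟩ : ∃ q' : Ideal (Localization.Away f₁), q' = RingHom.ker ū' := ⟨_, rfl⟩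
  haveI : q'.IsPrime := hq' ▸ RingHom.ker_isPrime ū'
  have hf₂ : q'.primeCompl ≤ (IsUnit.submonoid (ResidueField A)).comap ū' := by
    intro b hb
    show IsUnit (ū' b)
    rw [isUnit_iff_ne_zero]
    intro h0
    exact hb (hq' ▸ RingHom.mem_ker.mpr h0)
  obtain ⟨τ, hτd⟩ : ∃ τ : q'.ResidueField →+* ResidueField A,
      ∀ b, τ (algebraMap (Localization.Away f₁) q'.ResidueField b) = ū' b :=
    ⟨Ideal.ResidueField.lift q' ū' (hq' ▸ le_rfl) hf₂,
      fun b => Ideal.ResidueField.lift_algebraMap _ _ _ hf₂ b⟩
  have hτ : τ.comp (algebraMap (MvPolynomial (ULift.{u} (Fin 0 ⊕ Fin m)) A) q'.ResidueField) =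
      (residue A).comp (algebraMap (MvPolynomial (ULift.{u} (Fin 0 ⊕ Fin m)) A) A) := by
    apply MvPolynomial.ringHom_ext
    · intro r
      rw [RingHom.comp_apply, RingHom.comp_apply,
        IsScalarTower.algebraMap_apply (MvPolynomial (ULift.{u} (Fin 0 ⊕ Fin m)) A)
          (Localization.Away f₁) q'.ResidueField, hτd]
      have e1 : algebraMap (MvPolynomial (ULift.{u} (Fin 0 ⊕ Fin m)) A) (Localization.Away f₁)
          (MvPolynomial.C r) = algebraMap B (Localization.Away f₁) (algebraMap A B r) :=
        MvPolynomial.eval₂Hom_C _ _ r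
      have e2 : algebraMap (MvPolynomial (ULift.{u} (Fin 0 ⊕ Fin m)) A) A (MvPolynomial.C r) = r :=
        MvPolynomial.aeval_C _ r
      rw [e1, e2, hū']
      exact congr($hū r)
    · intro i
      rw [RingHom.comp_apply, RingHom.comp_apply,
        IsScalarTower.algebraMap_apply (MvPolynomial (ULift.{u} (Fin 0 ⊕ Fin m)) A)
          (Localization.Away f₁) q'.ResidueField, hτd]
      have e1 : algebraMap (MvPolynomial (ULift.{u} (Fin 0 ⊕ Fin m)) A) (Localization.Away f₁)
          (MvPolynomial.X i) = algebraMap B (Localization.Away f₁) (x i) :=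
        MvPolynomial.eval₂Hom_X' _ _ i
      have e2 : algebraMap (MvPolynomial (ULift.{u} (Fin 0 ⊕ Fin m)) A) A (MvPolynomial.X i) = a i :=
        MvPolynomial.aeval_X _ i
      rw [e1, e2, hū', ha]
  obtain ⟨σ', ⟨-, hσ2⟩, -⟩ := Groth.Agent.S0501.result
    (MvPolynomial (ULift.{u} (Fin 0 ⊕ Fin m)) A) A (Localization.Away f₁) q' τ hτ
  refine ⟨σ'.toRingHom.comp (algebraMap B (Localization.Away f₁)), ?_, ?_⟩
  · ext r
    have e1 : algebraMap (MvPolynomial (ULift.{u} (Fin 0 ⊕ Fin m)) A) (Localization.Away f₁)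
        (MvPolynomial.C r) = algebraMap B (Localization.Away f₁) (algebraMap A B r) :=
      MvPolynomial.eval₂Hom_C _ _ r
    have e2 : algebraMap (MvPolynomial (ULift.{u} (Fin 0 ⊕ Fin m)) A) A (MvPolynomial.C r) = r :=
      MvPolynomial.aeval_C _ r
    show σ' (algebraMap B (Localization.Away f₁) (algebraMap A B r)) = r
    rw [← e1, σ'.commutes, e2]
  · ext b
    show residue A (σ' (algebraMap B (Localization.Away f₁) b)) = ū b
    rw [hσ2, hτd, hū']

end Groth.Agent.Lib.Helper35.SmoothSection
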