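import Groth.Agent.Lib.Helper35.FiberSmoothRing
import Mathlib.RingTheory.Etale.Locus
import Mathlib.RingTheory.LocalRing.Module

set_option autoImplicit false
set_option maxHeartbeats 400000
set_option backward.isDefEq.respectTransparency.types false
universe u

namespace Groth.Agent.Lib.Helper35.SmoothSlice

open IsLocalRing TensorProduct KaehlerDifferential

/-- every element of `κ ⊗ Ω[C/B]` is `1 ⊗ d g` with `g` in the maximal ideal, when `κ` is
formally unramified over `B`. -/
theorem exists_D_eq {B C : Type u} [CommRing B] [CommRing C] [IsLocalRing C] [Algebra B C]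
    [Algebra.FormallyUnramified B (ResidueField C)] (v : ResidueField C ⊗[C] Ω[C⁄B]) :
    ∃ g ∈ maximalIdeal C, (1 : ResidueField C) ⊗ₜ[C] D B C g = v := by
  have hsurj : Function.Surjective (algebraMap C (ResidueField C)) := residue_surjective
  have hex := KaehlerDifferential.exact_kerCotangentToTensor_mapBaseChange B C (ResidueField C) hsurj
  have h0 : KaehlerDifferential.mapBaseChange B C (ResidueField C) v = 0 := Subsingleton.elim _ _
  obtain ⟨t, rfl⟩ := (hex v).mp h0
  obtain ⟨⟨c, hc⟩, rfl⟩ := Ideal.toCotangent_surjective _ t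
  refine ⟨c, ?_, ?_⟩
  · have h1 : residue C c = 0 := by
      rw [← ResidueField.algebraMap_eq]; exact RingHom.mem_ker.mp hc
    exact (residue_eq_zero_iff _).mp h1
  · rw [KaehlerDifferential.kerCotangentToTensor_toCotangent]

/-- image of `m • ⊤` under the map of differentials induced by a local homomorphism. -/
theorem map_mem_smul_top {R P P' : Type u} [CommRing R] [CommRing P] [CommRing P']
    [IsLocalRing P] [IsLocalRing P'] [Algebra R P] [Algebra R P'] [Algebra P P']
    [IsScalarTower R P P'] [IsLocalHom (algebraMap P P')] (ω : Ω[P⁄R])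
    (hω : ω ∈ maximalIdeal P • (⊤ : Submodule P Ω[P⁄R])) :
    KaehlerDifferential.map R R P P' ω ∈ maximalIdeal P' • (⊤ : Submodule P' Ω[P'⁄R]) := by
  have hmax : ∀ p ∈ maximalIdeal P, algebraMap P P' p ∈ maximalIdeal P' := by
    intro p hp
    rw [← maximalIdeal_comap (algebraMap P P')] at hp
    exact hp
  refine Submodule.smul_induction_on hω (fun p hp ω _ => ?_) (fun x y hx hy => ?_)
  · rw [map_smul, ← algebraMap_smul P' p]
    exact Submodule.smul_mem_smul (hmax p hp) Submodule.mem_top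
  · rw [map_add]
    exact add_mem hx hy

/-- **Étale slice, ring form**: a local ring `C` formally smooth over `B` with finite free
differentials and residue field formally unramified over `B` has a quotient by elements of the
maximal ideal which is formally étale over `B`. -/
theorem exists_slice {B C : Type u} [CommRing B] [CommRing C] [IsLocalRing C] [Algebra B C]
    [Algebra.FormallySmooth B C] [Module.Free C Ω[C⁄B]] [Module.Finite C Ω[C⁄B]]
    [Algebra.FormallyUnramified B (ResidueField C)] :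
    ∃ (n : ℕ) (g : Fin n → C), (∀ i, g i ∈ maximalIdeal C) ∧
      Algebra.FormallyEtale B (C ⧸ Ideal.span (Set.range g)) := by
  classical
  have hsurj : Function.Surjective (algebraMap C (ResidueField C)) := residue_surjective
  have hker : RingHom.ker (algebraMap C (ResidueField C)) = maximalIdeal C := by
    rw [ResidueField.algebraMap_eq, ker_residue]
  obtain ⟨n, hn⟩ : ∃ n, n = Module.finrank (ResidueField C) (ResidueField C ⊗[C] Ω[C⁄B]) := ⟨_, rfl⟩
  let b : Module.Basis (Fin n) (ResidueField C) (ResidueField C ⊗[C] Ω[C⁄B]) :=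
    (Module.finBasis (ResidueField C) (ResidueField C ⊗[C] Ω[C⁄B])).reindex (finCongr hn.symm)
  choose g hgm hgb using fun i => exists_D_eq (B := B) (C := C) (b i)
  refine ⟨n, g, hgm, ?_⟩
  obtain ⟨I, hI⟩ : ∃ I : Ideal C, I = Ideal.span (Set.range g) := ⟨_, rfl⟩
  rw [← hI]
  have hIm : I ≤ maximalIdeal C := by
    rw [hI, Ideal.span_le]
    rintro _ ⟨i, rfl⟩
    exact hgm i
  have hgI : ∀ i, g i ∈ I := fun i => hI ▸ Ideal.subset_span ⟨i, rfl⟩
  haveI : Nontrivial (C ⧸ I) :=
    Ideal.Quotient.nontrivial_iff.mpr (fun h => (maximalIdeal.isMaximal C).ne_top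
      (top_le_iff.mp (h ▸ hIm)))
  haveI : IsLocalRing (C ⧸ I) :=
    IsLocalRing.of_surjective' (Ideal.Quotient.mk _) Ideal.Quotient.mk_surjective
  have hkerI : RingHom.ker (algebraMap C (C ⧸ I)) = I := by
    rw [Ideal.Quotient.algebraMap_eq, Ideal.mk_ker]
  have hσ : Function.Surjective (algebraMap C (C ⧸ I)) := by
    rw [Ideal.Quotient.algebraMap_eq]; exact Ideal.Quotient.mk_surjective
  -- key computation
  have hcomp : ∀ a : Fin n → C, (1 : ResidueField C) ⊗ₜ[C] D B C (∑ i, a i * g i) =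
      ∑ i, residue C (a i) • b i := by
    intro a
    rw [map_sum, tmul_sum]
    refine Finset.sum_congr rfl fun i _ => ?_
    rw [Derivation.leibniz, tmul_add, ← hgb i, tmul_smul, tmul_smul, smul_tmul', smul_tmul',
      Algebra.smul_def, Algebra.smul_def, mul_one, mul_one, ResidueField.algebraMap_eq,
      (residue_eq_zero_iff _).mpr (hgm i), zero_tmul, add_zero, smul_tmul', smul_eq_mul, mul_one]
  rw [Algebra.FormallyEtale.iff_formallyUnramified_and_formallySmooth]
  constructor
  · -- formally unramified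
    refine ⟨?_⟩
    haveI : IsLocalHom (algebraMap C (C ⧸ I)) := IsLocalHom.of_surjective _ hσ
    haveI : Module.Finite (C ⧸ I) Ω[(C ⧸ I)⁄B] :=
      Module.Finite.of_surjective (KaehlerDifferential.mapBaseChange B C (C ⧸ I))
        (KaehlerDifferential.mapBaseChange_surjective B C (C ⧸ I) hσ)
    have hD : ∀ c : C, D B (C ⧸ I) (algebraMap C (C ⧸ I) c) ∈
        maximalIdeal (C ⧸ I) • (⊤ : Submodule (C ⧸ I) Ω[(C ⧸ I)⁄B]) := by
      intro c
      obtain ⟨a, ha⟩ : ∃ a : Fin n → C, (1 : ResidueField C) ⊗ₜ[C] D B C c =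
          ∑ i, residue C (a i) • b i := by
        have := b.sum_repr ((1 : ResidueField C) ⊗ₜ[C] D B C c)
        choose a ha using fun i => residue_surjective (b.repr ((1 : ResidueField C) ⊗ₜ[C] D B C c) i)
        exact ⟨a, by simp_rw [ha]; exact this.symm⟩
      have h1 : (1 : ResidueField C) ⊗ₜ[C] D B C (c - ∑ i, a i * g i) = 0 := by
        rw [map_sub, tmul_sub, hcomp, ha, sub_self]
      rw [one_tmul_eq_zero_iff hsurj, hker] at h1
      have h2 := map_mem_smul_top (R := B) (P' := C ⧸ I) _ h1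
      rw [KaehlerDifferential.map_D, map_sub, map_sum] at h2
      have h3 : ∑ i, algebraMap C (C ⧸ I) (a i * g i) = 0 := by
        refine Finset.sum_eq_zero fun i _ => ?_
        rw [Ideal.Quotient.algebraMap_eq, Ideal.Quotient.eq_zero_iff_mem]
        exact I.mul_mem_left _ (hgI i)
      rwa [h3, sub_zero] at h2
    have htop : (⊤ : Submodule (C ⧸ I) Ω[(C ⧸ I)⁄B]) ≤
        maximalIdeal (C ⧸ I) • (⊤ : Submodule (C ⧸ I) Ω[(C ⧸ I)⁄B]) := by
      have h : Submodule.span (C ⧸ I) (Set.range (D B (C ⧸ I))) ≤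
          maximalIdeal (C ⧸ I) • (⊤ : Submodule (C ⧸ I) Ω[(C ⧸ I)⁄B]) := by
        rw [Submodule.span_le]
        rintro _ ⟨d, rfl⟩
        obtain ⟨c, rfl⟩ := hσ d
        exact hD c
      rwa [KaehlerDifferential.span_range_derivation] at h
    have hbot := Submodule.eq_bot_of_le_smul_of_le_jacobson_bot (maximalIdeal (C ⧸ I)) ⊤
      (Module.Finite.fg_top) htop (IsLocalRing.maximalIdeal_le_jacobson _)
    exact (Submodule.subsingleton_iff (C ⧸ I)).mp (subsingleton_of_bot_eq_top hbot.symm)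
  · -- formally smooth
    rw [FiberSmoothRing.formallySmooth_iff_forall_mem (A := B) (P := C) (B := C ⧸ I) hσ
      (by rw [hkerI, hI]; exact ⟨Finset.univ.image g, by simp⟩)]
    intro c hc hDc
    rw [hkerI] at hc ⊢
    rw [hI] at hc
    obtain ⟨a, rfl⟩ := (Ideal.mem_span_range_iff_exists_fun).mp hc
    have h1 : (1 : ResidueField C) ⊗ₜ[C] D B C (∑ i, a i * g i) = 0 := by
      rw [one_tmul_eq_zero_iff hsurj, hker]; exact hDc
    rw [hcomp] at h1
    have h2 := fun i => (Fintype.linearIndependent_iff.mp b.linearIndependent _ h1) i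
    refine Ideal.sum_mem _ fun i _ => ?_
    exact Ideal.mul_mem_mul ((residue_eq_zero_iff _).mp (h2 i)) (hgI i)

/-- **Étale slice, chart form**. -/
theorem exists_slice_chart {B₀ C₀ C : Type u} [CommRing B₀] [CommRing C₀] [CommRing C]
    [Algebra B₀ C₀] [Algebra.Smooth B₀ C₀]
    (q : Ideal C₀) [q.IsPrime] [Algebra C₀ C] [IsLocalization.AtPrime C q] [IsLocalRing C]
    [Algebra B₀ C] [IsScalarTower B₀ C₀ C]
    [Algebra.FormallyUnramified B₀ (ResidueField C)] :
    ∃ (J₀ : Ideal C₀) (t : C₀), J₀ ≤ q ∧ t ∉ q ∧ J₀.FG ∧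
      Algebra.Etale B₀ (Localization.Away (Ideal.Quotient.mk J₀ t)) ∧
      ∃ P : Ideal (Localization.Away (Ideal.Quotient.mk J₀ t)), P.IsPrime ∧
        P.comap ((algebraMap (C₀ ⧸ J₀) (Localization.Away (Ideal.Quotient.mk J₀ t))).comp
          (Ideal.Quotient.mk J₀)) = q := by
  classical
  haveI : Algebra.FormallySmooth C₀ C := Algebra.FormallySmooth.of_isLocalization q.primeCompl
  haveI : Algebra.FormallyEtale C₀ C := Algebra.FormallyEtale.of_isLocalization q.primeCompl
  haveI : Algebra.FormallySmooth B₀ C := Algebra.FormallySmooth.comp B₀ C₀ C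
  let e := KaehlerDifferential.tensorKaehlerEquivOfFormallyEtale B₀ C₀ C
  haveI : Module.Finite C Ω[C⁄B₀] := Module.Finite.equiv e
  haveI : Module.Projective C Ω[C⁄B₀] := Module.Projective.of_equiv e
  haveI : Module.Free C Ω[C⁄B₀] := Module.free_of_flat_of_isLocalRing
  obtain ⟨n, g, hgm, hét⟩ := exists_slice (B := B₀) (C := C)
  choose as has using fun i => IsLocalization.surj q.primeCompl (g i)
  let a : Fin n → C₀ := fun i => (as i).1
  have hu : ∀ i, IsUnit (algebraMap C₀ C ((as i).2 : C₀)) := fun i =>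
    IsLocalization.map_units C (as i).2
  have haq : ∀ i, a i ∈ q := by
    intro i
    rw [← IsLocalization.AtPrime.to_map_mem_maximal_iff C q (a i)]
    show algebraMap C₀ C (as i).1 ∈ maximalIdeal C
    rw [← has i]
    exact Ideal.mul_mem_right _ _ (hgm i)
  obtain ⟨J₀, hJ₀⟩ : ∃ J₀ : Ideal C₀, J₀ = Ideal.span (Set.range a) := ⟨_, rfl⟩
  have hJq : J₀ ≤ q := by
    rw [hJ₀, Ideal.span_le]
    rintro _ ⟨i, rfl⟩
    exact haq i
  have hJfg : J₀.FG := hJ₀ ▸ ⟨Finset.univ.image a, by simp⟩
  have hIJ : Ideal.span (Set.range g) = J₀.map (algebraMap C₀ C) := by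
    rw [hJ₀, Ideal.map_span]
    apply le_antisymm
    · rw [Ideal.span_le]
      rintro _ ⟨i, rfl⟩
      obtain ⟨u, hu'⟩ := hu i
      have h1 : g i = algebraMap C₀ C (a i) * ↑u⁻¹ := by
        rw [← has i, ← hu', mul_assoc, Units.mul_inv, mul_one]
      rw [h1]
      exact Ideal.mul_mem_right _ _ (Ideal.subset_span ⟨a i, ⟨i, rfl⟩, rfl⟩)
    · rw [Ideal.span_le]
      rintro _ ⟨_, ⟨i, rfl⟩, rfl⟩
      show algebraMap C₀ C (as i).1 ∈ _
      rw [← has i]
      exact Ideal.mul_mem_right _ _ (Ideal.subset_span ⟨i, rfl⟩)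
  -- the quotient chart
  obtain ⟨qb, hqb⟩ : ∃ qb : Ideal (C₀ ⧸ J₀), qb = q.map (Ideal.Quotient.mk J₀) := ⟨_, rfl⟩
  haveI hqbp : qb.IsPrime := by
    rw [hqb]
    exact Ideal.map_isPrime_of_surjective Ideal.Quotient.mk_surjective (by rwa [Ideal.mk_ker])
  have hmem : ∀ y : C₀, Ideal.Quotient.mk J₀ y ∈ qb ↔ y ∈ q := by
    intro y
    rw [hqb]
    constructor
    · intro hy
      have := Ideal.mem_comap.mpr hy
      rwa [Ideal.comap_map_of_surjective _ Ideal.Quotient.mk_surjective, ← RingHom.ker_eq_comap_bot,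
        Ideal.mk_ker, sup_eq_left.mpr hJq] at this
    · exact fun hy => Ideal.mem_map_of_mem _ hy
  have hsub : Algebra.algebraMapSubmonoid (C₀ ⧸ J₀) q.primeCompl = qb.primeCompl := by
    ext y
    obtain ⟨y, rfl⟩ := Ideal.Quotient.mk_surjective y
    constructor
    · rintro ⟨y', hy', hyy'⟩
      show _ ∉ qb
      rw [← hyy', Ideal.Quotient.algebraMap_eq, hmem]
      exact hy'
    · intro hy
      exact ⟨y, fun h => hy ((hmem y).mpr h), rfl⟩
  haveI hloc : IsLocalization.AtPrime (C ⧸ J₀.map (algebraMap C₀ C)) qb := by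
    show IsLocalization qb.primeCompl _
    rw [← hsub]
    infer_instance
  haveI : Algebra.FormallyEtale B₀ (C ⧸ J₀.map (algebraMap C₀ C)) :=
    Algebra.FormallyEtale.of_equiv (Ideal.quotientEquivAlgOfEq B₀ hIJ)
  haveI : Algebra.FinitePresentation B₀ (C₀ ⧸ J₀) := Algebra.FinitePresentation.quotient hJfg
  haveI : IsScalarTower B₀ (C₀ ⧸ J₀) (C ⧸ J₀.map (algebraMap C₀ C)) := by
    refine IsScalarTower.of_algebraMap_eq fun b => ?_
    show Ideal.Quotient.mk _ (algebraMap B₀ C b) = _
    rw [IsScalarTower.algebraMap_apply B₀ C₀ C]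
    rfl
  haveI : Algebra.IsEtaleAt B₀ qb := by
    show Algebra.FormallyEtale B₀ (Localization.AtPrime qb)
    exact Algebra.FormallyEtale.of_equiv
      ((IsLocalization.algEquiv qb.primeCompl (C ⧸ J₀.map (algebraMap C₀ C))
        (Localization.AtPrime qb)).restrictScalars B₀)
  obtain ⟨tb, htb, hét'⟩ := Algebra.exists_etale_of_isEtaleAt (R := B₀) qb
  obtain ⟨t, rfl⟩ := Ideal.Quotient.mk_surjective tb
  refine ⟨J₀, t, hJq, fun h => htb ((hmem t).mpr h), hJfg, hét', ?_⟩
  have hdisj : Disjoint (Submonoid.powers (Ideal.Quotient.mk J₀ t) : Set (C₀ ⧸ J₀)) ↑qb :=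
    (Ideal.disjoint_powers_iff_notMem_of_isPrime _).mpr htb
  refine ⟨qb.map (algebraMap (C₀ ⧸ J₀) (Localization.Away (Ideal.Quotient.mk J₀ t))),
    IsLocalization.isPrime_of_isPrime_disjoint (Submonoid.powers (Ideal.Quotient.mk J₀ t)) _ qb
      hqbp hdisj, ?_⟩
  have hunder : (qb.map (algebraMap (C₀ ⧸ J₀) (Localization.Away (Ideal.Quotient.mk J₀ t)))).comap
      (algebraMap (C₀ ⧸ J₀) (Localization.Away (Ideal.Quotient.mk J₀ t))) = qb :=
    IsLocalization.under_map_of_isPrime_disjoint (Submonoid.powers (Ideal.Quotient.mk J₀ t)) _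
      hqbp hdisj
  rw [← Ideal.comap_comap, hunder]
  ext y
  rw [Ideal.mem_comap, hmem]

end Groth.Agent.Lib.Helper35.SmoothSlice
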