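import Groth.Agent.Lib.Helper35.SmoothSlice
import Mathlib.AlgebraicGeometry.Morphisms.Smooth
import Mathlib.AlgebraicGeometry.Morphisms.Etale
import Mathlib.AlgebraicGeometry.Morphisms.Immersion
import Mathlib.AlgebraicGeometry.Morphisms.QuasiFinite
import Mathlib.RingTheory.Unramified.LocalStructure

set_option autoImplicit false
set_option maxHeartbeats 400000
set_option backward.isDefEq.respectTransparency.types false
universe u
open CategoryTheory CategoryTheory.Limits AlgebraicGeometry TopologicalSpace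

namespace Groth.Agent.Lib.Helper35.SmoothSliceScheme

open IsLocalRing

/-- étale morphisms are locally quasi-finite. -/
theorem locallyQuasiFinite_of_etale {A B : Scheme.{u}} (e : A ⟶ B) [Etale e] :
    LocallyQuasiFinite e := by
  rw [HasRingHomProperty.iff_appLE (P := @LocallyQuasiFinite)]
  intro U V hUV
  have h1 : RingHom.Etale (e.appLE U V hUV).hom :=
    HasRingHomProperty.appLE (P := @Etale) e inferInstance U V hUV
  algebraize [(e.appLE U V hUV).hom]
  have : Algebra.Etale Γ(B, U) Γ(A, V) := RingHom.etale_algebraMap.1 h1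
  have : Algebra.QuasiFinite Γ(B, U) Γ(A, V) := inferInstance
  exact RingHom.quasiFinite_algebraMap.2 this

/-- shrink an étale immersed subscheme so that it meets the fibre in a single point. -/
theorem exists_isolating {X S Z : Scheme.{u}} (f : X ⟶ S) (i : Z ⟶ X) [IsImmersion i]
    [Etale (i ≫ f)] (z : Z) :
    ∃ (Z' : Scheme.{u}) (i' : Z' ⟶ X) (z' : Z'), IsImmersion i' ∧ Etale (i' ≫ f) ∧ i' z' = i z ∧
      ∀ w : Z', f (i' w) = f (i z) → w = z' := by
  haveI := locallyQuasiFinite_of_etale (i ≫ f)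
  have hdisc := (i ≫ f).isDiscrete_preimage_singleton (f (i z))
  rw [isDiscrete_iff_forall_mem_exists_isOpen] at hdisc
  obtain ⟨u, hu, huz⟩ := hdisc z rfl
  let W : Z.Opens := ⟨u, hu⟩
  have hzW : z ∈ W := by
    have : z ∈ u ∩ (i ≫ f) ⁻¹' {f (i z)} := by rw [huz]; rfl
    exact this.1
  refine ⟨W, W.ι ≫ i, ⟨z, hzW⟩, inferInstance, ?_, rfl, ?_⟩
  · rw [Category.assoc]; infer_instance
  · intro w hw
    have : (W.ι w) ∈ u ∩ (i ≫ f) ⁻¹' {f (i z)} := ⟨w.2, hw⟩
    rw [huz] at this
    exact Subtype.ext this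

/-- **Étale slice** of a smooth morphism through a point with formally unramified residue field
extension. -/
theorem exists_etale_slice {X S : Scheme.{u}} (f : X ⟶ S) [Smooth f] (x : X)
    (hunr : letI := (f.residueFieldMap x).hom.toAlgebra
      Algebra.FormallyUnramified (S.residueField (f x)) (X.residueField x)) :
    ∃ (Z : Scheme.{u}) (i : Z ⟶ X) (z : Z), IsImmersion i ∧ Etale (i ≫ f) ∧ i z = x ∧
      ∀ z' : Z, f (i z') = f x → z' = z := by
  obtain ⟨_, ⟨U, hU, rfl⟩, hxU, -⟩ :=
    S.isBasis_affineOpens.exists_subset_of_mem_open (Set.mem_univ (f x)) isOpen_univ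
  obtain ⟨_, ⟨V, hV, rfl⟩, hxV, hVU⟩ :=
    X.isBasis_affineOpens.exists_subset_of_mem_open hxU (U.2.preimage f.continuous)
  have hsm : RingHom.Smooth (f.appLE U V hVU).hom :=
    HasRingHomProperty.appLE (P := @Smooth) f inferInstance ⟨U, hU⟩ ⟨V, hV⟩ hVU
  letI : Algebra Γ(S, U) Γ(X, V) := (f.appLE U V hVU).hom.toAlgebra
  haveI : Algebra.Smooth Γ(S, U) Γ(X, V) := RingHom.smooth_algebraMap.1 hsm
  let q := (hV.primeIdealOf ⟨x, hxV⟩).asIdeal
  let p := (hU.primeIdealOf ⟨f x, hVU hxV⟩).asIdeal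
  letI := X.presheaf.algebra_section_stalk ⟨x, hxV⟩
  haveI := hV.isLocalization_stalk ⟨x, hxV⟩
  letI := S.presheaf.algebra_section_stalk ⟨f x, hVU hxV⟩
  haveI := hU.isLocalization_stalk ⟨f x, hVU hxV⟩
  letI : Algebra Γ(S, U) (X.presheaf.stalk x) :=
    ((algebraMap Γ(X, V) (X.presheaf.stalk x)).comp (algebraMap Γ(S, U) Γ(X, V))).toAlgebra
  haveI : IsScalarTower Γ(S, U) Γ(X, V) (X.presheaf.stalk x) := IsScalarTower.of_algebraMap_eq' rfl
  -- residue fields
  letI : Algebra (ResidueField (S.presheaf.stalk (f x))) (ResidueField (X.presheaf.stalk x)) :=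
    (f.residueFieldMap x).hom.toAlgebra
  haveI : Algebra.FormallyUnramified (ResidueField (S.presheaf.stalk (f x)))
    (ResidueField (X.presheaf.stalk x)) := hunr
  haveI : Algebra.FormallyUnramified Γ(S, U) (S.presheaf.stalk (f x)) :=
    Algebra.FormallyUnramified.of_isLocalization p.primeCompl
  haveI : Algebra.FormallyUnramified (S.presheaf.stalk (f x)) (ResidueField (S.presheaf.stalk (f x))) :=
    Algebra.FormallyUnramified.of_surjective (Algebra.ofId _ _) residue_surjective
  haveI : Algebra.FormallyUnramified Γ(S, U) (ResidueField (S.presheaf.stalk (f x))) :=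
    Algebra.FormallyUnramified.comp Γ(S, U) (S.presheaf.stalk (f x)) _
  haveI : IsScalarTower Γ(S, U) (ResidueField (S.presheaf.stalk (f x)))
      (ResidueField (X.presheaf.stalk x)) := by
    refine IsScalarTower.of_algebraMap_eq fun b => ?_
    show residue _ ((X.presheaf.germ V x hxV).hom ((f.appLE U V hVU).hom b)) =
      (f.residueFieldMap x).hom (residue _ ((S.presheaf.germ U (f x) (hVU hxV)).hom b))
    have h1 : (f.residueFieldMap x).hom (residue _ ((S.presheaf.germ U (f x) (hVU hxV)).hom b)) =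
        residue _ ((f.stalkMap x).hom ((S.presheaf.germ U (f x) (hVU hxV)).hom b)) := rfl
    rw [h1]
    congr 1
    simp only [Scheme.Hom.germ_stalkMap_apply, Scheme.Hom.appLE,
      homOfLE_leOfHom, CommRingCat.hom_comp, RingHom.coe_comp, Function.comp_apply,
      X.presheaf.germ_res_apply]
  haveI : Algebra.FormallyUnramified Γ(S, U) (ResidueField (X.presheaf.stalk x)) :=
    Algebra.FormallyUnramified.comp Γ(S, U) (ResidueField (S.presheaf.stalk (f x))) _
  obtain ⟨J₀, t, hJq, htq, hJfg, hét, P, hP, hPq⟩ :=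
    SmoothSlice.exists_slice_chart (B₀ := Γ(S, U)) (C₀ := Γ(X, V)) (C := X.presheaf.stalk x) q
  let ψ : Γ(X, V) →+* Localization.Away (Ideal.Quotient.mk J₀ t) :=
    (algebraMap (Γ(X, V) ⧸ J₀) (Localization.Away (Ideal.Quotient.mk J₀ t))).comp
      (Ideal.Quotient.mk J₀)
  let i₀ : Spec (CommRingCat.of (Localization.Away (Ideal.Quotient.mk J₀ t))) ⟶ X :=
    Spec.map (CommRingCat.ofHom ψ) ≫ hV.fromSpec
  haveI : IsImmersion i₀ := by
    have h1 : Spec.map (CommRingCat.ofHom ψ) =
        Spec.map (CommRingCat.ofHom (algebraMap (Γ(X, V) ⧸ J₀)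
          (Localization.Away (Ideal.Quotient.mk J₀ t)))) ≫
        Spec.map (CommRingCat.ofHom (Ideal.Quotient.mk J₀)) := by
      rw [← Spec.map_comp]; rfl
    haveI : IsClosedImmersion (Spec.map (CommRingCat.ofHom (Ideal.Quotient.mk J₀))) :=
      IsClosedImmersion.spec_of_surjective _ Ideal.Quotient.mk_surjective
    show IsImmersion (Spec.map _ ≫ hV.fromSpec)
    rw [h1]
    infer_instance
  haveI : Etale (i₀ ≫ f) := by
    have h1 : i₀ ≫ f = Spec.map (CommRingCat.ofHom (algebraMap Γ(S, U)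
        (Localization.Away (Ideal.Quotient.mk J₀ t)))) ≫ hU.fromSpec := by
      show (Spec.map _ ≫ hV.fromSpec) ≫ f = _
      rw [Category.assoc, ← IsAffineOpen.SpecMap_appLE_fromSpec f hU hV hVU, ← Category.assoc,
        ← Spec.map_comp]
      rfl
    rw [h1]
    haveI : Etale (Spec.map (CommRingCat.ofHom (algebraMap Γ(S, U)
        (Localization.Away (Ideal.Quotient.mk J₀ t))))) := by
      rw [HasRingHomProperty.Spec_iff (P := @Etale)]
      exact RingHom.etale_algebraMap.2 hét
    infer_instance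
  let z : Spec (CommRingCat.of (Localization.Away (Ideal.Quotient.mk J₀ t))) := ⟨P, hP⟩
  have hz : i₀ z = x := by
    have h1 : (Spec.map (CommRingCat.ofHom ψ)) z = hV.primeIdealOf ⟨x, hxV⟩ := by
      apply PrimeSpectrum.ext
      exact hPq
    show hV.fromSpec ((Spec.map (CommRingCat.ofHom ψ)) z) = x
    rw [h1]
    exact hV.fromSpec_primeIdealOf ⟨x, hxV⟩
  obtain ⟨Z', i', z', h1, h2, h3, h4⟩ := exists_isolating f i₀ z
  exact ⟨Z', i', z', h1, h2, h3.trans hz, fun w hw => h4 w (by rw [hz]; exact hw)⟩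

end Groth.Agent.Lib.Helper35.SmoothSliceScheme
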