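import Mathlib
import Groth.Agent.Lib.Helper81.ToAffine

/-! Morphisms from the spectrum of a (local) ring into an affine open, in terms of ring maps
(helper35). `ringOf α U e : Γ(X, U) ⟶ R` for `α : Spec R ⟶ X` landing in `U`. -/

set_option autoImplicit false
set_option linter.style.haveILetI false
set_option maxHeartbeats 400000

open CategoryTheory AlgebraicGeometry Limits TopologicalSpace Opposite
open Groth.Agent.Lib.Helper81.ToAffine

universe u
namespace Groth.Agent.Lib.Helper35.SpecToAffine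

variable {X : Scheme.{u}}

/-- a morphism from a local spectrum whose closed point lands in an open lands in that open. -/
theorem preimage_eq_top_of_closedPoint_mem {R : Type u} [CommRing R] [IsLocalRing R]
    (α : Spec (CommRingCat.of R) ⟶ X) (U : X.Opens) (h : α (IsLocalRing.closedPoint R) ∈ U) :
    ⊤ ≤ α ⁻¹ᵁ U := by
  intro p _
  have h1 : p ⤳ IsLocalRing.closedPoint R := IsLocalRing.specializes_closedPoint p
  have h2 : α p ⤳ α (IsLocalRing.closedPoint R) := h1.map α.continuous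
  exact h2.mem_open U.2 h

/-- the ring map attached to a morphism from `Spec R` landing in the open `U`. -/
noncomputable def ringOf {R : CommRingCat.{u}} (α : Spec R ⟶ X) (U : X.Opens)
    (e : ⊤ ≤ α ⁻¹ᵁ U) : Γ(X, U) ⟶ R :=
  α.appLE U ⊤ e ≫ (Scheme.ΓSpecIso R).hom

theorem ext_of_ringOf {U : X.Opens} (hU : IsAffineOpen U) {R : CommRingCat.{u}}
    (α γ : Spec R ⟶ X) (eα : ⊤ ≤ α ⁻¹ᵁ U) (eγ : ⊤ ≤ γ ⁻¹ᵁ U)
    (h : ringOf α U eα = ringOf γ U eγ) : α = γ := by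
  refine hom_ext_of_appLE hU α γ eα eγ ?_
  exact (cancel_mono (Scheme.ΓSpecIso R).hom).mp h

theorem ringOf_SpecMap_comp {R R' : CommRingCat.{u}} (φ : R ⟶ R') (γ : Spec R ⟶ X) (U : X.Opens)
    (e : ⊤ ≤ γ ⁻¹ᵁ U) (e' : ⊤ ≤ (Spec.map φ ≫ γ) ⁻¹ᵁ U) :
    ringOf (Spec.map φ ≫ γ) U e' = ringOf γ U e ≫ φ := by
  unfold ringOf
  rw [← Scheme.Hom.appLE_comp_appLE (Spec.map φ) γ U ⊤ ⊤ e (by simp), Category.assoc,
    Category.assoc]
  congr 1
  rw [← Scheme.ΓSpecIso_naturality]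
  congr 1

theorem ringOf_comp {S : Scheme.{u}} {R : CommRingCat.{u}} (γ : Spec R ⟶ X) (f : X ⟶ S)
    (V : S.Opens) (U : X.Opens) (eU : ⊤ ≤ γ ⁻¹ᵁ U) (hUV : U ≤ f ⁻¹ᵁ V)
    (eV : ⊤ ≤ (γ ≫ f) ⁻¹ᵁ V) :
    ringOf (γ ≫ f) V eV = f.appLE V U hUV ≫ ringOf γ U eU := by
  unfold ringOf
  rw [← Scheme.Hom.appLE_comp_appLE γ f V U ⊤ hUV eU, Category.assoc]

theorem toV_preimage {U : X.Opens} (hU : IsAffineOpen U) {R : CommRingCat.{u}}
    (g : Γ(X, U) ⟶ R) : ⊤ ≤ (toV hU (g ≫ (Scheme.ΓSpecIso R).inv)) ⁻¹ᵁ U :=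
  (toV_range hU _).ge

theorem ringOf_toV {U : X.Opens} (hU : IsAffineOpen U) {R : CommRingCat.{u}}
    (g : Γ(X, U) ⟶ R) :
    ringOf (toV hU (g ≫ (Scheme.ΓSpecIso R).inv)) U (toV_preimage hU g) = g := by
  unfold ringOf
  rw [toV_appLE, Category.assoc, Iso.inv_hom_id, Category.comp_id]

end Groth.Agent.Lib.Helper35.SpecToAffine
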