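import Mathlib

/-!
# Standard étale charts of morphisms étale near a point (helper35)
-/

set_option autoImplicit false
set_option linter.style.haveILetI false
set_option maxHeartbeats 400000
set_option backward.isDefEq.respectTransparency.types false
universe u
open AlgebraicGeometry CategoryTheory Polynomial

namespace Groth.Agent.Lib.Helper35.StdEtaleChart


set_option backward.defeqAttrib.useBackward true in
set_option backward.isDefEq.respectTransparency false in
/-- étale on a neighbourhood of `x` ⇒ a small affine chart around `x` is standard étale over a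
given affine open of the target. -/
theorem exists_isStandardEtale_chart {X Y : Scheme.{u}} (φ : X ⟶ Y) (x : X)
    (V : Y.Opens) (hV : IsAffineOpen V) (hxV : φ x ∈ V)
    (hφ : ∃ W : X.Opens, x ∈ W ∧ Etale (W.ι ≫ φ)) :
    ∃ (U : X.Opens) (_ : IsAffineOpen U) (_ : x ∈ U) (e : U ≤ φ ⁻¹ᵁ V),
      @Algebra.IsStandardEtale Γ(Y, V) Γ(X, U) _ _ (φ.appLE V U e).hom.toAlgebra := by
  obtain ⟨W, hxW, hW⟩ := hφ
  obtain ⟨_, ⟨U₁, hU₁, rfl⟩, hxU₁, hU₁W⟩ :=
    X.isBasis_affineOpens.exists_subset_of_mem_open (show x ∈ ((W ⊓ φ ⁻¹ᵁ V : X.Opens) : Set X)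
      from ⟨hxW, hxV⟩) (W ⊓ φ ⁻¹ᵁ V).2
  obtain ⟨U₁, rfl⟩ : ∃ U' : X.Opens, U' = U₁ := ⟨U₁, rfl⟩
  have hU₁ : IsAffineOpen U₁ := hU₁
  have hU₁W' : U₁ ≤ W := fun y hy => (hU₁W hy).1
  have e₁ : U₁ ≤ φ ⁻¹ᵁ V := fun y hy => (hU₁W hy).2
  -- the ring map is étale
  have hetU : Etale (U₁.ι ≫ φ) := by
    have : U₁.ι ≫ φ = X.homOfLE hU₁W' ≫ (W.ι ≫ φ) := by
      rw [← Category.assoc, Scheme.homOfLE_ι]
    rw [this]
    infer_instance
  have het : (φ.appLE V U₁ e₁).hom.Etale := by
    have h1 := hV.SpecMap_appLE_fromSpec φ hU₁ e₁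
    have h2 : Etale (hU₁.fromSpec ≫ φ) := by
      have : hU₁.fromSpec ≫ φ = hU₁.isoSpec.inv ≫ (U₁.ι ≫ φ) := by
        rw [← Category.assoc]
        rfl
      rw [this]
      infer_instance
    rw [← h1] at h2
    have h3 : Etale (Spec.map (φ.appLE V U₁ e₁)) := Etale.of_comp _ hV.fromSpec
    exact (HasRingHomProperty.Spec_iff (P := @Etale)).mp h3
  algebraize [(φ.appLE V U₁ e₁).hom]
  haveI : Algebra.Etale Γ(Y, V) Γ(X, U₁) := RingHom.etale_algebraMap.mp het
  let Q := (hU₁.primeIdealOf ⟨x, hxU₁⟩).asIdeal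
  obtain ⟨s, hsQ, hs⟩ := Algebra.IsEtaleAt.exists_isStandardEtale (R := Γ(Y, V)) Q
  have hxs : x ∈ X.basicOpen s := by
    rwa [← PrimeSpectrum.mem_basicOpen, IsAffineOpen.primeIdealOf,
      ← hU₁.fromSpec_preimage_basicOpen, Scheme.Hom.mem_preimage, ← Scheme.Hom.comp_apply,
      IsAffineOpen.isoSpec_hom, IsAffineOpen.toSpecΓ_fromSpec] at hsQ
  have hUs : IsAffineOpen (X.basicOpen s) := hU₁.basicOpen s
  have hsV : X.basicOpen s ≤ φ ⁻¹ᵁ V := (X.basicOpen_le s).trans e₁
  refine ⟨X.basicOpen s, hUs, hxs, hsV, ?_⟩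
  have := hU₁.isLocalization_basicOpen s
  letI : Algebra Γ(Y, V) Γ(X, X.basicOpen s) := (φ.appLE V (X.basicOpen s) hsV).hom.toAlgebra
  haveI : IsScalarTower Γ(Y, V) Γ(X, U₁) Γ(X, X.basicOpen s) := by
    refine .of_algebraMap_eq' ?_
    simp only [RingHom.algebraMap_toAlgebra, ← CommRingCat.hom_comp, Scheme.Hom.appLE_map]
  let e := IsLocalization.algEquiv (.powers s) (Localization.Away s) Γ(X, X.basicOpen s)
  exact Algebra.IsStandardEtale.of_equiv (e.restrictScalars Γ(Y, V))


/-- a standard étale algebra is an open piece of `(R[t]/p)[1/p']` for a monic `p`. -/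
theorem exists_openImmersion_adjoinRoot {R B : Type u} [CommRing R] [CommRing B] [Algebra R B]
    [Algebra.IsStandardEtale R B] :
    ∃ (p : R[X]) (_ : p.Monic)
      (θ : Localization.Away (AdjoinRoot.mk p (derivative p)) →ₐ[R] B),
      IsOpenImmersion (Spec.map (CommRingCat.ofHom θ.toRingHom)) := by
  obtain ⟨P⟩ := (inferInstance : Algebra.IsStandardEtale R B).nonempty_standardEtalePresentation
  let A := AdjoinRoot P.f
  let a_d : A := AdjoinRoot.mk P.f (derivative P.f)
  let a_g : A := AdjoinRoot.mk P.f P.g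
  let L := Localization.Away a_d
  let M := Localization.Away a_g
  let ε : B ≃ₐ[R] P.Ring := P.equivRing
  let ε₂ : P.Ring ≃ₐ[R] M := P.equivAwayAdjoinRoot
  have hunit : IsUnit (algebraMap A M a_d) := by
    obtain ⟨p₁, p₂, n, h⟩ := P.cond
    have h1 : a_d * AdjoinRoot.mk P.f p₁ = a_g ^ n := by
      have := congrArg (AdjoinRoot.mk P.f) h
      simpa [a_d, a_g] using this
    have h2 : IsUnit (algebraMap A M (a_g ^ n)) := by
      rw [map_pow]
      exact (IsLocalization.Away.algebraMap_isUnit a_g).pow n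
    rw [← h1, map_mul] at h2
    exact isUnit_of_mul_isUnit_left h2
  let lam : L →ₐ[R] M := IsLocalization.Away.liftAlgHom a_d
    (f := IsScalarTower.toAlgHom R A M) hunit
  have hlam : lam.toRingHom.comp (algebraMap A L) = algebraMap A M := by
    refine RingHom.ext fun a => ?_
    show IsLocalization.Away.lift a_d hunit (algebraMap A L a) = algebraMap A M a
    rw [IsLocalization.Away.lift_eq]
  let θ : L →ₐ[R] B := (ε.symm.toAlgHom.comp ε₂.symm.toAlgHom).comp lam
  refine ⟨P.f, P.monic_f, θ, ?_⟩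
  haveI h1 : IsOpenImmersion (Spec.map (CommRingCat.ofHom lam.toRingHom)) := by
    haveI : IsOpenImmersion (Spec.map (CommRingCat.ofHom lam.toRingHom) ≫
        Spec.map (CommRingCat.ofHom (algebraMap A L))) := by
      rw [← Spec.map_comp, ← CommRingCat.ofHom_comp, hlam]
      infer_instance
    exact IsOpenImmersion.of_comp _ (Spec.map (CommRingCat.ofHom (algebraMap A L)))
  have h2 : Spec.map (CommRingCat.ofHom θ.toRingHom) =
      Spec.map (CommRingCat.ofHom (ε.symm.toAlgHom.comp ε₂.symm.toAlgHom).toRingHom) ≫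
        Spec.map (CommRingCat.ofHom lam.toRingHom) := by
    rw [← Spec.map_comp, ← CommRingCat.ofHom_comp]
    rfl
  haveI : IsIso (Spec.map (CommRingCat.ofHom
      (ε.symm.toAlgHom.comp ε₂.symm.toAlgHom).toRingHom)) := by
    have : IsIso (CommRingCat.ofHom (ε.symm.toAlgHom.comp ε₂.symm.toAlgHom).toRingHom) :=
      inferInstanceAs (IsIso ((ε₂.symm.trans ε.symm).toRingEquiv.toCommRingCatIso.hom))
    infer_instance
  rw [h2]
  infer_instance

end Groth.Agent.Lib.Helper35.StdEtaleChart
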