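import Mathlib
import Groth.Agent.S9169
import Groth.Agent.S9172

set_option autoImplicit false
set_option linter.style.haveILetI false
set_option maxHeartbeats 800000
universe u

namespace Groth.Agent.Lib.Helper35.SyntLift

open MvPolynomial

theorem nonempty_quotEquiv (R : Type u) [CommRing R] (I : Ideal R) (n c : ℕ)
    (F : Fin c → MvPolynomial (Fin n) R) :
    Nonempty (Synt.RelGCIRing (R ⧸ I) n c (fun i => MvPolynomial.map (Ideal.Quotient.mk I) (F i))
      ≃ₐ[R] (Synt.RelGCIRing R n c F ⧸ I.map (algebraMap R (Synt.RelGCIRing R n c F)))) := by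
  set K : Ideal (MvPolynomial (Fin n) R) := Ideal.span (Set.range F) with hK
  set Kb : Ideal (MvPolynomial (Fin n) (R ⧸ I)) :=
    Ideal.span (Set.range (fun i => MvPolynomial.map (Ideal.Quotient.mk I) (F i))) with hKb
  set J : Ideal (MvPolynomial (Fin n) R) := I.map (algebraMap R (MvPolynomial (Fin n) R)) with hJ
  let μ : MvPolynomial (Fin n) R →ₐ[R] MvPolynomial (Fin n) (R ⧸ I) :=
    MvPolynomial.mapAlgHom (Ideal.Quotient.mkₐ R I)
  have hμs : Function.Surjective μ :=
    MvPolynomial.map_surjective (Ideal.Quotient.mk I) Ideal.Quotient.mk_surjective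
  have hμK : K.map μ.toRingHom = Kb := by
    rw [hK, Ideal.map_span, hKb, ← Set.range_comp]
    rfl
  have hkerμ : RingHom.ker μ.toRingHom = J := by
    have := MvPolynomial.ker_map (σ := Fin n) (Ideal.Quotient.mk I)
    rw [Ideal.mk_ker] at this
    exact this
  let θ : MvPolynomial (Fin n) R →ₐ[R] (MvPolynomial (Fin n) (R ⧸ I) ⧸ Kb) :=
    (Ideal.Quotient.mkₐ R Kb).comp μ
  have hθs : Function.Surjective θ := (Ideal.Quotient.mkₐ_surjective R Kb).comp hμs
  have hker : RingHom.ker θ.toRingHom = K ⊔ J := by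
    have h1 : RingHom.ker θ.toRingHom = Kb.comap μ.toRingHom := by
      ext x
      rw [RingHom.mem_ker, Ideal.mem_comap]
      show Ideal.Quotient.mk Kb (μ x) = 0 ↔ _
      rw [Ideal.Quotient.eq_zero_iff_mem]
      rfl
    rw [h1, ← hμK, Ideal.comap_map_of_surjective μ.toRingHom hμs, ← RingHom.ker_eq_comap_bot, hkerμ]
  let e₁ := Ideal.quotientKerAlgEquivOfSurjective hθs
  let e₂ := Ideal.quotientEquivAlgOfEq R hker
  let e₃ := DoubleQuot.quotQuotEquivQuotSupₐ R K J
  have h4 : J.map (Ideal.Quotient.mkₐ R K) =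
      I.map (algebraMap R (MvPolynomial (Fin n) R ⧸ K)) := by
    show (I.map (algebraMap R (MvPolynomial (Fin n) R))).map (Ideal.Quotient.mk K) = _
    rw [Ideal.map_map]
    rfl
  let e₄ := Ideal.quotientEquivAlgOfEq R h4
  exact ⟨e₁.symm.trans (e₂.trans (e₃.symm.trans e₄))⟩


theorem nonempty_quot_away {R A : Type u} [CommRing R] [CommRing A] [Algebra R A] (I : Ideal R)
    (a : A) (ha : Ideal.Quotient.mk (I.map (algebraMap R A)) a = 1) :
    Nonempty ((A ⧸ I.map (algebraMap R A)) ≃ₐ[R]
      (Localization.Away a ⧸ I.map (algebraMap R (Localization.Away a)))) := by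
  set J : Ideal A := I.map (algebraMap R A) with hJ
  set J' : Ideal (Localization.Away a) := I.map (algebraMap R (Localization.Away a)) with hJ'
  have hJJ' : J' = J.map (algebraMap A (Localization.Away a)) := by
    rw [hJ, Ideal.map_map, ← IsScalarTower.algebraMap_eq]
  have hpow : ∀ m : ℕ, Ideal.Quotient.mk J (a ^ m) = 1 := by
    intro m
    rw [map_pow, ha, one_pow]
  have ha' : Ideal.Quotient.mk J' (algebraMap A (Localization.Away a) a) = 1 := by
    rw [← map_one (Ideal.Quotient.mk J'), ← sub_eq_zero, ← map_sub, Ideal.Quotient.eq_zero_iff_mem,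
      ← map_one (algebraMap A (Localization.Away a)), ← map_sub, hJJ']
    apply Ideal.mem_map_of_mem
    rw [← Ideal.Quotient.eq_zero_iff_mem, map_sub, ha, map_one, sub_self]
  let θ : A →ₐ[R] (Localization.Away a ⧸ J') :=
    (Ideal.Quotient.mkₐ R J').comp (IsScalarTower.toAlgHom R A (Localization.Away a))
  have hθ : ∀ x, θ x = Ideal.Quotient.mk J' (algebraMap A (Localization.Away a) x) := fun _ => rfl
  have hθs : Function.Surjective θ := by
    intro z
    obtain ⟨w, rfl⟩ := Ideal.Quotient.mk_surjective z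
    obtain ⟨k, x, hx⟩ := IsLocalization.Away.surj a w
    refine ⟨x, ?_⟩
    rw [hθ, ← hx, map_mul, map_pow, ha', one_pow, mul_one]
  have hker : RingHom.ker θ.toRingHom = J := by
    apply le_antisymm
    · intro x hx
      rw [RingHom.mem_ker] at hx
      have hx' : algebraMap A (Localization.Away a) x ∈ J.map (algebraMap A (Localization.Away a)) := by
        rw [← hJJ', ← Ideal.Quotient.eq_zero_iff_mem]
        exact hx
      rw [IsLocalization.mem_map_algebraMap_iff (Submonoid.powers a)] at hx'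
      obtain ⟨⟨j, s⟩, hjs⟩ := hx'
      obtain ⟨t, ht⟩ := (IsLocalization.eq_iff_exists (Submonoid.powers a) (Localization.Away a)).1
        (show algebraMap A (Localization.Away a) (x * s) = algebraMap A _ (j : A) by
          rw [map_mul]; exact hjs)
      obtain ⟨_, m₁, rfl⟩ := t
      obtain ⟨_, m₂, rfl⟩ := s
      have h1 : a ^ m₁ * (x * a ^ m₂) ∈ J := by
        rw [ht]
        exact Ideal.mul_mem_left _ _ j.2
      rw [← Ideal.Quotient.eq_zero_iff_mem] at h1 ⊢
      rw [map_mul, map_mul, hpow, hpow, one_mul, mul_one] at h1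
      exact h1
    · intro x hx
      rw [RingHom.mem_ker]
      show θ x = 0
      rw [hθ, Ideal.Quotient.eq_zero_iff_mem, hJJ']
      exact Ideal.mem_map_of_mem _ hx
  exact ⟨(Ideal.quotientEquivAlgOfEq R hker.symm).trans
    (Ideal.quotientKerAlgEquivOfSurjective hθs)⟩

theorem nonempty_quot_congr {R A B : Type u} [CommRing R] [CommRing A] [CommRing B] [Algebra R A]
    [Algebra R B] (I : Ideal R) (e : A ≃ₐ[R] B) :
    Nonempty ((A ⧸ I.map (algebraMap R A)) ≃ₐ[R] (B ⧸ I.map (algebraMap R B))) := by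
  refine ⟨Ideal.quotientEquivAlg _ _ e ?_⟩
  rw [Ideal.map_map]
  congr 1
  ext r
  simp

end Groth.Agent.Lib.Helper35.SyntLift
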