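import Mathlib
import Groth.Agent.S9363
import Groth.Agent.Lib.Helper9.SmoothLCI0
import Groth.Agent.Lib.Helper9.LCIComp
import Groth.Agent.Lib.Helper62.GCIField7
import Groth.Agent.S9169

set_option autoImplicit false
set_option linter.style.haveILetI false
set_option maxHeartbeats 800000
universe u

namespace Groth.Agent.Lib.Helper35.SyntStd

open CategoryTheory AlgebraicGeometry

section Ring

/-- a bijective ring map is a local complete intersection (helper48) -/
theorem ringHomLCI_of_bijective {A B : Type u} [CommRing A] [CommRing B] (φ : A →+* B)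
    (hφ : Function.Bijective φ) : @LCI.IsLCI A _ B _ φ.toAlgebra := by
  letI := φ.toAlgebra
  haveI : IsLocalization.Away (1 : A) B :=
    IsLocalization.away_of_isUnit_of_bijective B isUnit_one hφ
  exact Groth.Agent.Lib.Helper9.SmoothLCI.isLCI_of_isLocalizationAway (1 : A) B

/-- transport of syntomic ring maps along an isomorphism of the target -/
theorem isSyntomic_of_target_equiv {A B B' : Type u} [CommRing A] [CommRing B] [CommRing B']
    (φ : A →+* B) (φ' : A →+* B') (σ : B ≃+* B') (h : ∀ a, σ (φ a) = φ' a)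
    (H : @Synt.IsSyntomic A _ B _ φ.toAlgebra) : @Synt.IsSyntomic A _ B' _ φ'.toAlgebra := by
  letI := φ.toAlgebra
  letI := φ'.toAlgebra
  let e : B ≃ₐ[A] B' := { σ with commutes' := h }
  exact Groth.Agent.Lib.Helper62.GCIField.isSyntomic_of_algEquiv e H

/-- transport of syntomic ring maps along an isomorphism of the base -/
theorem isSyntomic_of_base_equiv {A A' B : Type u} [CommRing A] [CommRing A'] [CommRing B]
    (φ : A →+* B) (α : A' ≃+* A)
    (H : @Synt.IsSyntomic A _ B _ φ.toAlgebra) :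
    @Synt.IsSyntomic A' _ B _ (φ.comp α.toRingHom).toAlgebra := by
  letI algAB := φ.toAlgebra
  letI algA'A : Algebra A' A := α.toRingHom.toAlgebra
  letI algA'B := (φ.comp α.toRingHom).toAlgebra
  haveI : IsScalarTower A' A B := IsScalarTower.of_algebraMap_eq fun a => rfl
  rw [Groth.Agent.Lib.Helper8.SyntLCI.isSyntomic_iff] at H ⊢
  obtain ⟨hfl, hlci⟩ := H
  constructor
  · haveI : Module.Flat A' A := by
      have : (algebraMap A' A).Flat := RingHom.Flat.of_bijective α.bijective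
      exact RingHom.flat_algebraMap_iff.1 this
    exact Module.Flat.trans A' A B
  · exact Groth.Agent.Lib.Helper9.LCIComp.isLCI_comp A' A B
      (ringHomLCI_of_bijective α.toRingHom α.bijective) hlci

theorem isSyntomic_of_equiv {A A' B B' : Type u} [CommRing A] [CommRing A'] [CommRing B]
    [CommRing B'] (φ : A →+* B) (φ' : A' →+* B') (α : A ≃+* A') (β : B ≃+* B')
    (h : ∀ a, β (φ a) = φ' (α a))
    (H : @Synt.IsSyntomic A _ B _ φ.toAlgebra) : @Synt.IsSyntomic A' _ B' _ φ'.toAlgebra := by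
  have h1 : @Synt.IsSyntomic A _ B' _ (φ'.comp α.toRingHom).toAlgebra :=
    isSyntomic_of_target_equiv φ (φ'.comp α.toRingHom) β h H
  have h2 := isSyntomic_of_base_equiv (φ'.comp α.toRingHom) α.symm h1
  have h3 : (φ'.comp α.toRingHom).comp α.symm.toRingHom = φ' := by
    ext a
    simp
  rw [h3] at h2
  exact h2


theorem isSyntomic_of_equiv' {A A' B B' : Type u} [CommRing A] [CommRing A'] [CommRing B]
    [CommRing B'] [Algebra A B] (φ' : A' →+* B') (α : A ≃+* A') (β : B ≃+* B')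
    (h : ∀ a, β (algebraMap A B a) = φ' (α a))
    (H : Synt.IsSyntomic A B) : @Synt.IsSyntomic A' _ B' _ φ'.toAlgebra := by
  have key : (algebraMap A B).toAlgebra = (inferInstance : Algebra A B) :=
    Algebra.algebra_ext _ _ (fun r => rfl)
  have H' : @Synt.IsSyntomic A _ B _ (algebraMap A B).toAlgebra := by
    rw [key]
    exact H
  exact isSyntomic_of_equiv (algebraMap A B) φ' α β h H'

end Ring

section Scheme

variable {X S : Scheme.{u}}

theorem comp_ι_appLE (f : X ⟶ S) (U₀ : X.Opens) (V : S.Opens) (W : U₀.toScheme.Opens)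
    (e : W ≤ (U₀.ι ≫ f) ⁻¹ᵁ V) (e' : U₀.ι ''ᵁ W ≤ f ⁻¹ᵁ V) :
    (U₀.ι ≫ f).appLE V W e = f.appLE V (U₀.ι ''ᵁ W) e' := by
  have h2 : U₀.ι.appLE (f ⁻¹ᵁ V) W e = X.presheaf.map (homOfLE e').op :=
    Scheme.Opens.ι_appLE _ _ _ _
  have h1 : (U₀.ι ≫ f).appLE V W e = f.app V ≫ U₀.ι.appLE (f ⁻¹ᵁ V) W e :=
    Scheme.Hom.comp_appLE _ _ _ _ _
  rw [h1, h2]
  rfl

theorem isStandardSyntomic_resLE (f : X ⟶ S) (U : X.affineOpens) (V : S.affineOpens)
    (e : U.1 ≤ f ⁻¹ᵁ V.1) (n c : ℕ) (F : Fin c → MvPolynomial (Fin n) Γ(S, V.1))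
    (hGCI : Synt.IsRelGCI Γ(S, V.1) n c F)
    (β : Synt.RelGCIRing Γ(S, V.1) n c F ≃+* Γ(X, U.1))
    (hβ : ∀ a, β (algebraMap Γ(S, V.1) (Synt.RelGCIRing Γ(S, V.1) n c F) a) =
      (f.appLE V.1 U.1 e).hom a) :
    Synt.IsStandardSyntomic (f.resLE V.1 U.1 e) := by
  refine ⟨Γ(S, V.1), inferInstance, n, c, F, hGCI,
    U.2.isoSpec ≪≫ Scheme.Spec.mapIso (β.toCommRingCatIso.op), V.2.isoSpec, ?_⟩
  have h1 : CommRingCat.ofHom (algebraMap Γ(S, V.1) (Synt.RelGCIRing Γ(S, V.1) n c F)) ≫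
      β.toCommRingCatIso.hom = f.appLE V.1 U.1 e := by
    ext a
    exact hβ a
  simp only [Iso.trans_hom, Functor.mapIso_hom, Iso.op_hom, Scheme.Spec_map, Quiver.Hom.unop_op,
    Category.assoc]
  rw [← Spec.map_comp, h1]
  exact Scheme.Opens.toSpecΓ_SpecMap_appLE f V.1 U.1 e


/-- global sections of an isomorphism of schemes -/
noncomputable def appTopIso {Y Z : Scheme.{u}} (e : Y ≅ Z) : Γ(Z, ⊤) ≅ Γ(Y, ⊤) where
  hom := e.hom.appTop
  inv := e.inv.appTop
  hom_inv_id := by rw [← Scheme.Hom.comp_appTop, e.inv_hom_id]; simp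
  inv_hom_id := by rw [← Scheme.Hom.comp_appTop, e.hom_inv_id]; simp

theorem isSyntomic_of_isStandardSyntomic_resLE (f : X ⟶ S) (U : X.affineOpens)
    (V : S.affineOpens) (e : U.1 ≤ f ⁻¹ᵁ V.1)
    (h : Synt.IsStandardSyntomic (f.resLE V.1 U.1 e)) :
    letI := (f.appLE V.1 U.1 e).hom.toAlgebra
    Synt.IsSyntomic Γ(S, V.1) Γ(X, U.1) := by
  obtain ⟨R, _, n, c, F, hGCI, e₁, e₂, heq⟩ := h
  set φ := CommRingCat.ofHom (algebraMap R (Synt.RelGCIRing R n c F)) with hφ
  let αI : CommRingCat.of R ≅ Γ(S, V.1) :=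
    (Scheme.ΓSpecIso (CommRingCat.of R)).symm ≪≫ (appTopIso e₂ ≪≫ V.1.topIso)
  let βI : CommRingCat.of (Synt.RelGCIRing R n c F) ≅ Γ(X, U.1) :=
    (Scheme.ΓSpecIso (CommRingCat.of (Synt.RelGCIRing R n c F))).symm ≪≫
      (appTopIso e₁ ≪≫ U.1.topIso)
  have hw : V.1.topIso.hom ≫ f.appLE V.1 U.1 e =
      (f.resLE V.1 U.1 e).appTop ≫ U.1.topIso.hom := by
    have := (arrowResLEAppIso f V.1 U.1 e).hom.w
    simpa [arrowResLEAppIso] using this
  have hcomm : φ ≫ βI.hom = αI.hom ≫ f.appLE V.1 U.1 e := by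
    show φ ≫ (Scheme.ΓSpecIso _).inv ≫ e₁.hom.appTop ≫ U.1.topIso.hom =
      ((Scheme.ΓSpecIso _).inv ≫ e₂.hom.appTop ≫ V.1.topIso.hom) ≫ f.appLE V.1 U.1 e
    rw [Scheme.ΓSpecIso_inv_naturality_assoc, Category.assoc, Category.assoc, hw]
    congr 1
    rw [← Category.assoc, ← Category.assoc]
    congr 1
    rw [← Scheme.Hom.comp_appTop, ← Scheme.Hom.comp_appTop, heq]
  exact isSyntomic_of_equiv' (f.appLE V.1 U.1 e).hom αI.commRingCatIsoToRingEquiv
    βI.commRingCatIsoToRingEquiv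
    (fun a => congrArg (fun ψ => ψ.hom a) hcomm)
    (Groth.Agent.Lib.Helper35.RelGCI.isSyntomic R n c F hGCI)

end Scheme

end Groth.Agent.Lib.Helper35.SyntStd
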