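import Mathlib.RingTheory.Flat.TorsionFree
import Mathlib.RingTheory.Flat.Stability
import Mathlib.RingTheory.Flat.Localization
import Mathlib.RingTheory.Localization.BaseChange
import Mathlib.RingTheory.Localization.FractionRing
import Mathlib.Algebra.Module.Torsion.Free
import Mathlib.LinearAlgebra.FreeModule.Basic

/-! Helper lemmas on torsion-free modules over domains (helper35). -/

set_option autoImplicit false
universe u v

namespace Groth.Agent.Lib.Helper35

open TensorProduct

/-- A torsion free module over a domain injects into its base change to the fraction field. -/
theorem mk_fractionRing_injective (R : Type u) [CommRing R] [IsDomain R] (M : Type v)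
    [AddCommGroup M] [Module R M] [Module.IsTorsionFree R M] :
    Function.Injective (TensorProduct.mk R (FractionRing R) M 1) := by
  rw [injective_iff_map_eq_zero]
  intro m hm
  have h := (IsLocalizedModule.eq_zero_iff (nonZeroDivisors R)
    (TensorProduct.mk R (FractionRing R) M 1) (m := m)).mp hm
  obtain ⟨s, hs⟩ := h
  have hs0 : (s : R) ≠ 0 := nonZeroDivisors.ne_zero s.2
  exact (smul_eq_zero_iff_right hs0).mp hs

/-- The base change of a module over a domain to the fraction field is flat over the domain. -/
theorem flat_fractionRing_tensor (R : Type u) [CommRing R] [IsDomain R] (M : Type v)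
    [AddCommGroup M] [Module R M] : Module.Flat R (FractionRing R ⊗[R] M) := by
  have : Module.Flat R (FractionRing R) := IsLocalization.flat (FractionRing R) (nonZeroDivisors R)
  exact Module.Flat.trans R (FractionRing R) (FractionRing R ⊗[R] M)

end Groth.Agent.Lib.Helper35
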