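import Mathlib
import Groth.Agent.Lib.Helper35.UnramSplitScheme2

set_option autoImplicit false
set_option linter.style.haveILetI false
set_option maxHeartbeats 400000
set_option backward.isDefEq.respectTransparency.types false
universe u

namespace Groth.Agent.Lib.Helper35.UnramSplitScheme

open AlgebraicGeometry CategoryTheory Limits

/-- the open complement of a finite family of clopen subschemes. -/
lemma exists_compl_iUnion {P : Scheme.{u}} {K : Type} [Finite K] (V : K → P.Opens)
    (hcl : ∀ k, IsClosed (V k : Set P)) :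
    ∃ W : P.Opens, (∀ w, w ∈ W ↔ ∀ k, w ∉ V k) ∧ W ⊔ (⨆ k, V k) = ⊤ ∧ ∀ k, Disjoint W (V k) := by
  classical
  refine ⟨⟨(⋃ k, (V k : Set P))ᶜ, (isClosed_iUnion_of_finite hcl).isOpen_compl⟩, ?_, ?_, ?_⟩
  · intro w
    show w ∉ ⋃ k, (V k : Set P) ↔ _
    simp
  · rw [eq_top_iff]
    intro w _
    by_cases h : ∃ k, w ∈ V k
    · obtain ⟨k, hk⟩ := h
      exact (le_sup_right : (⨆ k, V k) ≤ _) ((le_iSup V k) hk)
    · refine (le_sup_left : _ ≤ _ ⊔ (⨆ k, V k)) ?_
      show w ∉ ⋃ k, (V k : Set P)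
      simpa using h
  · intro k
    rw [disjoint_iff]
    ext w
    simp only [TopologicalSpace.Opens.coe_inf, Set.mem_inter_iff, SetLike.mem_coe,
      TopologicalSpace.Opens.coe_bot, Set.mem_empty_iff_false, iff_false, not_and]
    intro hw hk
    exact hw (Set.mem_iUnion.mpr ⟨k, hk⟩)

end Groth.Agent.Lib.Helper35.UnramSplitScheme
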